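/-
Presentations by lists of words, used through coset tables.
Main definitions: `evp`, `presSetup`.
Main results: `presHom`, `evp_eq_of_tw`, `mem_closureOf_of_tw`.
-/
import Cfsg.Agent.EqLemmas
import Cfsg.Agent.Lib.CosetEnum.Index

set_option autoImplicit false

namespace Cfsg.Agent.HSType

open Cfsg.Agent.CosetEnum Cfsg.Agent.CosetEnum.Data

/-- The value of a word, multiplied from left to right. -/
def evp {G : Type*} [Group G] (f : ℕ → G) : List ℕ → G
  | [] => 1
  | z :: l => f z * evp f l

theorem evp_append {G : Type*} [Group G] (f : ℕ → G) : ∀ l k : List ℕ, evp f (l ++ k) = evp f l * evp f k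
  | [], k => by simp [evp]
  | z :: l, k => by simp [evp, evp_append f l k, mul_assoc]

theorem evp_reverse {G : Type*} [Group G] (f : ℕ → G) : ∀ l : List ℕ, evp f l = ev f l.reverse
  | [] => rfl
  | z :: l => by
    rw [List.reverse_cons, ev_append, ← evp_reverse f l]
    simp [evp, ev]

theorem map_evp {G K : Type*} [Group G] [Group K] (φ : G →* K) (f : ℕ → G) :
    ∀ l : List ℕ, φ (evp f l) = evp (fun z => φ (f z)) l
  | [] => map_one φ
  | z :: l => by simp [evp, map_evp φ f l]

theorem evp_congr {G : Type*} [Group G] {f g : ℕ → G} :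
    ∀ l : List ℕ, (∀ z ∈ l, f z = g z) → evp f l = evp g l
  | [], _ => rfl
  | z :: l, h => by
    simp only [evp]
    rw [h z List.mem_cons_self, evp_congr l fun y hy => h y (List.mem_cons_of_mem z hy)]

/-- The free group element of a letter: `2 i` the `i`-th generator, `2 i + 1` its inverse. -/
def fwLetter (m : ℕ) (z : ℕ) : FreeGroup (Fin m) :=
  if h : z / 2 < m then (if z % 2 = 0 then FreeGroup.of ⟨z / 2, h⟩ else (FreeGroup.of ⟨z / 2, h⟩)⁻¹) else 1

/-- The setup of a presentation by words. -/
def presSetup (m : ℕ) (rels : List (List ℕ)) : Setup (Fin m) where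
  edges := []
  extra := rels.map (evp (fwLetter m))
  gens := List.finRange m
  pos := (List.range m).map (fun i => 2 * i)
  lt := (List.finRange m).flatMap fun i => [(i, true), (i, false)]

theorem presSetup_gens (m : ℕ) (rels : List (List ℕ)) : ∀ x, x ∈ (presSetup m rels).gens :=
  fun x => List.mem_finRange x

variable {m : ℕ} {rels : List (List ℕ)}

theorem lift_evp {G : Type*} [Group G] (f : ℕ → G) (hinv : ∀ i < m, f (2 * i + 1) = (f (2 * i))⁻¹) (l : List ℕ)
    (hl : ∀ z ∈ l, z < 2 * m) :
    FreeGroup.lift (fun i : Fin m => f (2 * i.val)) (evp (fwLetter m) l) = evp f l := by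
  rw [map_evp]
  refine evp_congr l fun z hz => ?_
  have h : z / 2 < m := by have := hl z hz; omega
  simp only [fwLetter, dif_pos h]
  split <;> rename_i hp
  · rw [FreeGroup.lift_apply_of]
    congr 1
    show 2 * (z / 2) = z
    omega
  · rw [map_inv, FreeGroup.lift_apply_of, ← hinv _ h]
    congr 1
    omega

/-- The homomorphism given by elements satisfying the relations. -/
theorem exists_presHom {G : Type*} [Group G] (f : ℕ → G) (hinv : ∀ i < m, f (2 * i + 1) = (f (2 * i))⁻¹)
    (hlt : rels.all (fun r => r.all fun z => Nat.blt z (2 * m)) = true) (h : ∀ r ∈ rels, evp f r = 1) :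
    ∃ φ : (presSetup m rels).G →* G, ∀ i : Fin m, φ (PresentedGroup.of i) = f (2 * i.val) := by
  have hrel : ∀ r ∈ (presSetup m rels).rels, FreeGroup.lift (fun i : Fin m => f (2 * i.val)) r = 1 := by
    intro r hr
    rcases hr with ⟨x, hx, _⟩ | hr
    · simp [presSetup, Cfsg.Spor.coxNodes] at hx
    · obtain ⟨l, hl, rfl⟩ := List.mem_map.1 (show r ∈ rels.map (evp (fwLetter m)) from hr)
      simp only [List.all_eq_true, Nat.blt_eq] at hlt
      rw [lift_evp f hinv l (hlt l hl), h l hl]
  exact ⟨PresentedGroup.toGroup hrel, fun i => PresentedGroup.toGroup.of _⟩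

/-- The letters of the setup. -/
theorem el_even (i : Fin m) : (presSetup m rels).el (2 * i.val) = PresentedGroup.of i := by
  have h : ((List.finRange m).flatMap fun i => [(i, true), (i, false)])[2 * i.val]? = some (i, true) := by
    have key : ∀ (l : List (Fin m)) (j : ℕ) (hj : j < l.length),
        (l.flatMap fun i => [(i, true), (i, false)])[2 * j]? = some (l[j], true) := by
      intro l
      induction l with
      | nil => intro j hj; simp at hj
      | cons a l ih =>
        intro j hj
        rcases j with _ | j
        · simp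
        · simp only [List.flatMap_cons, Nat.mul_succ]
          simpa using ih j (by simpa using hj)
    simpa using key (List.finRange m) i.val (by simp)
  simp [Setup.el, presSetup, h]

theorem el_odd (i : Fin m) : (presSetup m rels).el (2 * i.val + 1) = (PresentedGroup.of i)⁻¹ := by
  have h : ((List.finRange m).flatMap fun i => [(i, true), (i, false)])[2 * i.val + 1]? = some (i, false) := by
    have key : ∀ (l : List (Fin m)) (j : ℕ) (hj : j < l.length),
        (l.flatMap fun i => [(i, true), (i, false)])[2 * j + 1]? = some (l[j], false) := by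
      intro l
      induction l with
      | nil => intro j hj; simp at hj
      | cons a l ih =>
        intro j hj
        rcases j with _ | j
        · simp
        · simp only [List.flatMap_cons, Nat.mul_succ]
          simpa using ih j (by simpa using hj)
    simpa using key (List.finRange m) i.val (by simp)
  simp [Setup.el, presSetup, h]

/-- A homomorphism given on the generators evaluates words. -/
theorem presHom_evp {G : Type*} [Group G] {φ : (presSetup m rels).G →* G} {f : ℕ → G}
    (hinv : ∀ i < m, f (2 * i + 1) = (f (2 * i))⁻¹) (hφ : ∀ i : Fin m, φ (PresentedGroup.of i) = f (2 * i.val))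
    (l : List ℕ) (hl : ∀ z ∈ l, z < 2 * m) : φ (evp (presSetup m rels).el l) = evp f l := by
  rw [map_evp]
  refine evp_congr l fun z hz => ?_
  have h : z / 2 < m := by have := hl z hz; omega
  rcases Nat.mod_two_eq_zero_or_one z with hp | hp
  · have e : z = 2 * (z / 2) := by omega
    rw [e]
    exact (congrArg φ (el_even ⟨z / 2, h⟩)).trans (hφ ⟨z / 2, h⟩)
  · have e : z = 2 * (z / 2) + 1 := by omega
    rw [e]
    refine (congrArg φ (el_odd ⟨z / 2, h⟩)).trans ?_
    rw [map_inv, hφ, hinv _ h]

variable {D : Data} {hs : List (FreeGroup (Fin m))}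

/-- A word returning to the base point lies in the subgroup. -/
theorem mem_closureOf_of_tw (hc : D.check = true) (hok : Setup.tableOK (presSetup m rels) D hs [] = true)
    (l : List ℕ) (hl : ∀ z ∈ l, z < D.k) (h : D.tw l.reverse 0 = 0) :
    evp (presSetup m rels).el l ∈ (presSetup m rels).closureOf hs := by
  have hg := presSetup_gens m rels
  have T := Setup.Table.mk' hg hc hok (fun w hw => by simp at hw)
  obtain ⟨ext, hsrc, hext⟩ := T.src
  obtain ⟨e, he0, he⟩ := Setup.exists_equiv T.gens T.letters T.check T.rels T.perm T.subs hsrc _ rfl hext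
  set g := evp (presSetup m rels).el l with hgdef
  have h1 : Setup.hom T.gens T.letters T.perm T.rels g ⟨0, T.perm.hn⟩ = ⟨0, T.perm.hn⟩ := by
    have hmap : Setup.hom T.gens T.letters T.perm T.rels g = ev (Setup.perm D T.perm) l.reverse := by
      rw [hgdef, map_evp, evp_reverse]
      exact Setup.ev_congr _ fun a ha => Setup.hom_el T.gens T.letters T.perm T.rels (hl a (List.mem_reverse.1 ha))
    rw [hmap]
    apply Fin.ext
    rw [Setup.ev_perm T.perm _ (fun a ha => hl a (List.mem_reverse.1 ha))]
    exact h
  have h2 := he g ⟨0, T.perm.hn⟩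
  rw [h1, he0] at h2
  have h3 : ((g * 1 : (presSetup m rels).G) : (presSetup m rels).G ⧸ (presSetup m rels).closureOf hs) =
      ((1 : (presSetup m rels).G) : (presSetup m rels).G ⧸ (presSetup m rels).closureOf hs) := h2
  rw [mul_one] at h3
  simpa using (QuotientGroup.eq.1 h3.symm)

/-- Over the trivial subgroup a word returning to the base point is trivial. -/
theorem evp_eq_one_of_tw (hc : D.check = true) (hok : Setup.tableOK (presSetup m rels) D [] [] = true)
    (l : List ℕ) (hl : ∀ z ∈ l, z < D.k) (h : D.tw l.reverse 0 = 0) : evp (presSetup m rels).el l = 1 := by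
  have h1 := mem_closureOf_of_tw hc hok l hl h
  rwa [Setup.closureOf_nil, Subgroup.mem_bot] at h1

end Cfsg.Agent.HSType
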