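/-
The relations of the amalgam of `4^3:L3(2)` and the outer element.
Letters `0-9` are those of `Frame.letG`, `10, 11` the outer element and its inverse.
Main definitions: `relsHS`, `hsSetup`, `hsM`.
-/
import Cfsg.Agent.Lib.HSType.Pres

set_option autoImplicit false

namespace Cfsg.Agent.HSType

open Cfsg.Agent.CosetEnum

/-- See the module docstring. -/
def relsHS : List (List ℕ) :=
  [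
    [0, 0, 0, 0],
    [2, 2, 2, 2],
    [4, 4, 4, 4],
    [6, 6],
    [8, 8, 8],
    [1, 3, 0, 2],
    [1, 5, 0, 4],
    [3, 5, 2, 4],
    [7, 0, 6, 3, 3, 1, 1, 1],
    [7, 2, 6, 3, 3, 3],
    [7, 4, 6, 5, 3, 1, 1],
    [9, 0, 8, 5, 5, 3, 1, 1],
    [9, 2, 8, 5],
    [9, 4, 8, 5, 5, 3, 3, 1],
    [6, 8, 6, 8, 6, 8, 6, 8, 6, 8, 6, 8, 6, 8],
    [7, 9, 6, 8, 7, 9, 6, 8, 7, 9, 6, 8, 7, 9, 6, 8],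
    [11, 2, 4, 4, 10, 5, 5, 3, 5, 5, 3, 5, 5, 3],
    [11, 6, 10, 7],
    [11, 8, 6, 8, 8, 6, 8, 6, 8, 6, 8, 10, 9, 7, 9, 7, 9, 7, 9, 9, 7, 9],
    [10, 8, 8, 6, 8, 4, 10, 8, 8, 6, 8, 4, 10, 8, 8, 6, 8, 4],
    [10, 10],
    [11, 8, 8, 6, 8, 10, 5, 5, 3, 5, 5, 3, 9, 7, 9, 9],
    [10, 8, 6, 8, 6, 8, 8, 6, 8, 8, 10, 8, 6, 8, 6, 8, 8, 6, 8, 8, 10, 8, 6, 8, 6, 8, 8, 6, 8, 8, 10, 8, 6,
      8, 6, 8, 8, 6, 8, 8, 10, 8, 6, 8, 6, 8, 8, 6, 8, 8],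
    [10, 6, 4, 8, 6, 8, 6, 8, 8, 6, 8, 6, 8, 10, 6, 8, 6, 8, 6, 8, 8, 6, 8, 0, 6, 8, 6, 10, 6, 4, 8, 6, 8,
      6, 8, 8, 6, 8, 6, 8, 10, 6, 8, 6, 8, 6, 8, 8, 6, 8, 0, 6, 8, 6, 10, 6, 4, 8, 6, 8, 6, 8, 8, 6, 8, 6,
      8, 10, 6, 8, 6, 8, 6, 8, 8, 6, 8, 0, 6, 8, 6, 10, 6, 4, 8, 6, 8, 6, 8, 8, 6, 8, 6, 8, 10, 6, 8, 6, 8,
      6, 8, 8, 6, 8, 0, 6, 8, 6, 10, 6, 4, 8, 6, 8, 6, 8, 8, 6, 8, 6, 8, 10, 6, 8, 6, 8, 6, 8, 8, 6, 8, 0,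
      6, 8, 6]]

/-- The presented group. -/
def hsSetup : Setup (Fin 6) :=
  presSetup 6 relsHS

/-- The generators of the maximal subgroup. -/
def hsM : List (FreeGroup (Fin 6)) :=
  [FreeGroup.of 0, FreeGroup.of 1, FreeGroup.of 2, FreeGroup.of 3, FreeGroup.of 4]

end Cfsg.Agent.HSType
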