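/-
First consequences of the hypotheses of the recognition theorem.
Main definitions: `Setting`, `Setting.W`.
Main results: `Setting.sq_mem`, `Setting.t_mem_V`, `Setting.centralizer_V`, `Setting.R_le_M`, `Setting.mem_RW`.
-/
import Cfsg.Agent.EqLemmas
import Cfsg.Agent.Lib.Extraspecial.Basic
import Cfsg.Agent.Lib.Cores.Basic
import Cfsg.Agent.Lib.Linear.SLn
import Cfsg.Agent.Lib.GLOrder.Basic

set_option autoImplicit false
open scoped commutatorElement

namespace Cfsg.Agent.HSType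

/-- The hypotheses of the recognition theorem, with `H` the centralizer of `t`. -/
structure Setting (G : Type*) [Group G] where
  t : G
  R : Subgroup G
  Cy : Subgroup G
  E : Subgroup G
  V : Subgroup G
  M : Subgroup G
  ht : orderOf t = 2
  hR : R = (Cfsg.pCore 2 (Subgroup.centralizer ({t} : Set G))).map (Subgroup.centralizer ({t} : Set G)).subtype
  hCy : IsCyclic Cy
  hCycard : Nat.card Cy = 4
  hCyle : Cy ≤ R ⊓ Subgroup.centralizer (R : Set G)
  hEle : E ≤ R
  hEex : Cfsg.IsExtraspecial 2 E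
  hEcard : Nat.card E = 32
  hprod : Cy ⊔ E = R
  hmeet : Cy ⊓ E = E ⊓ Subgroup.centralizer (E : Set G)
  eH : (Subgroup.centralizer ({t} : Set G)) ⧸ Cfsg.pCore 2 (Subgroup.centralizer ({t} : Set G)) ≃*
    Equiv.Perm (Fin 5)
  hVcomm : ∀ u ∈ V, ∀ v ∈ V, u * v = v * u
  hVexp : ∀ v ∈ V, v ^ 2 = 1
  hVcard : Nat.card V = 8
  hVR : V ≤ R
  hM : M = Subgroup.normalizer (V : Set G)
  eOM : Cfsg.pCore 2 M ≃* Multiplicative (ZMod 4 × ZMod 4 × ZMod 4)
  eM : M ⧸ Cfsg.pCore 2 M ≃* GL (Fin 3) (ZMod 2)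

theorem natCard_gl3 : Nat.card (GL (Fin 3) (ZMod 2)) = 168 := by
  rw [Matrix.card_GL_field]; simp [Fin.prod_univ_succ]

theorem isSimpleGroup_gl3 : IsSimpleGroup (GL (Fin 3) (ZMod 2)) := by
  have hS : Nat.card (Matrix.SpecialLinearGroup (Fin 3) (ZMod 2)) = 168 := by
    rw [Cfsg.Agent.GLOrder.card_SL, Nat.card_zmod]; decide
  have hP : Nat.card (Matrix.ProjectiveSpecialLinearGroup (Fin 3) (ZMod 2)) = 168 := by
    rw [Cfsg.Agent.GLOrder.card_PSL, hS, Nat.card_zmod, Fintype.card_fin]; decide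
  have e : Matrix.SpecialLinearGroup (Fin 3) (ZMod 2) ≃*
      Matrix.ProjectiveSpecialLinearGroup (Fin 3) (ZMod 2) :=
    MulEquiv.ofBijective (QuotientGroup.mk' _) ((Nat.bijective_iff_surjective_and_card _).2
      ⟨QuotientGroup.mk'_surjective _, by rw [hS]; exact hP.symm⟩)
  haveI : IsSimpleGroup (Matrix.ProjectiveSpecialLinearGroup (Fin 3) (ZMod 2)) :=
    Cfsg.Agent.Linear.isSimpleGroup_psl (by simp)
  haveI := e.isSimpleGroup
  let f : Matrix.SpecialLinearGroup (Fin 3) (ZMod 2) →* GL (Fin 3) (ZMod 2) := Matrix.SpecialLinearGroup.toGL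
  have hf : Function.Injective f := fun x y h => Subtype.ext (congrArg Units.val h)
  have hb : Function.Bijective f :=
    (Nat.bijective_iff_injective_and_card _).2 ⟨hf, by rw [hS, natCard_gl3]⟩
  exact (MulEquiv.ofBijective f hb).symm.isSimpleGroup

namespace Setting

variable {G : Type*} [Group G] (S : Setting G)

/-- The centralizer of `t`. -/
abbrev H : Subgroup G := Subgroup.centralizer ({S.t} : Set G)

/-- The largest normal two-subgroup of the normalizer of `V`. -/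
def W : Subgroup G := (Cfsg.pCore 2 S.M).map S.M.subtype

theorem t_ne : S.t ≠ 1 := fun h => by simpa [h] using S.ht

theorem t_sq : S.t * S.t = 1 := by rw [← pow_two, ← S.ht]; exact pow_orderOf_eq_one _

theorem mem_H {x : G} : x ∈ S.H ↔ x * S.t = S.t * x := by
  rw [H, Subgroup.mem_centralizer_iff]
  simp only [Set.mem_singleton_iff, forall_eq]
  exact eq_comm

theorem R_le_H : S.R ≤ S.H := S.hR ▸ Subgroup.map_subtype_le _

theorem R_comm {c r : G} (hc : c ∈ S.Cy) (hr : r ∈ S.R) : c * r = r * c :=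
  (Subgroup.mem_centralizer_iff.1 (S.hCyle hc).2 r hr).symm

theorem conj_mem_R {h r : G} (hh : h ∈ S.H) (hr : r ∈ S.R) : h * r * h⁻¹ ∈ S.R := by
  rw [S.hR] at hr ⊢
  obtain ⟨x, hx, rfl⟩ := hr
  exact ⟨⟨h, hh⟩ * x * ⟨h, hh⟩⁻¹, (Cores.pCore_normal 2 _).conj_mem x hx _, rfl⟩

theorem conj_mem_R' {h r : G} (hh : h ∈ S.H) (hr : r ∈ S.R) : h⁻¹ * r * h ∈ S.R := by
  simpa using S.conj_mem_R (inv_mem hh) hr

theorem exists_mul_eq {x : G} (hx : x ∈ S.R) : ∃ y ∈ S.Cy, ∃ e ∈ S.E, x = y * e := by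
  rw [← S.hprod, Subgroup.sup_eq_closure] at hx
  induction hx using Subgroup.closure_induction with
  | mem x hx =>
    rcases hx with hx | hx
    · exact ⟨x, hx, 1, one_mem _, (mul_one x).symm⟩
    · exact ⟨1, one_mem _, x, hx, (one_mul x).symm⟩
  | one => exact ⟨1, one_mem _, 1, one_mem _, (one_mul 1).symm⟩
  | mul a b _ _ iha ihb =>
    obtain ⟨y, hy, e, he, rfl⟩ := iha
    obtain ⟨z, hz, f, hf, rfl⟩ := ihb
    refine ⟨y * z, mul_mem hy hz, e * f, mul_mem he hf, ?_⟩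
    calc y * e * (z * f) = y * (e * z) * f := by group
      _ = y * z * (e * f) := by rw [← S.R_comm hz (S.hEle he)]; group
  | inv a _ iha =>
    obtain ⟨y, hy, e, he, rfl⟩ := iha
    exact ⟨y⁻¹, inv_mem hy, e⁻¹, inv_mem he, by
      rw [mul_inv_rev, ← S.R_comm (inv_mem hy) (inv_mem (S.hEle he))]⟩

theorem mem_center_E {e : S.E} : e ∈ Subgroup.center S.E ↔ (e : G) ∈ S.Cy := by
  constructor
  · intro h
    have : (e : G) ∈ S.Cy ⊓ S.E := by
      rw [S.hmeet]
      exact ⟨e.2, Subgroup.mem_centralizer_iff.2 fun g hg =>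
        congrArg Subtype.val (Subgroup.mem_center_iff.1 h ⟨g, hg⟩)⟩
    exact this.1
  · intro h
    exact Subgroup.mem_center_iff.2 fun g => Subtype.ext (S.R_comm h (S.hEle g.2)).symm

variable [Finite G]

theorem card_R : Nat.card S.R = 64 := by
  let f : S.Cy × S.E →* G :=
    { toFun := fun p => (p.1 : G) * p.2
      map_one' := by simp
      map_mul' := fun p q => by
        show (p.1 : G) * q.1 * ((p.2 : G) * q.2) = p.1 * p.2 * (q.1 * q.2)
        calc (p.1 : G) * q.1 * ((p.2 : G) * q.2) = p.1 * (q.1 * p.2) * q.2 := by group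
          _ = _ := by rw [S.R_comm q.1.2 (S.hEle p.2.2)]; group }
  have hrange : f.range = S.R := by
    ext x
    constructor
    · rintro ⟨p, rfl⟩
      exact mul_mem (S.hCyle p.1.2).1 (S.hEle p.2.2)
    · intro hx
      obtain ⟨y, hy, e, he, rfl⟩ := S.exists_mul_eq hx
      exact ⟨(⟨y, hy⟩, ⟨e, he⟩), rfl⟩
  have hker : Nat.card f.ker = 2 := by
    rw [← S.hEex.2]
    refine Nat.card_congr
      { toFun := fun p => ⟨p.1.2, S.mem_center_E.2 (by
          have h : (p.1.1 : G) * p.1.2 = 1 := p.2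
          rw [eq_inv_of_mul_eq_one_right h]
          exact inv_mem p.1.1.2)⟩
        invFun := fun e => ⟨(⟨(e.1 : G)⁻¹, inv_mem (S.mem_center_E.1 e.2)⟩, e.1), inv_mul_cancel _⟩
        left_inv := fun p => ?_
        right_inv := fun e => rfl }
    have h : (p.1.1 : G) * p.1.2 = 1 := p.2
    exact Subtype.ext (Prod.ext (Subtype.ext (eq_inv_of_mul_eq_one_left h).symm) rfl)
  have h := Subgroup.card_mul_index f.ker
  rw [Subgroup.index_ker, hrange, hker, Nat.card_prod, S.hCycard, S.hEcard] at h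
  omega

theorem card_H : Nat.card S.H = 7680 := by
  have h1 : Nat.card (Cfsg.pCore 2 S.H) = 64 := by
    rw [← S.card_R, S.hR]
    exact Nat.card_congr (Subgroup.equivMapOfInjective _ _ Subtype.val_injective).toEquiv
  rw [← Subgroup.card_mul_index (Cfsg.pCore 2 S.H), h1, Subgroup.index, Nat.card_congr S.eH.toEquiv,
    Nat.card_perm, Nat.card_fin]
  rfl

theorem t_mem_R : S.t ∈ S.R := by
  have htH : S.t ∈ S.H := S.mem_H.2 rfl
  have hn : (Subgroup.zpowers (⟨S.t, htH⟩ : S.H)).Normal := by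
    refine ⟨fun n hn g => ?_⟩
    obtain ⟨k, rfl⟩ := Subgroup.mem_zpowers_iff.1 hn
    refine Subgroup.mem_zpowers_iff.2 ⟨k, ?_⟩
    have hc : Commute g (⟨S.t, htH⟩ : S.H) := Subtype.ext (S.mem_H.1 g.2)
    rw [(hc.zpow_right k).eq, mul_inv_cancel_right]
  have hp : IsPGroup 2 (Subgroup.zpowers (⟨S.t, htH⟩ : S.H)) :=
    IsPGroup.of_card (n := 1) (by rw [Nat.card_zpowers, ← Subgroup.orderOf_coe, pow_one]; exact S.ht)
  rw [S.hR]
  exact ⟨⟨S.t, htH⟩, Cores.le_pCore hn hp (Subgroup.mem_zpowers _), rfl⟩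

theorem t_mem_Cy : S.t ∈ S.Cy := by
  obtain ⟨y, hy, e, he, hye⟩ := S.exists_mul_eq S.t_mem_R
  have hec : (⟨e, he⟩ : S.E) ∈ Subgroup.center S.E := by
    refine Subgroup.mem_center_iff.2 fun g => Subtype.ext ?_
    show (g : G) * e = e * g
    have h1 : (g : G) * S.t = S.t * g := S.mem_H.1 (S.R_le_H (S.hEle g.2))
    have he' : e = y⁻¹ * S.t := by rw [hye, inv_mul_cancel_left]
    rw [he', ← mul_assoc, ← S.R_comm (inv_mem hy) (S.hEle g.2), mul_assoc, h1, mul_assoc]
  rw [hye]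
  exact mul_mem hy (S.mem_center_E.1 hec)

theorem exists_gen : ∃ c ∈ S.Cy, orderOf c = 4 ∧ c * c = S.t ∧ ∀ x ∈ S.Cy, ∃ k < 4, x = c ^ k := by
  obtain ⟨⟨c, hc⟩, hgen⟩ := S.hCy.exists_generator
  have ho : orderOf c = 4 := by
    rw [← S.hCycard, ← orderOf_eq_card_of_forall_mem_zpowers hgen, ← Subgroup.orderOf_coe]
  have hall : ∀ x ∈ S.Cy, ∃ k < 4, x = c ^ k := by
    intro x hx
    obtain ⟨k, hk⟩ := (mem_powers_iff_mem_zpowers (x := (⟨c, hc⟩ : S.Cy))).2 (hgen ⟨x, hx⟩)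
    refine ⟨k % 4, Nat.mod_lt _ (by norm_num), ?_⟩
    have e : c ^ k = x := congrArg Subtype.val hk
    rw [← e, ← ho, pow_mod_orderOf]
  refine ⟨c, hc, ho, ?_, hall⟩
  have h2 := S.ht
  obtain ⟨k, hk, hkt⟩ := hall _ S.t_mem_Cy
  rw [hkt] at h2 ⊢
  interval_cases k
  · simp at h2
  · rw [pow_one, ho] at h2; omega
  · rw [pow_two]
  · rw [orderOf_pow' c (by norm_num), ho] at h2
    norm_num at h2

theorem center_E_cases {e : S.E} (he : e ∈ Subgroup.center S.E) : (e : G) = 1 ∨ (e : G) = S.t := by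
  obtain ⟨c, hc, ho, hct, hall⟩ := S.exists_gen
  obtain ⟨k, hk, hk'⟩ := hall _ (S.mem_center_E.1 he)
  have h2 : (e : G) ^ 2 = 1 := by
    have h := pow_card_eq_one' (x := (⟨e, he⟩ : Subgroup.center S.E))
    rw [S.hEex.2] at h
    exact congrArg (fun z : Subgroup.center S.E => ((z : S.E) : G)) h
  rw [hk', ← pow_mul] at h2
  have hd := orderOf_dvd_of_pow_eq_one h2
  rw [ho] at hd
  interval_cases k
  · exact Or.inl (by simpa using hk')
  · omega
  · exact Or.inr (by rw [hk', pow_two, hct])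
  · omega

/-- Squares in `R` are `1` or `t`. -/
theorem sq_mem {x : G} (hx : x ∈ S.R) : x * x = 1 ∨ x * x = S.t := by
  obtain ⟨y, hy, e, he, rfl⟩ := S.exists_mul_eq hx
  have h1 : y * e * (y * e) = y * y * (e * e) := by
    calc y * e * (y * e) = y * (e * y) * e := by group
      _ = y * y * (e * e) := by rw [← S.R_comm hy (S.hEle he)]; group
  have h2 : e * e = 1 ∨ e * e = S.t := by
    have h := Extraspecial.pow_mem_center (p := 2) S.hEex (⟨e, he⟩ : S.E)
    simpa [pow_two] using S.center_E_cases h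
  obtain ⟨c, hc, ho, hct, hall⟩ := S.exists_gen
  obtain ⟨k, -, rfl⟩ := hall y hy
  have h3 : c ^ k * c ^ k = 1 ∨ c ^ k * c ^ k = S.t := by
    rw [← pow_add, ← two_mul, pow_mul, pow_two, hct]
    rcases Nat.even_or_odd k with ⟨l, rfl⟩ | ⟨l, rfl⟩
    · left; rw [← two_mul, pow_mul, pow_two, S.t_sq, one_pow]
    · right; rw [pow_succ, pow_mul, pow_two S.t, S.t_sq, one_pow, one_mul]
  rw [h1]
  rcases h3 with a | a <;> rcases h2 with b | b <;> rw [a, b]
  · exact Or.inl (mul_one 1)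
  · exact Or.inr (one_mul _)
  · exact Or.inr (mul_one _)
  · exact Or.inl S.t_sq

/-- Commutators in `R` are `1` or `t`. -/
theorem comm_mem {x y : G} (hx : x ∈ S.R) (hy : y ∈ S.R) : x * y = y * x ∨ x * y = S.t * (y * x) := by
  have ht : ∀ g ∈ S.R, g * S.t = S.t * g := fun g hg => S.mem_H.1 (S.R_le_H hg)
  have hxy := S.sq_mem (mul_mem hx hy)
  have hZ : ∀ z : G, z = 1 ∨ z = S.t → ∀ g ∈ S.R, g * z = z * g := by
    rintro z (rfl | rfl) g hg
    · rw [mul_one, one_mul]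
    · exact ht g hg
  have hk : ∀ r ∈ S.R, ∃ z, (z = 1 ∨ z = S.t) ∧ r⁻¹ = z * r := by
    intro r hr
    rcases S.sq_mem hr with h | h
    · exact ⟨1, Or.inl rfl, by rw [one_mul]; exact inv_eq_of_mul_eq_one_right h⟩
    · refine ⟨S.t, Or.inr rfl, inv_eq_of_mul_eq_one_right ?_⟩
      rw [← mul_assoc, ht r hr, mul_assoc, h, S.t_sq]
  obtain ⟨u, hu, hu'⟩ := hk y hy
  obtain ⟨v, hv, hv'⟩ := hk x hx
  obtain ⟨d, hd, hd'⟩ : ∃ d, (d = 1 ∨ d = S.t) ∧ y * x * (y * x) = d :=
    ⟨_, S.sq_mem (mul_mem hy hx), rfl⟩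
  have e : x * y = u * d * v * (y * x) := by
    calc x * y = y⁻¹ * (y * x * (y * x)) * x⁻¹ := by group
      _ = u * y * d * (v * x) := by rw [hd', hu', hv']
      _ = u * d * y * v * x := by rw [mul_assoc u y d, hZ d hd y hy]; group
      _ = u * d * v * (y * x) := by rw [mul_assoc (u * d) y v, hZ v hv y hy]; group
  rcases hu with rfl | rfl <;> rcases hd with rfl | rfl <;> rcases hv with rfl | rfl <;>
    simp [S.t_sq] at e <;> first | exact Or.inl e | exact Or.inr e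

theorem card_abelian_le {A : Subgroup G} (hA : A ≤ S.R) (hab : ∀ a ∈ A, ∀ b ∈ A, a * b = b * a) :
    Nat.card A ≤ 16 := by
  have h1 := Extraspecial.card_abelian_sq_le (p := 2) S.hEex (A := A.subgroupOf S.E)
    fun a ha b hb => Subtype.ext (hab _ ha _ hb)
  rw [S.hEcard] at h1
  have h2 : Nat.card (A.subgroupOf S.E) ≤ 8 := by
    by_contra h
    have : 9 * 9 ≤ Nat.card (A.subgroupOf S.E) * Nat.card (A.subgroupOf S.E) :=
      Nat.mul_le_mul (by omega) (by omega)
    omega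
  have h3 : Nat.card ↥(S.E ⊓ A) ≤ 8 := by
    rw [← Nat.card_congr (Subgroup.subgroupOfEquivOfLe (inf_le_left : S.E ⊓ A ≤ S.E)).toEquiv,
      Subgroup.inf_subgroupOf_left]
    exact h2
  have h4 : (S.E ⊓ A).relIndex A ≤ 2 := by
    rw [Subgroup.inf_relIndex_right]
    have h5 : S.E.relIndex S.R = 2 := by
      have := Subgroup.card_mul_index (S.E.subgroupOf S.R)
      rw [Nat.card_congr (Subgroup.subgroupOfEquivOfLe S.hEle).toEquiv, S.hEcard, S.card_R] at this
      show (S.E.subgroupOf S.R).index = 2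
      omega
    rw [← h5]
    exact Subgroup.relIndex_le_of_le_right hA (by rw [h5]; norm_num)
  have h5 := Subgroup.card_mul_index ((S.E ⊓ A).subgroupOf A)
  rw [Nat.card_congr (Subgroup.subgroupOfEquivOfLe (inf_le_right : S.E ⊓ A ≤ A)).toEquiv] at h5
  rw [← h5]
  exact (Nat.mul_le_mul h3 h4).trans (by norm_num)

theorem card_sup_of_comm {A B : Subgroup G} (h : ∀ a ∈ A, ∀ b ∈ B, a * b = b * a)
    (hdis : A ⊓ B = ⊥) : Nat.card A * Nat.card B ≤ Nat.card ↥(A ⊔ B) := by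
  rw [← Nat.card_prod]
  refine Nat.card_le_card_of_injective (fun p => ⟨p.1 * p.2, Subgroup.mul_mem_sup p.1.2 p.2.2⟩) ?_
  exact fun p q e => Subgroup.mul_injective_of_disjoint (disjoint_iff.2 hdis) (congrArg Subtype.val e)

theorem t_mem_V : S.t ∈ S.V := by
  by_contra hn
  obtain ⟨c, hc, ho, hct, hall⟩ := S.exists_gen
  have hdis : S.V ⊓ S.Cy = ⊥ := by
    rw [eq_bot_iff]
    rintro x ⟨hx, hxc⟩
    obtain ⟨k, hk, rfl⟩ := hall x hxc
    have h2 := orderOf_dvd_of_pow_eq_one ((pow_mul c k 2).trans (S.hVexp _ hx))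
    rw [ho] at h2
    interval_cases k
    · simp
    · omega
    · exfalso; rw [pow_two, hct] at hx; exact hn hx
    · omega
  have hcm : ∀ a ∈ S.V, ∀ b ∈ S.Cy, a * b = b * a := fun a ha b hb => (S.R_comm hb (S.hVR ha)).symm
  have h1 := card_sup_of_comm hcm hdis
  rw [S.hVcard, S.hCycard] at h1
  have hsup : S.V ⊔ S.Cy ≤ S.R := sup_le S.hVR (fun x hx => (S.hCyle hx).1)
  have hVC : S.V ≤ Subgroup.centralizer ((S.V ⊔ S.Cy : Subgroup G) : Set G) := by
    intro v hv
    rw [Subgroup.mem_centralizer_iff]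
    intro g hg
    have hg' : g ∈ Subgroup.centralizer ({v} : Set G) := by
      refine (sup_le ?_ ?_ : S.V ⊔ S.Cy ≤ _) hg
      · intro u hu; rw [Subgroup.mem_centralizer_iff]; rintro _ rfl; exact S.hVcomm _ hv u hu
      · intro u hu; rw [Subgroup.mem_centralizer_iff]; rintro _ rfl; exact hcm _ hv u hu
    exact (Subgroup.mem_centralizer_iff.1 hg' v rfl).symm
  have hab : ∀ a ∈ S.V ⊔ S.Cy, ∀ b ∈ S.V ⊔ S.Cy, a * b = b * a := by
    intro a ha b hb
    have hb' : b ∈ Subgroup.centralizer ((S.V ⊔ S.Cy : Subgroup G) : Set G) := by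
      refine (sup_le hVC ?_ : S.V ⊔ S.Cy ≤ _) hb
      intro u hu
      rw [Subgroup.mem_centralizer_iff]
      exact fun g hg => (S.R_comm hu (hsup hg)).symm
    exact Subgroup.mem_centralizer_iff.1 hb' a ha
  have := S.card_abelian_le hsup hab
  omega

theorem R_le_M : S.R ≤ S.M := by
  have key : ∀ r ∈ S.R, ∀ v ∈ S.V, r * v * r⁻¹ ∈ S.V := by
    intro r hr v hv
    rcases S.comm_mem hr (S.hVR hv) with h | h <;> rw [h]
    · rwa [mul_inv_cancel_right]
    · rw [← mul_assoc S.t, mul_inv_cancel_right]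
      exact mul_mem S.t_mem_V hv
  intro r hr
  rw [S.hM, Subgroup.mem_normalizer_iff]
  intro v
  refine ⟨key r hr v, fun hv => ?_⟩
  have := key r⁻¹ (inv_mem hr) _ hv
  simpa [mul_assoc] using this

theorem card_M : Nat.card S.M = 10752 := by
  rw [← Subgroup.card_mul_index (Cfsg.pCore 2 S.M), Nat.card_congr S.eOM.toEquiv, Subgroup.index,
    Nat.card_congr S.eM.toEquiv, natCard_gl3]
  simp [Nat.card_prod]

theorem card_W : Nat.card S.W = 64 := by
  rw [W, ← Nat.card_congr (Subgroup.equivMapOfInjective _ _ Subtype.val_injective).toEquiv,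
    Nat.card_congr S.eOM.toEquiv]
  simp [Nat.card_prod]

theorem W_le_M : S.W ≤ S.M := Subgroup.map_subtype_le _

theorem W_comm {x y : G} (hx : x ∈ S.W) (hy : y ∈ S.W) : x * y = y * x := by
  obtain ⟨a, ha, rfl⟩ := hx
  obtain ⟨b, hb, rfl⟩ := hy
  have h : (⟨a, ha⟩ : Cfsg.pCore 2 S.M) * ⟨b, hb⟩ = ⟨b, hb⟩ * ⟨a, ha⟩ :=
    S.eOM.injective (by rw [map_mul, map_mul, mul_comm])
  exact congrArg (fun z : Cfsg.pCore 2 S.M => ((z : S.M) : G)) h

theorem V_le_M : S.V ≤ S.M := S.hM ▸ Subgroup.le_normalizer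

theorem V_le_W : S.V ≤ S.W := by
  intro v hv
  have hn : (S.V.subgroupOf S.M).Normal := by
    subst_vars
    refine ⟨fun n hn g => ?_⟩
    have hg : (g : G) ∈ Subgroup.normalizer (S.V : Set G) := S.hM ▸ g.2
    exact (Subgroup.mem_normalizer_iff.1 hg _).1 hn
  have hp : IsPGroup 2 (S.V.subgroupOf S.M) :=
    IsPGroup.of_card (n := 3) (by rw [Nat.card_congr (Subgroup.subgroupOfEquivOfLe S.V_le_M).toEquiv, S.hVcard]; rfl)
  exact ⟨⟨v, S.V_le_M hv⟩, Cores.le_pCore hn hp hv, rfl⟩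

/-- The centralizer of `V` is `W`. -/
theorem centralizer_V : Subgroup.centralizer (S.V : Set G) = S.W := by
  have hCM : Subgroup.centralizer (S.V : Set G) ≤ S.M := S.hM ▸ Subgroup.centralizer_le_normalizer _
  have hWC : S.W ≤ Subgroup.centralizer (S.V : Set G) := fun x hx =>
    Subgroup.mem_centralizer_iff.2 fun v hv => S.W_comm (S.V_le_W hv) hx
  refine le_antisymm ?_ hWC
  haveI := Cores.pCore_normal 2 S.M
  set K : Subgroup S.M := (Subgroup.centralizer (S.V : Set G)).subgroupOf S.M with hK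
  have hKn : K.Normal := by
    refine ⟨fun n hn g => ?_⟩
    rw [hK, Subgroup.mem_subgroupOf, Subgroup.mem_centralizer_iff] at hn ⊢
    intro v hv
    have hg : (g : G) ∈ Subgroup.normalizer (S.V : Set G) := S.hM ▸ g.2
    have hv' : (g : G)⁻¹ * v * g ∈ S.V := (Subgroup.mem_normalizer_iff.1 hg _).2 (by
      simpa [mul_assoc] using hv)
    have h := hn _ hv'
    push_cast
    calc v * ((g : G) * n * (g : G)⁻¹) = g * ((g : G)⁻¹ * v * g * n) * (g : G)⁻¹ := by group
      _ = g * (n * ((g : G)⁻¹ * v * g)) * (g : G)⁻¹ := by rw [h]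
      _ = g * n * (g : G)⁻¹ * v := by group
  haveI := isSimpleGroup_gl3
  haveI : IsSimpleGroup (S.M ⧸ Cfsg.pCore 2 S.M) := S.eM.isSimpleGroup
  rcases IsSimpleGroup.eq_bot_or_eq_top_of_normal (K.map (QuotientGroup.mk' (Cfsg.pCore 2 S.M)))
      (hKn.map _ (QuotientGroup.mk'_surjective _)) with h | h
  · intro x hx
    rw [Subgroup.map_eq_bot_iff, QuotientGroup.ker_mk'] at h
    exact ⟨⟨x, hCM hx⟩, h hx, rfl⟩
  · exfalso
    have hKtop : K = ⊤ := by
      rw [eq_top_iff]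
      intro g _
      obtain ⟨k, hk, hkg⟩ : QuotientGroup.mk' (Cfsg.pCore 2 S.M) g ∈
          K.map (QuotientGroup.mk' (Cfsg.pCore 2 S.M)) := h ▸ trivial
      have hd : k⁻¹ * g ∈ Cfsg.pCore 2 S.M := QuotientGroup.eq.1 hkg
      have hd' : k⁻¹ * g ∈ K := hWC ⟨_, hd, rfl⟩
      simpa using mul_mem hk hd'
    have hMH : S.M ≤ S.H := fun x hx => by
      have h1 : (⟨x, hx⟩ : S.M) ∈ K := hKtop ▸ trivial
      rw [S.mem_H]
      exact (Subgroup.mem_centralizer_iff.1 h1 S.t S.t_mem_V).symm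
    have := Subgroup.card_dvd_of_le hMH
    rw [S.card_M, S.card_H] at this
    norm_num at this

theorem Cy_le_W : S.Cy ≤ S.W := by
  intro x hx
  rw [← S.centralizer_V, Subgroup.mem_centralizer_iff]
  exact fun v hv => (S.R_comm hx (S.hVR hv)).symm

theorem card_RW : Nat.card ↥(S.R ⊓ S.W) = 16 := by
  refine le_antisymm (S.card_abelian_le inf_le_left fun a ha b hb => S.W_comm ha.2 hb.2) ?_
  obtain ⟨c, hc, ho, hct, hall⟩ := S.exists_gen
  refine le_trans (le_of_eq ?_) (Nat.card_le_card_of_injective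
    (fun p : S.V × Fin 2 => (⟨p.1 * c ^ p.2.val, mul_mem (show (p.1 : G) ∈ S.R ⊓ S.W from
      ⟨S.hVR p.1.2, S.V_le_W p.1.2⟩) (pow_mem (show c ∈ S.R ⊓ S.W from ⟨(S.hCyle hc).1, S.Cy_le_W hc⟩) _)⟩ :
        ↥(S.R ⊓ S.W))) ?_)
  · rw [Nat.card_prod, S.hVcard, Nat.card_fin]
  · have hcV : c ∉ S.V := fun h => by
      have := orderOf_dvd_of_pow_eq_one (S.hVexp c h)
      rw [ho] at this
      omega
    rintro ⟨u, i⟩ ⟨v, j⟩ e
    have e' : (u : G) * c ^ i.val = v * c ^ j.val := congrArg Subtype.val e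
    have hij : i = j := by
      fin_cases i <;> fin_cases j <;> first | rfl | skip
      all_goals exfalso
      · simp only [pow_zero, pow_one, mul_one] at e'
        refine hcV ?_
        rw [show c = (v : G)⁻¹ * u by rw [e', inv_mul_cancel_left]]
        exact mul_mem (inv_mem v.2) u.2
      · simp only [pow_zero, pow_one, mul_one] at e'
        refine hcV ?_
        rw [show c = (u : G)⁻¹ * v by rw [← e', inv_mul_cancel_left]]
        exact mul_mem (inv_mem u.2) v.2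
    subst hij
    exact Prod.ext (Subtype.ext (mul_right_cancel e')) rfl

end Setting

end Cfsg.Agent.HSType
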