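import Cfsg.Agent.Lib.HSType.ClosingChecks
import Cfsg.Agent.Lib.TransvCent.ClosingModel

/-!
# The closing step at the Higman-Sims group on a hundred points

* `classes` : an involution is conjugate to letter 9 or to letter 10
* `range_eq_top_of_card_centralizer` : an embedded copy is the whole group if an involution with
  twenty fixed points has a centralizer of order 7680
-/

set_option autoImplicit false
set_option maxRecDepth 100000

namespace Cfsg.Agent.HSType

namespace Closing

open Cfsg.Agent.StabCert Cfsg.Agent.PcCover Cfsg.Agent.HSPerm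
open Cfsg.Agent.TransvCent.Closing (Fix)
open Cfsg.Agent.TransvCent.Closing.Model (Closed Safe)

/-- The number of fixed points. -/
def fixN (g : hsPerm) : ℕ := (Finset.univ.filter fun i => g.1 i = i).card

theorem fixN_congr {g g' : hsPerm} (h : IsConj g g') : fixN g = fixN g' := by
  obtain ⟨c, rfl⟩ := isConj_iff.1 h
  refine Finset.card_equiv c.1 fun i => ?_
  rw [Finset.mem_filter, Finset.mem_filter]
  simp

theorem fixN_E (l : List ℕ) : fixN (E l) = fixB l := by
  have h : ∀ i : Fin 100, ((E l).1 i = i ↔ PermLetter.evT 7 tabs l i.val = i.val) := fun i => by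
    obtain ⟨h1, h2⟩ := E_apply l i.isLt
    rw [pt_val] at h2
    rw [h2, Fin.ext_iff, val_pt h1]
  have e : (List.range 100).countP (fun i => Nat.beq (PermLetter.evT 7 tabs l i) i) =
      ((Finset.range 100).filter fun i => PermLetter.evT 7 tabs l i = i).card := by
    rw [List.countP_eq_length_filter]
    refine congrArg List.length (List.filter_congr fun x _ => ?_)
    rw [Bool.eq_iff_iff, Nat.beq_eq, decide_eq_true_iff]
  rw [fixB, e, fixN]
  refine Finset.card_bij (fun i _ => i.val) (fun i hi => ?_) (fun _ _ _ _ e => Fin.ext e)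
    fun b hb => ?_
  · simp only [Finset.mem_filter, Finset.mem_univ, true_and] at hi
    simp only [Finset.mem_filter, Finset.mem_range]
    exact ⟨i.isLt, (h i).1 hi⟩
  · simp only [Finset.mem_filter, Finset.mem_range] at hb
    exact ⟨⟨b, hb.1⟩, by simp [(h ⟨b, hb.1⟩).2 hb.2], rfl⟩

theorem checks :
    fixN (E [9]) = 20 ∧ fixN (E [10]) = 0 ∧ fixN (E [11]) = 20 ∧
    E [9] * E [9] = 1 ∧ E [10] * E [10] = 1 ∧ E [11] * E [11] = 1 ∧
    E [9] * E [10] = E [10] * E [9] ∧ E [11] * E [10] = E [10] * E [11] ∧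
    (∀ k ∈ [12, 13], E [k] * E [10] = E [10] * E [k]) ∧
    IsConj (E [10]) (E [9] * E [10]) ∧ IsConj (E [10]) (E [11] * E [10]) := by
  have h := basic_ok
  simp only [Bool.and_eq_true, Nat.beq_eq] at h
  obtain ⟨⟨⟨⟨⟨⟨⟨⟨⟨⟨⟨f9, f10⟩, f11⟩, z2⟩, u2⟩, t2⟩, zu⟩, tu⟩, au⟩, bu⟩, cz⟩, ct⟩ := h
  simp only [← E_append, ← E_nil, fixN_E, List.cons_append, List.nil_append]
  refine ⟨f9, f10, f11, eq_of_eqS z2, eq_of_eqS u2, eq_of_eqS t2, eq_of_eqS zu, eq_of_eqS tu, ?_,
    isConj_of_conjB cz, isConj_of_conjB ct⟩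
  intro k hk
  simp only [List.mem_cons, List.not_mem_nil, or_false] at hk
  rcases hk with rfl | rfl
  · exact eq_of_eqS au
  · exact eq_of_eqS bu

theorem ne_one_of_fixN {g : hsPerm} (h : fixN g ≠ 100) : g ≠ 1 := by
  rintro rfl
  exact h (by simp [fixN])

theorem not_sq_one {l : List ℕ} (h : (!Nat.beq (key (l ++ l)) (key [])) = true) :
    E l * E l ≠ 1 := fun e => by
  rw [← E_append, ← E_nil] at e
  simp [key_congr e] at h

/-- An involution is conjugate to letter 9 or to letter 10. -/
theorem classes {y : hsPerm} (h2 : y * y = 1) (h1 : y ≠ 1) :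
    IsConj (E [9]) y ∨ IsConj (E [10]) y := by
  have hg := s_group_ok
  simp only [Bool.and_eq_true, Nat.beq_eq] at hg
  obtain ⟨⟨⟨hlen, hs⟩, hone⟩, hlet⟩ := hg
  obtain ⟨hcard, hmem⟩ := card_closure hs s_closed_ok hone hlet
  set K := Subgroup.closure {x | ∃ k ∈ sGens, E [k] = x}
  rw [hlen] at hcard
  have := Fact.mk Nat.prime_two
  have hK : Nat.card K = 2 ^ (Nat.card hsPerm).factorization 2 := by
    rw [hcard, natCard_hsPerm, Nat.factorization_def _ Nat.prime_two,
      show (44352000 : ℕ) = 2 ^ 9 * 86625 by norm_num, padicValNat.mul (by norm_num) (by norm_num),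
      padicValNat.prime_pow, padicValNat.eq_zero_of_not_dvd (by norm_num)]
    norm_num
  let S : Sylow 2 hsPerm := Sylow.ofCard K hK
  have hy : IsPGroup 2 (Subgroup.zpowers y) := by
    refine IsPGroup.of_card (n := 1) ?_
    rw [Nat.card_zpowers, pow_one]
    exact orderOf_eq_prime (by rw [pow_two]; exact h2) h1
  obtain ⟨Q, hQ⟩ := hy.exists_le_sylow
  obtain ⟨g, hg⟩ := MulAction.exists_smul_eq hsPerm Q S
  have hgy : g * y * g⁻¹ ∈ K := by
    have : g * y * g⁻¹ ∈ ((g • Q : Sylow 2 hsPerm) : Subgroup hsPerm) := by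
      rw [Sylow.coe_subgroup_smul, Subgroup.mem_pointwise_smul_iff_inv_smul_mem]
      simpa [mul_assoc] using hQ (Subgroup.mem_zpowers y)
    rw [hg] at this
    exact this
  obtain ⟨l, hl, e⟩ := hmem _ hgy
  have hc : IsConj (E l) y := by rw [e]; exact (isConj_iff.2 ⟨g, rfl⟩).symm
  obtain ⟨⟨k, h⟩, hw⟩ := allRows_spec s_wit_ok l hl
  have hl1 : E l ≠ 1 := fun e1 => h1 (by rw [e1] at hc; exact (isConj_one_right.1 hc))
  have hl2 : E l * E l = 1 := by rw [e, conj_mul, h2]; group
  unfold sRow at hw
  match k, hw with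
  | 0, hw =>
    simp only [Bool.or_eq_true] at hw
    rcases hw with hw | hw
    · exact absurd (by rw [eq_of_eqS hw, E_nil]) hl1
    · exact absurd hl2 (not_sq_one hw)
  | 1, hw => exact Or.inl ((isConj_of_conjB hw).trans hc)
  | _ + 2, hw => exact Or.inr ((isConj_of_conjB hw).trans hc)

theorem isConj_of_fixN {y : hsPerm} (h2 : y * y = 1) (hf : fixN y = 20) : IsConj (E [9]) y := by
  rcases classes h2 (ne_one_of_fixN (by omega)) with h | h
  · exact h
  · have := fixN_congr h
    rw [checks.2.1, hf] at this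
    omega

variable {G : Type*} [Group G] [Finite G] {φ : hsPerm →* G}

omit [Finite G] in
theorem card_cent_map (a b : G) (h : IsConj a b) :
    Nat.card (Subgroup.centralizer ({a} : Set G)) = Nat.card (Subgroup.centralizer ({b} : Set G)) := by
  obtain ⟨c, rfl⟩ := isConj_iff.1 h
  refine Nat.card_congr ((MulAut.conj c).toEquiv.subtypeEquiv fun x => ?_)
  simp only [Subgroup.mem_centralizer_singleton_iff, MulEquiv.toEquiv_eq_coe, EquivLike.coe_coe,
    MulAut.conj_apply]
  constructor
  · intro h
    calc c * x * c⁻¹ * (c * a * c⁻¹) = c * (x * a) * c⁻¹ := by group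
      _ = c * (a * x) * c⁻¹ := by rw [h]
      _ = c * a * c⁻¹ * (c * x * c⁻¹) := by group
  · intro h
    have := congrArg (fun t => c⁻¹ * t * c) h
    simpa [mul_assoc] using this

/-- The part of the centralizer of letter 9 fixing letter 10 is the listed one, and the image of
the whole is the centralizer in `G`. -/
theorem cent_spec (hinj : Function.Injective φ)
    (hcard : Nat.card (Subgroup.centralizer ({φ (E [9])} : Set G)) = 7680) :
    (∀ x : hsPerm, x * E [9] = E [9] * x → x * E [10] = E [10] * x → ∃ l ∈ dWords, E l = x) ∧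
      ∀ c : G, c * φ (E [9]) = φ (E [9]) * c → c ∈ φ.range := by
  have hd := d_ok
  have ho := o_ok
  simp only [Bool.and_eq_true, Nat.beq_eq, List.all_eq_true, List.contains_iff_mem] at hd ho
  obtain ⟨⟨⟨hdg, hdl⟩, hds⟩, hdr⟩ := hd
  obtain ⟨⟨⟨hol, hos⟩, ho0⟩, hoc⟩ := ho
  let C : Subgroup hsPerm := Subgroup.centralizer {E [9]}
  have hdc : ∀ l ∈ dWords, E l * E [9] = E [9] * E l ∧ E l * E [10] = E [10] * E l := by
    intro l hl
    obtain ⟨w, hw⟩ := allRows_spec hdr l hl
    simp only [dRow, Bool.and_eq_true, List.all_eq_true, List.contains_iff_mem] at hw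
    have h := hw.1
    clear hw hl
    induction l with
    | nil => simp [E_nil]
    | cons k r ih =>
      obtain ⟨i9, i10⟩ := ih fun a ha => h a (List.mem_cons_of_mem _ ha)
      obtain ⟨k9, k10⟩ := hdg k (h k List.mem_cons_self)
      have k9' : E [k] * E [9] = E [9] * E [k] := by rw [← E_append, ← E_append]; exact eq_of_eqS k9
      have k10' : E [k] * E [10] = E [10] * E [k] := by rw [← E_append, ← E_append]; exact eq_of_eqS k10
      rw [show k :: r = [k] ++ r from rfl, E_append]
      exact ⟨Commute.mul_left k9' i9, Commute.mul_left k10' i10⟩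
  have hoc' : ∀ p ∈ oWords, E p.2 * E [9] = E [9] * E p.2 ∧
      E p.2 * E [10] * (E p.2)⁻¹ = E p.1 := fun p hp => by
    obtain ⟨a, b⟩ := hoc p hp
    have a' := eq_of_eqS a
    have b' := eq_of_eqS b
    simp only [E_append] at a' b'
    exact ⟨a', by rw [b', mul_inv_cancel_right]⟩
  let f : Fin oWords.length × Fin dWords.length → C := fun q =>
    ⟨E oWords[q.1].2 * E dWords[q.2], Subgroup.mem_centralizer_singleton_iff.2
      (Commute.mul_left (hoc' _ (List.getElem_mem _)).1 (hdc _ (List.getElem_mem _)).1)⟩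
  have hcj : ∀ q, (f q).1 * E [10] * (f q).1⁻¹ = E oWords[q.1].1 := fun q => by
    rw [← (hoc' oWords[q.1] (List.getElem_mem _)).2]
    show E oWords[q.1].2 * E dWords[q.2] * E [10] * (E oWords[q.1].2 * E dWords[q.2])⁻¹ = _
    rw [mul_assoc (E oWords[q.1].2), (hdc dWords[q.2] (List.getElem_mem _)).2]
    group
  have hi1 : Function.Injective fun i : Fin oWords.length => E oWords[i].1 := by
    intro i j e
    have := E_injective hos (a₁ := ⟨i.val, by simp⟩) (a₂ := ⟨j.val, by simp⟩) (by simpa using e)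
    exact Fin.ext (congrArg Fin.val this :)
  have hf : Function.Injective f := by
    intro q q' e
    have e1 : q.1 = q'.1 := hi1 (by simp only [← hcj, e])
    have e2 := congrArg Subtype.val e
    simp only [f, e1] at e2
    exact Prod.ext e1 (E_injective hds (mul_left_cancel e2))
  have himg : C.map φ ≤ Subgroup.centralizer ({φ (E [9])} : Set G) := by
    rintro _ ⟨x, hx, rfl⟩
    rw [Subgroup.mem_centralizer_singleton_iff, ← map_mul, ← map_mul,
      Subgroup.mem_centralizer_singleton_iff.1 hx]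
  have hC : Nat.card C = Nat.card (C.map φ) :=
    Nat.card_congr (C.equivMapOfInjective φ hinj).toEquiv
  have hle : 7680 ≤ Nat.card C := by
    have := Nat.card_le_card_of_injective f hf
    rwa [Nat.card_prod, Nat.card_fin, Nat.card_fin, hol, hdl] at this
  have heq : C.map φ = Subgroup.centralizer ({φ (E [9])} : Set G) :=
    Subgroup.eq_of_le_of_card_ge himg (by omega)
  have hge : Nat.card C = 7680 := by rw [hC, heq, hcard]
  refine ⟨fun x h9 h10 => ?_, fun c hc => ?_⟩
  · have hb : Function.Bijective f := hf.bijective_of_nat_card_le (by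
      rw [hge, Nat.card_prod, Nat.card_fin, Nat.card_fin, hol, hdl])
    obtain ⟨q, hq⟩ := hb.2 ⟨x, Subgroup.mem_centralizer_singleton_iff.2 h9⟩
    obtain ⟨i, hi, e⟩ := List.getElem_of_mem ho0
    have hq1 : q.1 = ⟨i, hi⟩ := hi1 (by
      show E oWords[q.1].1 = E oWords[i].1
      rw [← hcj, hq, e]
      show x * E [10] * x⁻¹ = E [10]
      rw [h10, mul_inv_cancel_right])
    have hx := congrArg Subtype.val hq
    simp only [f, hq1] at hx
    refine ⟨dWords[q.2], List.getElem_mem _, ?_⟩
    rw [← hx]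
    simp [e, E_nil]
  · have : c ∈ C.map φ := by
      rw [heq]
      exact Subgroup.mem_centralizer_singleton_iff.2 hc
    obtain ⟨x, -, rfl⟩ := this
    exact ⟨x, rfl⟩

theorem not_fused (hinj : Function.Injective φ)
    (hcard : Nat.card (Subgroup.centralizer ({φ (E [9])} : Set G)) = 7680) :
    ¬ IsConj (φ (E [9])) (φ (E [10])) := by
  intro h
  have ht := t_ok
  simp only [Bool.and_eq_true, Nat.beq_eq] at ht
  obtain ⟨⟨⟨⟨hlen, hs⟩, hone⟩, hlet⟩, hclosed⟩ := ht
  obtain ⟨hT, -⟩ := card_closure hs hclosed hone hlet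
  set T := Subgroup.closure {x | ∃ k ∈ [12, 13], E [k] = x}
  have hle : T.map φ ≤ Subgroup.centralizer ({φ (E [10])} : Set G) := by
    rw [Subgroup.map_le_iff_le_comap, Subgroup.closure_le]
    rintro _ ⟨k, hk, rfl⟩
    simp only [SetLike.mem_coe, Subgroup.mem_comap, Subgroup.mem_centralizer_singleton_iff, ← map_mul,
      checks.2.2.2.2.2.2.2.2.1 k hk]
  have hd := Subgroup.card_dvd_of_le hle
  rw [← Nat.card_congr (T.equivMapOfInjective φ hinj).toEquiv, hT, hlen,
    ← card_cent_map _ _ h, hcard] at hd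
  norm_num at hd

/-- The centralizer of the fixed-point-free involution is closed. -/
theorem closed_u (hD : ∀ x : hsPerm, x * E [9] = E [9] * x → x * E [10] = E [10] * x →
    ∃ l ∈ dWords, E l = x) : Closed (E [9]) ({E [10]} : Set hsPerm) := by
  obtain ⟨f9, f10, f11, z2, -, t2, zu, tu, -, cz, ct⟩ := checks
  have hfix : ∀ {y : hsPerm}, y * E [10] = E [10] * y → Fix ({E [10]} : Set hsPerm) y := by
    rintro y hy _ rfl
    exact hy
  refine Closed.pair (E [9]) (E [11]) (.of_isConj (hfix zu) (IsConj.refl _)) z2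
    (.of_isConj (hfix tu) (isConj_of_fixN t2 f11)) t2 ?_ ?_ ?_
  · intro h hF e
    have hu : h * E [10] = E [10] * h := hF _ rfl
    have ha := adj_sep_ok
    simp only [Bool.and_eq_true, List.all_eq_true, List.mem_range, Bool.not_eq_true', fixAdj,
      Nat.beq_eq] at ha
    obtain ⟨⟨h5, h5'⟩, hall⟩ := ha
    obtain ⟨j, hj⟩ := h.1.surjective (pt 5)
    have e11 := (E_apply [11] (show 5 < 100 by norm_num)).2
    rw [h5, ← e, ← hj] at e11
    have ej : (E [9]).1 j = j := h.1.injective (by
      simpa [Equiv.Perm.mul_apply] using e11)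
    have eu : h.1 ((E [10]).1 j) = (E [10]).1 (pt 5) := by
      rw [← hj]
      exact congrArg (fun g : hsPerm => g.1 j) hu
    have had : adjB j.val ((E [10]).1 j).val = true := by
      rw [← adj_invariant h.2, hj, eu, (E_apply [10] (show 5 < 100 by norm_num)).2,
        val_pt (by norm_num), val_pt (E_apply [10] (show 5 < 100 by norm_num)).1]
      exact h5'
    obtain ⟨a1, a2⟩ := E_apply [9] j.isLt
    obtain ⟨b1, b2⟩ := E_apply [10] j.isLt
    rw [pt_val] at a2 b2
    rw [ej] at a2
    rw [b2, val_pt b1] at had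
    have hfalse := hall j.val j.isLt
    rw [had, Bool.and_true, Bool.eq_false_iff, ne_eq, Nat.beq_eq] at hfalse
    exact hfalse (by simpa [val_pt a1] using (congrArg Fin.val a2).symm)
  · intro y hF ho hc hy
    obtain ⟨l, hl, rfl⟩ := hD y hc (hF _ rfl)
    have hd := d_ok
    simp only [Bool.and_eq_true] at hd
    obtain ⟨⟨k, h⟩, hw⟩ := allRows_spec hd.2 l hl
    simp only [dRow, Bool.and_eq_true] at hw
    obtain ⟨-, hw⟩ := hw
    match k, hw with
    | 0, hw =>
      simp only [Bool.or_eq_true] at hw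
      rcases hw with (hw | hw) | hw
      · rw [eq_of_eqS hw, E_nil, orderOf_one] at ho
        omega
      · exact absurd (eq_of_eqS hw) hy
      · exact absurd (by rw [← pow_two, ← ho, pow_orderOf_eq_one]) (not_sq_one hw)
    | 1, hw => exact .of_isConj hF (isConj_of_conjB hw)
    | _ + 2, hw =>
      exact .of_mul (E [10]) hF rfl (by rw [← E_append]; exact isConj_of_conjB hw)
  · rintro w rfl -
    refine ⟨Or.inl fun h _ e => ?_, fun h _ => Or.inl fun e => ?_⟩
    · have := fixN_congr (isConj_iff.2 ⟨h, e⟩)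
      rw [f9, ← fixN_congr cz, f10] at this
      omega
    · have := fixN_congr (isConj_iff.2 ⟨h, e⟩)
      rw [f9, ← fixN_congr ct, f10] at this
      omega

theorem closed_empty (hD : ∀ x : hsPerm, x * E [9] = E [9] * x → x * E [10] = E [10] * x →
    ∃ l ∈ dWords, E l = x) : Closed (E [9]) (∅ : Set hsPerm) := by
  obtain ⟨f9, f10, -, z2, u2, -, zu, -, -, -, -⟩ := checks
  have hfix : ∀ y : hsPerm, Fix (∅ : Set hsPerm) y := fun _ _ hw => absurd hw (Set.notMem_empty _)
  have hu : Safe (E [9]) (∅ : Set hsPerm) (E [10]) := by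
    refine .of_closed (hfix _) (by rw [pow_two]; exact u2) ?_ fun y _ hy2 => ?_
    · rw [LawfulSingleton.insert_empty_eq]
      exact closed_u hD
    by_cases hy : y = 1
    · exact ⟨E [9], hfix _, IsConj.refl _, by rw [hy, one_mul, mul_one]⟩
    rcases classes (by rw [← pow_two]; exact hy2) hy with hc | hc
    · exact ⟨y, hfix _, hc, rfl⟩
    · obtain ⟨c, rfl⟩ := isConj_iff.1 hc
      exact ⟨c * E [9] * c⁻¹, hfix _, isConj_iff.2 ⟨c, rfl⟩, by rw [conj_mul, conj_mul, zu]⟩
  refine Closed.pair (E [9]) (E [10]) (.of_isConj (hfix _) (IsConj.refl _)) z2 hu u2 (fun h _ e => ?_)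
    (fun y _ ho _ _ => ?_) fun w hw => absurd hw (Set.notMem_empty _)
  · have := fixN_congr (isConj_iff.2 ⟨h, e⟩)
    omega
  · have hy2 : y * y = 1 := by rw [← pow_two, ← ho, pow_orderOf_eq_one]
    rcases classes hy2 (fun e => by rw [e, orderOf_one] at ho; omega) with hc | hc
    · exact .of_isConj (hfix _) hc
    · obtain ⟨c, rfl⟩ := isConj_iff.1 hc
      exact .of_conj c (hfix _) hu

end Closing

open Closing in
/-- An embedded copy of the group on a hundred points is the whole group if an involution with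
twenty fixed points has a centralizer of order 7680. -/
theorem range_eq_top_of_card_centralizer {G : Type*} [Group G] [Finite G] (φ : HSPerm.hsPerm →* G)
    (hinj : Function.Injective φ) (z : HSPerm.hsPerm) (hz : z * z = 1)
    (hfix : (Finset.univ.filter fun i => z.1 i = i).card = 20)
    (hcard : Nat.card (Subgroup.centralizer ({φ z} : Set G)) = 7680) : φ.range = ⊤ := by
  have hcj : IsConj (E [9]) z := isConj_of_fixN hz hfix
  have hc9 : Nat.card (Subgroup.centralizer ({φ (E [9])} : Set G)) = 7680 := by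
    rw [card_cent_map _ _ (φ.map_isConj hcj), hcard]
  obtain ⟨hD, hcent⟩ := cent_spec hinj hc9
  refine TransvCent.Closing.Model.range_eq_top hinj (closed_empty hD) hcent fun m hm => ?_
  have hm2 : m * m = 1 := by
    obtain ⟨c, hc⟩ := isConj_iff.1 hm
    refine hinj ?_
    rw [map_mul, ← hc, conj_mul, ← map_mul, checks.2.2.2.1, map_one]
    group
  have hm1 : m ≠ 1 := by
    rintro rfl
    rw [map_one, isConj_one_left] at hm
    exact ne_one_of_fixN (g := E [9]) (by rw [checks.1]; norm_num) (hinj (by rw [hm, map_one]))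
  rcases classes hm2 hm1 with h | h
  · exact h
  · exact absurd (hm.trans (φ.map_isConj h).symm) (not_fused hinj hc9)

end Cfsg.Agent.HSType
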