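import Cfsg.Agent.Lib.HSType.ClosingWords

/-!
# Checks for the closing step at the Higman-Sims group on a hundred points

Each theorem states one Boolean check on the data of `ClosingData`, decided by the kernel.
-/

set_option autoImplicit false
set_option maxRecDepth 100000
set_option Elab.async false

namespace Cfsg.Agent.HSType.Closing

open Cfsg.Agent.StabCert Cfsg.Agent.PcCover Cfsg.Agent.HSPerm

/-- The number of fixed points of a word. -/
def fixB (l : List ℕ) : ℕ := (List.range 100).countP fun i => Nat.beq (PermLetter.evT 7 tabs l i) i

theorem basic_ok : (Nat.beq (fixB [9]) 20 && Nat.beq (fixB [10]) 0 && Nat.beq (fixB [11]) 20 &&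
    eqS [9, 9] [] && eqS [10, 10] [] && eqS [11, 11] [] && eqS [9, 10] [10, 9] &&
    eqS [11, 10] [10, 11] && eqS [12, 10] [10, 12] && eqS [13, 10] [10, 13] &&
    conjB zuWord [10] [9, 10] && conjB tuWord [10] [11, 10]) = true := by decide +kernel

/-- A fixed point of a word with the image under letter 10 adjacent to it. -/
def fixAdj (l : List ℕ) (i : ℕ) : Bool :=
  Nat.beq (PermLetter.evT 7 tabs l i) i && adjB i (PermLetter.evT 7 tabs [10] i)

theorem adj_sep_ok : (fixAdj [11] 5 && (List.range 100).all fun i => !fixAdj [9] i) = true := by
  decide +kernel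

/-- The group commuting with letters 9 and 10. -/
def dRow (l : List ℕ) (w : ℕ × List ℕ) : Bool :=
  (l.all fun k => dGens.contains k) &&
    match w.1 with
    | 0 => eqS l [] || eqS l [10] || !Nat.beq (key (l ++ l)) (key [])
    | 1 => conjB w.2 [9] l
    | _ => conjB w.2 [9] (l ++ [10])

/-- Rows tested pairwise. -/
def allRows {α β : Type} (f : α → β → Bool) : List α → List β → Bool
  | [], _ => true
  | _ :: _, [] => false
  | a :: l, b :: m => f a b && allRows f l m

theorem allRows_spec {α β : Type} {f : α → β → Bool} : ∀ {l : List α} {m : List β},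
    allRows f l m = true → ∀ a ∈ l, ∃ b, f a b = true
  | [], _, _, a, ha => absurd ha List.not_mem_nil
  | _ :: _, [], h, _, _ => by simp [allRows] at h
  | x :: l, y :: m, h, a, ha => by
    simp only [allRows, Bool.and_eq_true] at h
    rcases List.mem_cons.1 ha with rfl | ha
    · exact ⟨y, h.1⟩
    · exact allRows_spec h.2 a ha

theorem d_ok : ((dGens.all fun k => eqS [k, 9] [9, k] && eqS [k, 10] [10, k]) &&
    Nat.beq dWords.length 96 && sorted dWords && allRows dRow dWords dWit) = true := by decide +kernel

theorem o_ok : (Nat.beq oWords.length 80 && sorted (oWords.map Prod.fst) &&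
    oWords.contains ([10], []) && oWords.all fun p =>
      eqS (p.2 ++ [9]) ([9] ++ p.2) && conjB p.2 [10] p.1) = true := by decide +kernel

/-- An element of the Sylow 2-subgroup. -/
def sRow (l : List ℕ) (w : ℕ × List ℕ) : Bool :=
  match w.1 with
  | 0 => eqS l [] || !Nat.beq (key (l ++ l)) (key [])
  | 1 => conjB w.2 [9] l
  | _ => conjB w.2 [10] l

theorem s_group_ok : (Nat.beq sWords.length 512 && sorted sWords &&
    (sWords.any fun l => l.isEmpty) && sWords.all fun l => l.all fun k => sGens.contains k) = true := by
  decide +kernel

theorem s_closed_ok : closedB sWords sGens sIdx = true := by decide +kernel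

theorem s_wit_ok : allRows sRow sWords sWit = true := by decide +kernel

theorem t_ok : (Nat.beq tWords.length 9 && sorted tWords && (tWords.any fun l => l.isEmpty) &&
    (tWords.all fun l => l.all fun k => [12, 13].contains k) && closedB tWords [12, 13] tIdx) = true := by
  decide +kernel

end Cfsg.Agent.HSType.Closing
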