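import Cfsg.Agent.Lib.HigmanSimsPerm.Basic
import Cfsg.Agent.Lib.PcCover.PermLetter
import Cfsg.Agent.Lib.HSType.ClosingData

/-!
# Words in the Higman-Sims group on a hundred points

* `E` : the element of a word in the letters of `ClosingData`
* `eqS`, `eq_of_eqS` : equality of elements is agreement at the separating points
* `key`, `ne_of_key` : keys separating elements
* `card_closure` : a closed list of distinct words is a group
-/

set_option autoImplicit false
set_option maxRecDepth 100000
set_option Elab.async false

namespace Cfsg.Agent.HSType.Closing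

open Cfsg.Agent.StabCert Cfsg.Agent.PcCover Cfsg.Agent.HSPerm

/-- The generators in the group. -/
noncomputable def gens (k : ℕ) : hsPerm :=
  if h : k < 9 then ⟨gen k, gen_mem_sub gen (List.mem_range.2 h)⟩ else 1

theorem gens_sound : TablesSound hsPerm.subtype gens (fun i => Fin.ofNat 100 i) 7 100 9 tab := by
  intro k hk i hi
  have h := sound k hk i hi
  simpa only [gens, dif_pos hk, Subgroup.coe_subtype, MonoidHom.id_apply, pt] using h

theorem letters_ok : PermLetter.letterOK 7 100 9 tab words tabs = true := by decide +kernel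

/-- The element of a word. -/
noncomputable def E (l : List ℕ) : hsPerm := wp (PermLetter.el gens words) l

theorem E_apply (l : List ℕ) {x : ℕ} (hx : x < 100) :
    PermLetter.evT 7 tabs l x < 100 ∧ (E l).1 (pt x) = pt (PermLetter.evT 7 tabs l x) :=
  PermLetter.evT_spec hsPerm.subtype (PermLetter.el_sound hsPerm.subtype gens_sound letters_ok) l x hx

theorem E_append (l r : List ℕ) : E (l ++ r) = E l * E r := wp_append _ l r

theorem E_nil : E [] = 1 := wp_nil _

/-- Agreement at the separating points. -/
def eqS (u w : List ℕ) : Bool :=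
  sepPts.all fun x => Nat.beq (PermLetter.evT 7 tabs u x) (PermLetter.evT 7 tabs w x)

theorem eq_of_eqS {u w : List ℕ} (h : eqS u w = true) : E u = E w := by
  simp only [eqS, List.all_eq_true, Nat.beq_eq] at h
  have h1 : (E u).1⁻¹ * (E w).1 = 1 := by
    refine eq_one_of_fix (mul_mem (inv_mem (E u).2) (E w).2) fun a ha => ?_
    rw [Equiv.Perm.mul_apply, (E_apply w (sep_lt a ha)).2, ← h a ha, ← (E_apply u (sep_lt a ha)).2]
    exact Equiv.symm_apply_apply _ _
  exact Subtype.ext (inv_mul_eq_one.1 h1)

/-- The key of a word. -/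
def key (l : List ℕ) : ℕ :=
  sepPts.foldr (fun x s => Nat.add (PermLetter.evT 7 tabs l x) (Nat.mul 128 s)) 0

theorem key_congr {u w : List ℕ} (h : E u = E w) : key u = key w := by
  have e : ∀ x ∈ sepPts, PermLetter.evT 7 tabs u x = PermLetter.evT 7 tabs w x := fun x hx => by
    obtain ⟨hu, eu⟩ := E_apply u (sep_lt x hx)
    obtain ⟨hw, ew⟩ := E_apply w (sep_lt x hx)
    rw [h, ew] at eu
    exact pt_injOn hu hw eu.symm
  unfold key
  generalize sepPts = S at e ⊢
  induction S with
  | nil => rfl
  | cons a l ih =>
    simp only [List.foldr_cons]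
    rw [e a List.mem_cons_self, ih fun x hx => e x (List.mem_cons_of_mem _ hx)]

/-- A bound below a list increasing from it. -/
def incr : ℕ → List ℕ → Bool
  | _, [] => true
  | b, a :: l => Nat.blt b a && incr a l

theorem pairwise_of_incr : ∀ {l : List ℕ} {b : ℕ}, incr b l = true → (b :: l).Pairwise (· < ·)
  | [], _, _ => List.pairwise_singleton _ _
  | a :: l, b, h => by
    simp only [incr, Bool.and_eq_true, Nat.blt_eq] at h
    have ih := pairwise_of_incr h.2
    refine List.pairwise_cons.2 ⟨fun x hx => ?_, ih⟩
    rcases List.mem_cons.1 hx with rfl | hx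
    · exact h.1
    · exact h.1.trans ((List.pairwise_cons.1 ih).1 x hx)

/-- The keys increase. -/
def sorted : List (List ℕ) → Bool
  | [] => true
  | a :: l => incr (key a) (l.map key)

theorem E_injective {L : List (List ℕ)} (h : sorted L = true) :
    Function.Injective fun i : Fin L.length => E L[i] := by
  cases L with
  | nil => exact fun i => i.elim0
  | cons a l =>
    have hp : ((a :: l).map key).Nodup := (pairwise_of_incr h).imp fun hlt => hlt.ne
    intro i j e
    have ek : key (a :: l)[i.val] = key (a :: l)[j.val] := key_congr e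
    exact Fin.ext ((List.Nodup.getElem_inj_iff hp.of_map).1
      (List.inj_on_of_nodup_map hp (List.getElem_mem i.isLt) (List.getElem_mem j.isLt) ek))

/-- Closure of a list of words under right multiplication by letters, with indices. -/
def closedB (L : List (List ℕ)) (g : List ℕ) (idx : List (List ℕ)) : Bool :=
  let rec go : List (List ℕ) → List (List ℕ) → Bool
    | [], _ => true
    | _ :: _, [] => false
    | l :: ls, r :: rs => rows l g r && go ls rs
  go L idx
where
  /-- One row. -/
  rows (l : List ℕ) : List ℕ → List ℕ → Bool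
    | [], _ => true
    | _ :: _, [] => false
    | k :: ks, i :: is => (Nat.blt i L.length && eqS (l ++ [k]) (L.getD i [])) && rows l ks is

theorem rows_spec {L : List (List ℕ)} {l : List ℕ} : ∀ {g r : List ℕ}, closedB.rows L l g r = true →
    ∀ k ∈ g, ∃ l' ∈ L, E l * E [k] = E l'
  | [], _, _, k, hk => absurd hk List.not_mem_nil
  | _ :: _, [], h, _, _ => by simp [closedB.rows] at h
  | k :: ks, i :: is, h, a, ha => by
    simp only [closedB.rows, Bool.and_eq_true, Nat.blt_eq] at h
    rcases List.mem_cons.1 ha with rfl | ha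
    · refine ⟨L.getD i [], ?_, by rw [← E_append]; exact eq_of_eqS h.1.2⟩
      rw [List.getD_eq_getElem _ _ h.1.1]
      exact List.getElem_mem _
    · exact rows_spec h.2 a ha

theorem go_spec {L : List (List ℕ)} {g : List ℕ} : ∀ {M : List (List ℕ)} {idx : List (List ℕ)},
    closedB.go L g M idx = true → ∀ l ∈ M, ∀ k ∈ g, ∃ l' ∈ L, E l * E [k] = E l'
  | [], _, _, l, hl => absurd hl List.not_mem_nil
  | _ :: _, [], h, _, _ => by simp [closedB.go] at h
  | m :: ms, r :: rs, h, l, hl => by
    simp only [closedB.go, Bool.and_eq_true] at h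
    rcases List.mem_cons.1 hl with rfl | hl
    · exact rows_spec h.1
    · exact go_spec h.2 l hl

/-- A closed list of distinct words, one empty, over the given letters is a group. -/
theorem card_closure {L idx : List (List ℕ)} {g : List ℕ} (hs : sorted L = true)
    (hc : closedB L g idx = true) (hone : L.any (fun l => l.isEmpty) = true)
    (hlet : (L.all fun l => l.all fun k => g.contains k) = true) :
    Nat.card (Subgroup.closure {x | ∃ k ∈ g, E [k] = x}) = L.length ∧
      ∀ x ∈ Subgroup.closure {x | ∃ k ∈ g, E [k] = x}, ∃ l ∈ L, E l = x := by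
  set K := Subgroup.closure {x | ∃ k ∈ g, E [k] = x}
  have hsub : ∀ x ∈ K, ∃ l ∈ L, E l = x := by
    intro x hx
    rw [← Subgroup.mem_toSubmonoid, Subgroup.closure_toSubmonoid_of_finite] at hx
    induction hx using Submonoid.closure_induction_right with
    | one =>
      obtain ⟨l, hl, he⟩ := List.any_eq_true.1 hone
      exact ⟨l, hl, by rw [List.isEmpty_iff.1 he, E_nil]⟩
    | mul_right y _ z hz ih =>
      obtain ⟨k, hk, rfl⟩ := hz
      obtain ⟨l, hl, rfl⟩ := ih
      obtain ⟨l', hl', e⟩ := go_spec hc l hl k hk
      exact ⟨l', hl', e.symm⟩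
  have hmem : ∀ l : List ℕ, (∀ k ∈ l, k ∈ g) → E l ∈ K := by
    intro l
    induction l with
    | nil => intro _; rw [E_nil]; exact one_mem _
    | cons k r ih =>
      intro h
      rw [show k :: r = [k] ++ r from rfl, E_append]
      exact mul_mem (Subgroup.subset_closure ⟨k, h k List.mem_cons_self, rfl⟩)
        (ih fun a ha => h a (List.mem_cons_of_mem _ ha))
  simp only [List.all_eq_true, List.contains_iff_mem] at hlet
  refine ⟨?_, hsub⟩
  have hb : Function.Bijective fun i : Fin L.length =>
      (⟨E L[i], hmem _ (hlet _ (List.getElem_mem _))⟩ : K) := by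
    refine ⟨fun i j e => E_injective hs (congrArg Subtype.val e), fun x => ?_⟩
    obtain ⟨l, hl, e⟩ := hsub x.1 x.2
    obtain ⟨i, hi, rfl⟩ := List.getElem_of_mem hl
    exact ⟨⟨i, hi⟩, Subtype.ext e⟩
  rw [← Nat.card_eq_of_bijective _ hb, Nat.card_fin]

/-- A conjugator: `h * a = b * h`. -/
def conjB (h a b : List ℕ) : Bool := eqS (h ++ a) (b ++ h)

theorem isConj_of_conjB {h a b : List ℕ} (hc : conjB h a b = true) : IsConj (E a) (E b) := by
  have e := eq_of_eqS hc
  rw [E_append, E_append] at e
  exact isConj_iff.2 ⟨E h, by rw [e, mul_inv_cancel_right]⟩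

end Cfsg.Agent.HSType.Closing
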