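/-
The affine model of a split extension of `Z4^3` by `L3(2)`.
Main definitions: `V3`, `Lin`, `Mo`, `Frame`, `Frame.evG`, `evM`.
Main result: `Frame.evG_split`.
-/
import Cfsg.Agent.EqLemmas

set_option autoImplicit false

namespace Cfsg.Agent.HSType

/-- Vectors of length three over `ZMod 4`. -/
abbrev V3 := ZMod 4 × ZMod 4 × ZMod 4

/-- Linear maps given by the images of the basis (rows). -/
abbrev Lin := V3 × V3 × V3

/-- Application of a linear map. -/
def app (L : Lin) (v : V3) : V3 :=
  (v.1 * L.1.1 + v.2.1 * L.2.1.1 + v.2.2 * L.2.2.1,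
   v.1 * L.1.2.1 + v.2.1 * L.2.1.2.1 + v.2.2 * L.2.2.2.1,
   v.1 * L.1.2.2 + v.2.1 * L.2.1.2.2 + v.2.2 * L.2.2.2.2)

/-- Composition, the left factor applied first. -/
def comp (L K : Lin) : Lin := (app K L.1, app K L.2.1, app K L.2.2)

/-- The identity map. -/
def idL : Lin := ((1, 0, 0), (0, 1, 0), (0, 0, 1))

theorem app_add (L : Lin) (u v : V3) : app L (u + v) = app L u + app L v := by
  simp only [app, Prod.fst_add, Prod.snd_add, Prod.ext_iff]
  refine ⟨?_, ?_, ?_⟩ <;> ring

theorem app_zero (L : Lin) : app L 0 = 0 := by simp [app, Prod.ext_iff]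

theorem app_idL (v : V3) : app idL v = v := by simp [app, idL]

theorem app_comp (L K : Lin) (v : V3) : app (comp L K) v = app K (app L v) := by
  simp only [app, comp, Prod.ext_iff]
  refine ⟨?_, ?_, ?_⟩ <;> ring

theorem comp_idL (L : Lin) : comp L idL = L := by simp [comp, app_idL]

theorem idL_comp (L : Lin) : comp idL L = L := by
  simp [comp, app, idL]

theorem comp_assoc (L K J : Lin) : comp (comp L K) J = comp L (comp K J) := by
  simp only [comp, app, Prod.ext_iff]
  refine ⟨⟨?_, ?_, ?_⟩, ⟨?_, ?_, ?_⟩, ?_, ?_, ?_⟩ <;> ring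

/-- Elements of the model: a linear part followed by a translation. -/
abbrev Mo := Lin × V3

/-- The product of the model. -/
def mmul (x y : Mo) : Mo := (comp x.1 y.1, app y.1 x.2 + y.2)

/-- The identity of the model. -/
def mone : Mo := (idL, 0)

/-- The action of the involution. -/
def matA : Lin := ((3, 2, 0), (0, 3, 0), (2, 1, 1))

/-- The action of the element of order three. -/
def matB : Lin := ((2, 1, 2), (0, 0, 1), (1, 2, 2))

/-- The value of a letter: `0-5` translations and inverses, `6,7` the involution, `8,9` the element of order three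
and its inverse. -/
def letM : ℕ → Mo
  | 0 => (idL, (1, 0, 0))
  | 1 => (idL, (3, 0, 0))
  | 2 => (idL, (0, 1, 0))
  | 3 => (idL, (0, 3, 0))
  | 4 => (idL, (0, 0, 1))
  | 5 => (idL, (0, 0, 3))
  | 6 => (matA, 0)
  | 7 => (matA, 0)
  | 8 => (matB, 0)
  | 9 => (comp matB matB, 0)
  | _ => mone

/-- The value of a word, multiplied from left to right. -/
def evM : List ℕ → Mo
  | [] => mone
  | z :: l => mmul (letM z) (evM l)

/-- Powers of the three generators. -/
def phiOf {G : Type*} [Group G] (w0 w1 w2 : G) (v : V3) : G :=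
  w0 ^ v.1.val * w1 ^ v.2.1.val * w2 ^ v.2.2.val

/-- A homocyclic subgroup with the action of two elements on it. -/
structure Frame (G : Type*) [Group G] where
  w0 : G
  w1 : G
  w2 : G
  a : G
  b : G
  p0 : w0 ^ 4 = 1
  p1 : w1 ^ 4 = 1
  p2 : w2 ^ 4 = 1
  c01 : Commute w0 w1
  c02 : Commute w0 w2
  c12 : Commute w1 w2
  ha : a * a = 1
  hb : b ^ 3 = 1
  a0 : a⁻¹ * w0 * a = phiOf w0 w1 w2 matA.1
  a1 : a⁻¹ * w1 * a = phiOf w0 w1 w2 matA.2.1
  a2 : a⁻¹ * w2 * a = phiOf w0 w1 w2 matA.2.2
  b0 : b⁻¹ * w0 * b = phiOf w0 w1 w2 matB.1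
  b1 : b⁻¹ * w1 * b = phiOf w0 w1 w2 matB.2.1
  b2 : b⁻¹ * w2 * b = phiOf w0 w1 w2 matB.2.2

namespace Frame

variable {G : Type*} [Group G] (F : Frame G)

/-- The element with the given coordinates. -/
def phi (v : V3) : G := phiOf F.w0 F.w1 F.w2 v

theorem mul_three_comm {a b c a' b' c' : G} (h1 : Commute b a') (h2 : Commute c a') (h3 : Commute c b') :
    a * a' * (b * b') * (c * c') = a * b * c * (a' * b' * c') :=
  calc a * a' * (b * b') * (c * c') = a * (a' * b) * (b' * c) * c' := by group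
    _ = a * (b * a') * (c * b') * c' := by rw [h1.eq, h3.eq]
    _ = a * b * (a' * c) * b' * c' := by group
    _ = a * b * (c * a') * b' * c' := by rw [h2.eq]
    _ = a * b * c * (a' * b' * c') := by group

theorem pow_val_add {x : G} (hx : x ^ 4 = 1) (i j : ZMod 4) : x ^ (i + j).val = x ^ i.val * x ^ j.val := by
  rw [ZMod.val_add, ← pow_add, ← pow_eq_pow_mod _ hx]

theorem phi_add (u v : V3) : F.phi (u + v) = F.phi u * F.phi v := by
  simp only [phi, phiOf, Prod.fst_add, Prod.snd_add, pow_val_add F.p0, pow_val_add F.p1, pow_val_add F.p2]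
  exact mul_three_comm (F.c01.symm.pow_pow _ _) (F.c02.symm.pow_pow _ _) (F.c12.symm.pow_pow _ _)

theorem phi_zero : F.phi 0 = 1 := by simp [phi, phiOf]

theorem phi_e0 : F.phi (1, 0, 0) = F.w0 := by
  simp [phi, phiOf, ZMod.val_one_eq_one_mod]

theorem phi_e1 : F.phi (0, 1, 0) = F.w1 := by
  simp [phi, phiOf, ZMod.val_one_eq_one_mod]

theorem phi_e2 : F.phi (0, 0, 1) = F.w2 := by
  simp [phi, phiOf, ZMod.val_one_eq_one_mod]

theorem phi_neg (v : V3) : F.phi (-v) = (F.phi v)⁻¹ :=
  eq_inv_of_mul_eq_one_left (by rw [← F.phi_add, neg_add_cancel, F.phi_zero])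

/-- The value of a letter. -/
def letG : ℕ → G
  | 0 => F.w0
  | 1 => F.w0⁻¹
  | 2 => F.w1
  | 3 => F.w1⁻¹
  | 4 => F.w2
  | 5 => F.w2⁻¹
  | 6 => F.a
  | 7 => F.a⁻¹
  | 8 => F.b
  | 9 => F.b⁻¹
  | _ => 1

/-- The value of a word, multiplied from left to right. -/
def evG : List ℕ → G
  | [] => 1
  | z :: l => F.letG z * evG l

theorem evG_append : ∀ l k : List ℕ, F.evG (l ++ k) = F.evG l * F.evG k
  | [], k => by simp [evG]
  | z :: l, k => by simp [evG, evG_append l k, mul_assoc]

/-- The action of `x` on the translations is the linear map `L`. -/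
def Acts (x : G) (L : Lin) : Prop := ∀ v : V3, x⁻¹ * F.phi v * x = F.phi (app L v)

theorem acts_one : F.Acts 1 idL := fun v => by simp [app_idL]

theorem acts_mul {x y : G} {L K : Lin} (hx : F.Acts x L) (hy : F.Acts y K) : F.Acts (x * y) (comp L K) := by
  intro v
  rw [app_comp, ← hy, ← hx]
  group

theorem acts_of_gens {x : G} {L : Lin} (h0 : x⁻¹ * F.w0 * x = F.phi L.1) (h1 : x⁻¹ * F.w1 * x = F.phi L.2.1)
    (h2 : x⁻¹ * F.w2 * x = F.phi L.2.2) : F.Acts x L := by
  have step : ∀ (i : ZMod 4) (r : V3) (e : G), e ^ 4 = 1 → x⁻¹ * e * x = F.phi r →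
      x⁻¹ * e ^ i.val * x = F.phi (i * r.1, i * r.2.1, i * r.2.2) := by
    intro i r e _ he
    have hp : ∀ n : ℕ, x⁻¹ * e ^ n * x = F.phi ((n : ZMod 4) * r.1, (n : ZMod 4) * r.2.1, (n : ZMod 4) * r.2.2) := by
      intro n
      induction n with
      | zero => simpa [Prod.mk_zero_zero] using F.phi_zero.symm
      | succ n ih =>
        calc x⁻¹ * e ^ (n + 1) * x = (x⁻¹ * e ^ n * x) * (x⁻¹ * e * x) := by rw [pow_succ]; group
          _ = _ := by
            rw [ih, he, ← F.phi_add]
            congr 1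
            simp only [Prod.mk_add_mk, Nat.cast_succ, add_mul, one_mul, Prod.ext_iff, Prod.fst_add, Prod.snd_add]
            exact ⟨trivial, trivial, trivial⟩
    simpa using hp i.val
  intro v
  have hv : F.phi v = F.w0 ^ v.1.val * F.w1 ^ v.2.1.val * F.w2 ^ v.2.2.val := rfl
  calc x⁻¹ * F.phi v * x
      = (x⁻¹ * F.w0 ^ v.1.val * x) * (x⁻¹ * F.w1 ^ v.2.1.val * x) * (x⁻¹ * F.w2 ^ v.2.2.val * x) := by
        rw [hv]; group
    _ = F.phi (app L v) := by
      rw [step _ _ _ F.p0 h0, step _ _ _ F.p1 h1, step _ _ _ F.p2 h2, ← F.phi_add, ← F.phi_add]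
      rfl

theorem acts_a : F.Acts F.a matA := F.acts_of_gens F.a0 F.a1 F.a2

theorem acts_b : F.Acts F.b matB := F.acts_of_gens F.b0 F.b1 F.b2

theorem acts_letter : ∀ z : ℕ, F.Acts (F.letG z) (letM z).1 := by
  have hw : ∀ u : V3, F.Acts (F.phi u) idL := fun u v => by
    rw [app_idL, ← F.phi_neg, ← F.phi_add, ← F.phi_add]
    congr 1
    abel
  have hai : F.a⁻¹ = F.a := inv_eq_of_mul_eq_one_right F.ha
  have hbi : F.b⁻¹ = F.b * F.b := inv_eq_of_mul_eq_one_right (by rw [← mul_assoc, ← pow_three', F.hb])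
  intro z
  rcases z with _ | _ | _ | _ | _ | _ | _ | _ | _ | _ | _
  · simpa [letG, letM, ← F.phi_e0] using hw (1, 0, 0)
  · simpa [letG, letM, ← F.phi_e0, ← F.phi_neg] using hw (-(1, 0, 0))
  · simpa [letG, letM, ← F.phi_e1] using hw (0, 1, 0)
  · simpa [letG, letM, ← F.phi_e1, ← F.phi_neg] using hw (-(0, 1, 0))
  · simpa [letG, letM, ← F.phi_e2] using hw (0, 0, 1)
  · simpa [letG, letM, ← F.phi_e2, ← F.phi_neg] using hw (-(0, 0, 1))
  · exact F.acts_a
  · simp only [letG, hai]; exact F.acts_a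
  · exact F.acts_b
  · simp only [letG, hbi]; exact F.acts_mul F.acts_b F.acts_b
  · exact F.acts_one

theorem acts_evG : ∀ l : List ℕ, F.Acts (F.evG l) (evM l).1
  | [] => F.acts_one
  | z :: l => F.acts_mul (F.acts_letter z) (acts_evG l)

/-- The letters of the complement in a word. -/
def _root_.Cfsg.Agent.HSType.abPart (l : List ℕ) : List ℕ := l.filter fun z => Nat.ble 6 z

theorem linear_abPart : ∀ l : List ℕ, (evM (abPart l)).1 = (evM l).1 ∧ (evM (abPart l)).2 = 0
  | [] => ⟨rfl, rfl⟩
  | z :: l => by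
    obtain ⟨h1, h2⟩ := linear_abPart l
    rcases Nat.lt_or_ge z 6 with hz | hz
    · have e : abPart (z :: l) = abPart l := List.filter_cons_of_neg (by simpa using hz)
      rw [e]
      refine ⟨?_, h2⟩
      have : (letM z).1 = idL := by interval_cases z <;> rfl
      simp [evM, mmul, this, idL_comp, h1]
    · have e : abPart (z :: l) = z :: abPart l := List.filter_cons_of_pos (by simpa using hz)
      rw [e]
      have hz0 : (letM z).2 = 0 := by
        rcases z with _ | _ | _ | _ | _ | _ | _ | _ | _ | _ | _ <;> first | omega | rfl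
      simp [evM, mmul, h1, h2, hz0, app_zero]

theorem evG_split : ∀ l : List ℕ, F.evG l = F.evG (abPart l) * F.phi (evM l).2
  | [] => by simp [evG, evM, abPart, mone, F.phi_zero]
  | z :: l => by
    have ih := evG_split l
    rcases Nat.lt_or_ge z 6 with hz | hz
    · have e : abPart (z :: l) = abPart l := List.filter_cons_of_neg (by simpa using hz)
      have hl : F.letG z = F.phi (letM z).2 := by
        interval_cases z <;> simp only [letG, letM] <;>
          first
          | exact F.phi_e0.symm | exact F.phi_e1.symm | exact F.phi_e2.symm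
          | (rw [← F.phi_e0, ← F.phi_neg]; rfl) | (rw [← F.phi_e1, ← F.phi_neg]; rfl)
          | (rw [← F.phi_e2, ← F.phi_neg]; rfl)
      have hc : F.phi (letM z).2 * F.evG (abPart l) =
          F.evG (abPart l) * F.phi (app (evM l).1 (letM z).2) := by
        rw [← (linear_abPart l).1, ← F.acts_evG]; group
      rw [e]
      show F.letG z * F.evG l = _
      rw [ih, hl, ← mul_assoc, hc, mul_assoc, ← F.phi_add]
      rfl
    · have e : abPart (z :: l) = z :: abPart l := List.filter_cons_of_pos (by simpa using hz)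
      have hz0 : (letM z).2 = 0 := by
        rcases z with _ | _ | _ | _ | _ | _ | _ | _ | _ | _ | _ <;> first | omega | rfl
      rw [e]
      show F.letG z * F.evG l = F.letG z * F.evG (abPart l) * F.phi (mmul (letM z) (evM l)).2
      rw [ih, mul_assoc]
      simp [mmul, hz0, app_zero]

end Frame

end Cfsg.Agent.HSType
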