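/-
The complement: words with equal value in the model have equal value in a split frame.
Main definitions: `SplitFrame`, `winv`, `el`, `rep`.
Main results: `SplitFrame.evG_eq`, `SplitFrame.evG_mem_normal_form`.
-/
import Cfsg.Agent.Lib.HSType.Model
import Cfsg.Agent.Lib.HSType.Pres
import Cfsg.Agent.Lib.HSType.TableSmall

set_option autoImplicit false
set_option maxRecDepth 100000
set_option Elab.async false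

namespace Cfsg.Agent.HSType

open Cfsg.Agent.CosetEnum Cfsg.Agent.CosetEnum.Data

/-- The linear parts of the cosets. -/
def linTab : List Lin :=
  [((1, 0, 0), (0, 1, 0), (0, 0, 1)),
  ((3, 2, 0), (0, 3, 0), (2, 1, 1)),
  ((2, 1, 2), (0, 0, 1), (1, 2, 2)),
  ((2, 2, 1), (1, 2, 2), (0, 1, 0)),
  ((2, 1, 2), (2, 1, 1), (3, 2, 2)),
  ((0, 3, 1), (3, 2, 2), (0, 3, 0)),
  ((2, 3, 0), (0, 0, 3), (1, 0, 3)),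
  ((0, 2, 3), (3, 2, 2), (1, 3, 0)),
  ((2, 1, 0), (2, 3, 3), (1, 1, 3)),
  ((2, 1, 3), (1, 2, 2), (3, 3, 0)),
  ((2, 2, 1), (1, 0, 3), (0, 3, 0)),
  ((1, 2, 1), (0, 3, 0), (0, 0, 3)),
  ((1, 0, 0), (1, 3, 0), (0, 0, 3)),
  ((3, 3, 2), (0, 0, 3), (3, 2, 2)),
  ((0, 3, 1), (1, 1, 3), (0, 1, 0)),
  ((1, 1, 1), (0, 1, 0), (2, 3, 3)),
  ((3, 2, 0), (3, 3, 0), (2, 3, 3)),
  ((1, 1, 2), (2, 3, 3), (1, 2, 2)),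
  ((0, 2, 1), (3, 0, 1), (1, 3, 1)),
  ((3, 0, 3), (0, 1, 0), (2, 3, 1)),
  ((1, 2, 0), (3, 1, 0), (3, 3, 3)),
  ((1, 1, 0), (0, 0, 1), (1, 0, 1)),
  ((2, 3, 1), (3, 3, 1), (1, 0, 1)),
  ((3, 1, 3), (0, 3, 0), (0, 2, 1)),
  ((3, 0, 0), (1, 1, 0), (3, 2, 3)),
  ((3, 1, 0), (2, 1, 1), (1, 3, 1)),
  ((1, 2, 1), (1, 3, 1), (0, 0, 1)),
  ((3, 3, 1), (0, 0, 1), (3, 0, 1)),
  ((2, 3, 0), (2, 3, 1), (3, 0, 1)),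
  ((0, 1, 3), (3, 0, 1), (0, 1, 0)),
  ((3, 3, 2), (3, 3, 3), (1, 2, 2)),
  ((3, 1, 3), (1, 2, 2), (3, 1, 0)),
  ((0, 2, 3), (1, 0, 1), (3, 1, 0)),
  ((3, 2, 3), (3, 1, 0), (0, 0, 1)),
  ((1, 1, 1), (1, 0, 1), (2, 1, 1)),
  ((3, 0, 1), (2, 1, 1), (3, 3, 1)),
  ((2, 1, 0), (0, 2, 1), (3, 3, 1)),
  ((2, 2, 3), (3, 3, 1), (0, 3, 0)),
  ((1, 1, 2), (3, 2, 3), (3, 2, 2)),
  ((3, 0, 3), (3, 2, 2), (1, 1, 0)),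
  ((2, 1, 3), (1, 3, 1), (1, 1, 0)),
  ((3, 3, 3), (1, 1, 0), (2, 1, 1)),
  ((1, 0, 1), (3, 1, 3), (3, 3, 0)),
  ((1, 1, 1), (0, 0, 3), (1, 2, 0)),
  ((2, 3, 2), (2, 1, 3), (1, 1, 2)),
  ((2, 3, 3), (1, 0, 3), (3, 3, 3)),
  ((3, 3, 0), (1, 1, 1), (2, 3, 1)),
  ((3, 3, 1), (3, 2, 2), (2, 1, 0)),
  ((2, 2, 3), (3, 0, 3), (0, 1, 3)),
  ((3, 0, 1), (1, 3, 0), (1, 1, 3)),
  ((1, 3, 1), (3, 0, 3), (1, 3, 0)),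
  ((1, 2, 1), (2, 3, 3), (3, 0, 0)),
  ((2, 3, 2), (0, 2, 3), (3, 3, 2)),
  ((0, 0, 3), (1, 1, 3), (3, 2, 3)),
  ((1, 3, 0), (1, 2, 1), (0, 2, 1)),
  ((3, 0, 1), (1, 2, 2), (2, 3, 0)),
  ((0, 1, 3), (3, 1, 3), (2, 2, 3)),
  ((3, 3, 1), (3, 3, 0), (1, 0, 3)),
  ((3, 1, 0), (1, 0, 3), (3, 1, 3)),
  ((0, 2, 1), (1, 2, 0), (3, 1, 3)),
  ((3, 0, 0), (3, 1, 3), (0, 0, 3)),
  ((0, 1, 3), (1, 1, 2), (0, 3, 0)),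
  ((1, 1, 0), (0, 3, 0), (2, 1, 3)),
  ((3, 0, 3), (3, 3, 3), (2, 1, 3)),
  ((1, 1, 3), (2, 1, 3), (1, 0, 3)),
  ((3, 1, 3), (2, 3, 1), (1, 3, 0)),
  ((2, 3, 3), (1, 3, 0), (1, 1, 1)),
  ((1, 2, 0), (2, 1, 0), (1, 1, 1)),
  ((2, 3, 2), (1, 1, 1), (3, 2, 2)),
  ((3, 2, 3), (0, 1, 3), (0, 0, 3)),
  ((2, 1, 3), (0, 0, 3), (3, 0, 3)),
  ((1, 1, 0), (1, 1, 3), (3, 0, 3)),
  ((2, 3, 1), (3, 0, 0), (3, 0, 3)),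
  ((1, 2, 0), (3, 0, 3), (2, 3, 3)),
  ((2, 2, 3), (3, 3, 2), (0, 1, 0)),
  ((3, 1, 0), (0, 1, 0), (0, 2, 3)),
  ((3, 1, 3), (3, 2, 3), (0, 2, 3)),
  ((1, 0, 3), (0, 2, 3), (1, 1, 3)),
  ((3, 0, 3), (0, 2, 1), (3, 3, 0)),
  ((0, 0, 3), (3, 3, 0), (1, 2, 1)),
  ((3, 0, 0), (2, 3, 0), (1, 2, 1)),
  ((2, 3, 2), (1, 2, 1), (1, 2, 2)),
  ((3, 3, 3), (2, 2, 3), (2, 3, 3)),
  ((0, 2, 3), (2, 3, 3), (3, 1, 3)),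
  ((3, 3, 2), (3, 0, 1), (2, 3, 2)),
  ((2, 2, 3), (3, 2, 0), (0, 3, 1)),
  ((3, 2, 2), (1, 3, 1), (1, 1, 2)),
  ((2, 1, 1), (3, 3, 2), (1, 2, 0)),
  ((3, 2, 3), (1, 1, 1), (3, 0, 0)),
  ((0, 3, 1), (3, 1, 0), (2, 2, 3)),
  ((0, 3, 0), (3, 3, 3), (0, 1, 3)),
  ((1, 0, 3), (0, 3, 1), (2, 1, 0)),
  ((2, 3, 3), (0, 0, 1), (3, 2, 0)),
  ((1, 1, 2), (3, 3, 1), (2, 3, 2)),
  ((0, 1, 3), (1, 0, 0), (2, 2, 1)),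
  ((1, 2, 2), (1, 0, 1), (3, 3, 2)),
  ((0, 0, 1), (1, 1, 2), (3, 0, 0)),
  ((3, 3, 3), (1, 2, 1), (1, 2, 0)),
  ((2, 2, 1), (1, 1, 0), (0, 1, 3)),
  ((0, 1, 0), (3, 2, 3), (2, 2, 3)),
  ((1, 1, 3), (2, 2, 1), (2, 3, 0)),
  ((0, 0, 3), (2, 1, 1), (1, 0, 0)),
  ((1, 0, 1), (2, 3, 2), (1, 1, 0)),
  ((2, 1, 0), (1, 1, 0), (3, 0, 1)),
  ((3, 0, 0), (0, 3, 1), (0, 0, 1)),
  ((1, 1, 1), (1, 1, 2), (3, 2, 0)),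
  ((1, 3, 0), (3, 2, 0), (1, 3, 1)),
  ((1, 1, 0), (1, 2, 0), (2, 3, 1)),
  ((3, 2, 2), (2, 3, 1), (3, 3, 2)),
  ((1, 1, 3), (3, 0, 0), (3, 0, 1)),
  ((3, 2, 0), (3, 0, 1), (1, 1, 1)),
  ((3, 3, 0), (2, 2, 3), (2, 1, 3)),
  ((0, 2, 1), (2, 1, 3), (3, 1, 0)),
  ((3, 3, 1), (0, 1, 3), (2, 3, 0)),
  ((2, 1, 1), (2, 3, 0), (3, 3, 3)),
  ((2, 1, 3), (2, 1, 0), (1, 0, 1)),
  ((0, 3, 0), (1, 0, 1), (0, 3, 1)),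
  ((1, 3, 1), (2, 3, 2), (3, 1, 0)),
  ((2, 3, 0), (3, 1, 0), (3, 3, 1)),
  ((1, 2, 0), (2, 2, 1), (2, 1, 1)),
  ((1, 2, 1), (3, 3, 2), (1, 0, 0)),
  ((3, 3, 0), (1, 0, 0), (1, 0, 1)),
  ((3, 1, 0), (3, 0, 0), (0, 2, 1)),
  ((1, 2, 2), (0, 2, 1), (1, 1, 2)),
  ((1, 0, 3), (1, 2, 0), (3, 3, 1)),
  ((1, 0, 0), (3, 3, 1), (1, 2, 1)),
  ((1, 3, 0), (0, 1, 3), (0, 2, 3)),
  ((2, 3, 1), (0, 2, 3), (1, 1, 0)),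
  ((3, 0, 1), (2, 2, 3), (2, 1, 0)),
  ((0, 0, 1), (2, 1, 0), (3, 2, 3)),
  ((0, 2, 3), (2, 3, 0), (1, 3, 1)),
  ((0, 1, 0), (1, 3, 1), (2, 2, 1)),
  ((3, 2, 3), (2, 1, 2), (1, 0, 0)),
  ((0, 1, 0), (3, 3, 0), (0, 3, 1)),
  ((1, 2, 2), (0, 1, 3), (2, 3, 2)),
  ((1, 1, 3), (3, 3, 2), (2, 1, 0)),
  ((1, 0, 0), (2, 1, 3), (3, 2, 3)),
  ((1, 3, 1), (1, 0, 0), (0, 2, 3)),
  ((3, 2, 2), (1, 0, 3), (2, 1, 2)),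
  ((1, 1, 2), (2, 2, 1), (2, 1, 2)),
  ((0, 0, 1), (2, 3, 1), (1, 2, 1)),
  ((1, 3, 1), (0, 3, 1), (0, 2, 1)),
  ((2, 1, 2), (3, 0, 3), (1, 1, 2)),
  ((3, 3, 3), (2, 1, 2), (3, 2, 0)),
  ((0, 3, 0), (1, 3, 0), (2, 2, 1)),
  ((3, 2, 2), (2, 2, 3), (2, 3, 2)),
  ((1, 0, 3), (1, 1, 2), (2, 3, 0)),
  ((3, 2, 0), (0, 2, 3), (3, 3, 3)),
  ((1, 0, 1), (3, 2, 0), (2, 1, 3)),
  ((1, 2, 2), (1, 1, 3), (2, 1, 2)),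
  ((3, 3, 2), (0, 3, 1), (2, 1, 2)),
  ((2, 1, 1), (0, 2, 1), (1, 1, 1)),
  ((1, 0, 1), (2, 2, 1), (2, 3, 1)),
  ((2, 1, 2), (3, 1, 3), (3, 3, 2)),
  ((2, 1, 0), (1, 0, 0), (1, 0, 3)),
  ((2, 3, 1), (2, 1, 2), (3, 3, 0)),
  ((2, 3, 3), (2, 3, 2), (1, 2, 0)),
  ((0, 1, 0), (1, 2, 0), (0, 1, 3)),
  ((1, 3, 0), (2, 1, 0), (3, 1, 3)),
  ((2, 1, 1), (3, 2, 3), (3, 2, 0)),
  ((0, 0, 1), (3, 3, 3), (1, 0, 0)),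
  ((0, 2, 1), (2, 1, 2), (1, 3, 0)),
  ((0, 3, 1), (1, 2, 1), (2, 2, 1)),
  ((2, 2, 1), (1, 1, 1), (0, 3, 1)),
  ((3, 3, 0), (2, 3, 0), (3, 0, 3)),
  ((2, 3, 0), (3, 2, 0), (1, 1, 3)),
  ((0, 0, 3), (2, 3, 2), (3, 0, 0)),
  ((0, 3, 0), (3, 0, 0), (2, 2, 3))]

/-- Words for the cosets. -/
def repTab : List (List ℕ) :=
  [[], [6], [8], [9], [8, 6], [9, 6], [6, 8], [6, 9], [6, 8, 6], [6, 9, 6], [8, 6, 8], [9, 6, 8], [8, 6, 9], [9, 6, 9], [8, 6, 8, 6], [9, 6, 8, 6], [8, 6, 9, 6], [9, 6, 9, 6], [6, 8, 6, 8], [6, 9, 6, 8], [6, 8, 6, 9], [6, 9, 6, 9], [6, 8, 6, 8, 6], [6, 9, 6, 8, 6], [6, 8, 6, 9, 6], [6, 9, 6, 9, 6], [8, 6, 8, 6, 8], [9, 6, 8, 6, 8], [8, 6, 9, 6, 8], [9, 6, 9, 6, 8], [8, 6, 8, 6, 9], [9, 6, 8, 6, 9], [8, 6, 9, 6, 9], [9, 6, 9, 6, 9], [8, 6, 8, 6, 8, 6], [9, 6, 8, 6, 8, 6], [8, 6, 9, 6,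 8, 6], [9, 6, 9, 6, 8, 6], [8, 6, 8, 6, 9, 6], [9, 6, 8, 6, 9, 6], [8, 6, 9, 6, 9, 6], [9, 6, 9, 6, 9, 6], [6, 8, 6, 8, 6, 8], [6, 9, 6, 8, 6, 8], [6, 8, 6, 9, 6, 8], [6, 9, 6, 9, 6, 8], [6, 8, 6, 8, 6, 9], [6, 9, 6, 8, 6, 9], [6, 8, 6, 9, 6, 9], [6, 9, 6, 9, 6, 9], [6, 8, 6, 8, 6, 8, 6], [6, 9, 6, 8, 6, 8, 6], [6, 8, 6, 9, 6, 8, 6], [6, 9, 6, 9, 6, 8, 6], [6, 8, 6, 8, 6, 9, 6], [6, 9, 6, 8, 6, 9, 6], [6, 8, 6, 9, 6, 9, 6], [6, 9, 6, 9, 6, 9, 6], [9, 6, 8, 6, 8, 6, 8], [8, 6, 9, 6, 8, 6, 8], [9, 6, 9, 6, 8, 6, 8], [8, 6, 8, 6, 9, 6, 8], [9, 6, 8, 6, 9, 6, 8], [8, 6, 9, 6, 9, 6, 8], [9, 6, 9, 6, 9, 6, 8], [8, 6, 8, 6, 8, 6, 9], [9, 6, 8, 6, 8, 6, 9], [8, 6, 9, 6, 8, 6, 9], [9, 6, 9, 6, 8, 6, 9], [8, 6, 8, 6, 9, 6, 9], [9, 6, 8, 6, 9, 6, 9], [8, 6, 9, 6, 9, 6, 9], [8, 6, 9, 6, 8, 6, 8, 6], [9, 6,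 9, 6, 8, 6, 8, 6], [8, 6, 8, 6, 9, 6, 8, 6], [9, 6, 8, 6, 9, 6, 8, 6], [8, 6, 9, 6, 9, 6, 8, 6], [9, 6, 9, 6, 9, 6, 8, 6], [8, 6, 8, 6, 8, 6, 9, 6], [9, 6, 8, 6, 8, 6, 9, 6], [8, 6, 9, 6, 8, 6, 9, 6], [9, 6, 9, 6, 8, 6, 9, 6], [8, 6, 8, 6, 9, 6, 9, 6], [9, 6, 8, 6, 9, 6, 9, 6], [6, 9, 6, 8, 6, 8, 6, 8], [6, 8, 6, 9, 6, 8, 6, 8], [6, 9, 6, 9, 6, 8, 6, 8], [6, 8, 6, 8, 6, 9, 6, 8], [6, 8, 6, 9, 6, 9, 6, 8], [6, 9, 6, 8, 6, 8, 6, 9], [6, 9, 6, 9, 6, 8, 6, 9], [6, 8, 6, 8, 6, 9, 6, 9], [6, 9, 6, 8, 6, 9, 6, 9], [6, 8, 6, 9, 6, 9, 6, 9], [6, 8, 6, 9, 6, 8, 6, 8, 6], [6, 9, 6, 9, 6, 8, 6, 8, 6], [6, 8, 6, 8, 6, 9, 6, 8, 6], [6, 8, 6, 9, 6, 9, 6, 8, 6], [6, 9, 6, 8, 6, 8, 6, 9, 6], [6, 9, 6, 9, 6, 8, 6, 9, 6], [6, 8, 6, 8, 6, 9, 6, 9, 6], [6, 9, 6, 8, 6, 9, 6, 9, 6], [8, 6, 9, 6, 8, 6, 8, 6, 8], [9, 6,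 9, 6, 8, 6, 8, 6, 8], [8, 6, 8, 6, 9, 6, 8, 6, 8], [8, 6, 9, 6, 9, 6, 8, 6, 8], [9, 6, 9, 6, 9, 6, 8, 6, 8], [8, 6, 8, 6, 8, 6, 9, 6, 8], [9, 6, 8, 6, 8, 6, 9, 6, 8], [8, 6, 8, 6, 9, 6, 9, 6, 8], [9, 6, 8, 6, 9, 6, 9, 6, 8], [8, 6, 9, 6, 8, 6, 8, 6, 9], [9, 6, 9, 6, 8, 6, 8, 6, 9], [8, 6, 9, 6, 9, 6, 8, 6, 9], [9, 6, 9, 6, 9, 6, 8, 6, 9], [8, 6, 8, 6, 8, 6, 9, 6, 9], [9, 6, 8, 6, 8, 6, 9, 6, 9], [8, 6, 8, 6, 9, 6, 9, 6, 9], [9, 6, 8, 6, 9, 6, 9, 6, 9], [8, 6, 8, 6, 9, 6, 8, 6, 8, 6], [8, 6, 9, 6, 9, 6, 8, 6, 8, 6], [9, 6, 9, 6, 9, 6, 8, 6, 8, 6], [8, 6, 8, 6, 8, 6, 9, 6, 8, 6], [9, 6, 8, 6, 8, 6, 9, 6, 8, 6], [8, 6, 8, 6, 9, 6, 9, 6, 8, 6], [9, 6, 8, 6, 9, 6, 9, 6, 8, 6], [8, 6, 9, 6, 8, 6, 8, 6, 9, 6], [9, 6, 9, 6, 8, 6, 8, 6, 9, 6], [8, 6, 9, 6, 9, 6, 8, 6, 9, 6], [9, 6, 9, 6, 9, 6, 8, 6, 9, 6],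 [8, 6, 8, 6, 8, 6, 9, 6, 9, 6], [9, 6, 8, 6, 8, 6, 9, 6, 9, 6], [6, 8, 6, 9, 6, 8, 6, 8, 6, 8], [6, 9, 6, 9, 6, 8, 6, 8, 6, 8], [6, 8, 6, 8, 6, 9, 6, 8, 6, 8], [6, 8, 6, 9, 6, 9, 6, 8, 6, 8], [6, 9, 6, 8, 6, 8, 6, 9, 6, 8], [6, 8, 6, 8, 6, 9, 6, 9, 6, 8], [6, 9, 6, 8, 6, 9, 6, 9, 6, 8], [6, 8, 6, 9, 6, 8, 6, 8, 6, 9], [6, 9, 6, 9, 6, 8, 6, 8, 6, 9], [6, 8, 6, 9, 6, 9, 6, 8, 6, 9], [6, 9, 6, 8, 6, 8, 6, 9, 6, 9], [6, 8, 6, 8, 6, 9, 6, 9, 6, 9], [6, 9, 6, 8, 6, 9, 6, 9, 6, 9], [6, 8, 6, 8, 6, 9, 6, 8, 6, 8, 6], [6, 8, 6, 9, 6, 9, 6, 8, 6, 8, 6], [6, 9, 6, 8, 6, 8, 6, 9, 6, 8, 6], [6, 8, 6, 8, 6, 9, 6, 9, 6, 8, 6], [6, 9, 6, 8, 6, 9, 6, 9, 6, 8, 6], [6, 8, 6, 9, 6, 8, 6, 8, 6, 9, 6], [6, 9, 6, 9, 6, 8, 6, 8, 6, 9, 6], [6, 8, 6, 9, 6, 9, 6, 8, 6, 9, 6], [6, 9, 6, 8, 6, 8, 6, 9, 6, 9, 6], [8, 6, 8, 6,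 9, 6, 8, 6, 8, 6, 8], [9, 6, 9, 6, 9, 6, 8, 6, 8, 6, 8], [8, 6, 8, 6, 8, 6, 9, 6, 8, 6, 8], [9, 6, 8, 6, 8, 6, 9, 6, 8, 6, 8], [8, 6, 8, 6, 9, 6, 9, 6, 8, 6, 8], [8, 6, 9, 6, 8, 6, 8, 6, 9, 6, 8], [9, 6, 8, 6, 8, 6, 9, 6, 9, 6, 8], [8, 6, 8, 6, 9, 6, 8, 6, 8, 6, 9], [8, 6, 9, 6, 9, 6, 8, 6, 8, 6, 9], [9, 6, 8, 6, 9, 6, 9, 6, 8, 6, 9], [9, 6, 9, 6, 8, 6, 8, 6, 9, 6, 9], [8, 6, 8, 6, 8, 6, 9, 6, 9, 6, 9], [8, 6, 8, 6, 8, 6, 9, 6, 8, 6, 8, 6], [9, 6, 8, 6, 8, 6, 9, 6, 8, 6, 8, 6]]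

/-- A frame whose two elements satisfy the relations of `L3(2)`. -/
structure SplitFrame (G : Type*) [Group G] extends Frame G where
  h7 : (a * b) ^ 7 = 1
  h4 : (a⁻¹ * b⁻¹ * a * b) ^ 4 = 1

/-- The linear part of a coset. -/
def linT (i : ℕ) : Lin := linTab.getD i idL

/-- The word of a coset. -/
def repW (i : ℕ) : List ℕ := repTab.getD i []

/-- The relations of `L3(2)` on letters `0, 1, 2, 3`. -/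
def rels32 : List (List ℕ) :=
  [[0, 0], [2, 2, 2], [0, 2, 0, 2, 0, 2, 0, 2, 0, 2, 0, 2, 0, 2],
   [1, 3, 0, 2, 1, 3, 0, 2, 1, 3, 0, 2, 1, 3, 0, 2]]

theorem rels32_table : Setup.tableOK (presSetup 2 rels32) l32Data [] [] = true := by decide +kernel

/-- The coset of a word in the complement letters. -/
noncomputable def coset (l : List ℕ) : ℕ := l32Data.tw ((l.map fun z => z - 6).reverse) 0

theorem linT_step : ((List.range 168).all fun i => (List.range 4).all fun z =>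
    Nat.blt (l32Data.act z i) 168 && decide (linT (l32Data.act z i) = comp (letM (z + 6)).1 (linT i))) = true := by
  decide +kernel

theorem linT_ne : ((List.range 168).all fun i => Nat.beq i 0 || decide (linT i ≠ idL)) = true := by
  decide +kernel

theorem tw_append (D : Data) : ∀ (u v : List ℕ) (i : ℕ), D.tw (u ++ v) i = D.tw v (D.tw u i)
  | [], _, _ => rfl
  | a :: u, v, i => tw_append D u v (D.act a i)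

theorem coset_spec : ∀ l : List ℕ, (∀ z ∈ l, 6 ≤ z ∧ z < 10) → coset l < 168 ∧ (evM l).1 = linT (coset l)
  | [], _ => ⟨by decide, rfl⟩
  | z :: l, h => by
    obtain ⟨h1, h2⟩ := coset_spec l fun y hy => h y (List.mem_cons_of_mem z hy)
    have hz := h z List.mem_cons_self
    have hs := linT_step
    simp only [List.all_eq_true, List.mem_range, Bool.and_eq_true, Nat.blt_eq, decide_eq_true_eq] at hs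
    obtain ⟨h3, h4⟩ := hs (coset l) h1 (z - 6) (by omega)
    have e : coset (z :: l) = l32Data.act (z - 6) (coset l) := by
      show l32Data.tw (((z - 6) :: l.map fun z => z - 6).reverse) 0 = _
      rw [List.reverse_cons, tw_append]
      rfl
    refine ⟨e ▸ h3, ?_⟩
    rw [e, h4, show z - 6 + 6 = z by omega, ← h2]
    rfl

namespace Frame

variable {G : Type*} [Group G] (F : Frame G)

theorem evG_eq_evp : ∀ l : List ℕ, F.evG l = evp F.letG l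
  | [] => rfl
  | z :: l => by simp [evG, evp, evG_eq_evp l]

end Frame

/-- The inverse word. -/
def winv (l : List ℕ) : List ℕ := (l.map fun z => bif z % 2 == 0 then z + 1 else z - 1).reverse

theorem mmul_assoc (x y z : Mo) : mmul (mmul x y) z = mmul x (mmul y z) := by
  simp only [mmul, comp_assoc, app_add, app_comp, add_assoc]

theorem mone_mmul (x : Mo) : mmul mone x = x := by simp [mmul, mone, idL_comp, app_zero]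

theorem mmul_mone (x : Mo) : mmul x mone = x := by simp [mmul, mone, comp_idL, app_idL]

theorem evM_append : ∀ l k : List ℕ, evM (l ++ k) = mmul (evM l) (evM k)
  | [], k => (mone_mmul _).symm
  | z :: l, k => by simp [evM, evM_append l k, mmul_assoc]

theorem winv_lt {l : List ℕ} (hl : ∀ z ∈ l, z < 10) : ∀ z ∈ winv l, z < 10 := by
  intro z hz
  obtain ⟨y, hy, rfl⟩ := List.mem_map.1 (List.mem_reverse.1 hz)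
  have := hl y hy
  interval_cases y <;> decide

theorem evM_winv : ∀ l : List ℕ, (∀ z ∈ l, z < 10) → mmul (evM l) (evM (winv l)) = mone
  | [], _ => mone_mmul _
  | z :: l, h => by
    have hz := h z List.mem_cons_self
    have hk : mmul (letM z) (letM (bif z % 2 == 0 then z + 1 else z - 1)) = mone := by
      interval_cases z <;> decide
    have e : winv (z :: l) = winv l ++ [bif z % 2 == 0 then z + 1 else z - 1] := by simp [winv]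
    rw [e, evM_append]
    show mmul (mmul (letM z) (evM l)) (mmul (evM (winv l)) (mmul _ mone)) = mone
    rw [mmul_mone, mmul_assoc, ← mmul_assoc (evM l), evM_winv l fun y hy => h y (List.mem_cons_of_mem z hy),
      mone_mmul, hk]

namespace SplitFrame

variable {G : Type*} [Group G] (F : SplitFrame G)

/-- The letters of `L3(2)`. -/
def let32 (z : ℕ) : G := F.letG (z + 6)

theorem rels32_hold : ∀ r ∈ rels32, evp F.let32 r = 1 := by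
  have h4 := F.h4
  have h7 := F.h7
  have hb := F.hb
  have ha := F.ha
  intro r hr
  simp only [rels32, List.mem_cons, List.not_mem_nil, or_false] at hr
  rcases hr with rfl | rfl | rfl | rfl <;> simp only [evp, let32, Frame.letG, mul_one]
  · exact ha
  · rw [← mul_assoc, ← pow_three', hb]
  · rw [← h7]; simp only [pow_succ, pow_zero, one_mul, mul_assoc]
  · rw [← h4]; simp only [pow_succ, pow_zero, one_mul, mul_assoc]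

theorem evG_ab_eq_one (l : List ℕ) (hl : ∀ z ∈ l, 6 ≤ z ∧ z < 10) (h : (evM l).1 = idL) : F.evG l = 1 := by
  obtain ⟨h1, h2⟩ := coset_spec l hl
  rw [h] at h2
  have hne := linT_ne
  simp only [List.all_eq_true, List.mem_range, Bool.or_eq_true, decide_eq_true_eq] at hne
  rcases hne _ h1 with h0 | h0
  swap
  · exact absurd h2.symm h0
  have hw : evp (presSetup 2 rels32).el (l.map fun z => z - 6) = 1 := by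
    refine evp_eq_one_of_tw l32Data_check rels32_table _ (fun z hz => ?_) (Nat.eq_of_beq_eq_true h0)
    obtain ⟨y, hy, rfl⟩ := List.mem_map.1 hz
    have := hl y hy
    show y - 6 < 4
    omega
  obtain ⟨φ, hφ⟩ := exists_presHom (m := 2) (rels := rels32) F.let32
    (fun i hi => by interval_cases i <;> simp [let32, Frame.letG]) (by decide) F.rels32_hold
  have he := congrArg φ hw
  rw [map_one, presHom_evp (fun i hi => by interval_cases i <;> simp [let32, Frame.letG]) hφ _ (fun z hz => by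
    obtain ⟨y, hy, rfl⟩ := List.mem_map.1 hz
    have := hl y hy
    omega)] at he
  rw [← he, Frame.evG_eq_evp]
  clear he hw h h2 h0 h1
  induction l with
  | nil => rfl
  | cons z l ih =>
    have hz := hl z List.mem_cons_self
    simp only [evp, List.map_cons]
    rw [ih fun y hy => hl y (List.mem_cons_of_mem z hy), let32, show z - 6 + 6 = z by omega]

theorem abPart_range {l : List ℕ} (hl : ∀ z ∈ l, z < 10) : ∀ z ∈ abPart l, 6 ≤ z ∧ z < 10 := by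
  intro z hz
  obtain ⟨h1, h2⟩ := List.mem_filter.1 hz
  exact ⟨Nat.le_of_ble_eq_true h2, hl z h1⟩

theorem evG_eq_one (l : List ℕ) (hl : ∀ z ∈ l, z < 10) (h : evM l = mone) : F.evG l = 1 := by
  rw [Frame.evG_split, F.evG_ab_eq_one _ (abPart_range hl) (by
    rw [(Frame.linear_abPart l).1, h]; rfl), h, one_mul]
  exact F.phi_zero

theorem evG_winv (l : List ℕ) : F.evG (winv l) = (F.evG l)⁻¹ ∨ ¬∀ z ∈ l, z < 10 := by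
  by_cases hl : ∀ z ∈ l, z < 10
  swap
  · exact Or.inr hl
  refine Or.inl (eq_inv_of_mul_eq_one_right ?_)
  rw [← Frame.evG_append]
  exact F.evG_eq_one _ (by
    intro z hz
    rcases List.mem_append.1 hz with h | h
    · exact hl z h
    · exact winv_lt hl z h) (by rw [evM_append, evM_winv l hl])

/-- Words with the same value in the model have the same value. -/
theorem evG_eq (l k : List ℕ) (hl : ∀ z ∈ l, z < 10) (hk : ∀ z ∈ k, z < 10) (h : evM l = evM k) :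
    F.evG l = F.evG k := by
  have h1 : F.evG (l ++ winv k) = 1 := F.evG_eq_one _ (by
    intro z hz
    rcases List.mem_append.1 hz with e | e
    · exact hl z e
    · exact winv_lt hk z e) (by rw [evM_append, h, evM_winv k hk])
  rw [Frame.evG_append, (F.evG_winv k).resolve_right (not_not.2 hk), mul_inv_eq_one] at h1
  exact h1

/-- A form of `evG_eq` decided at once. -/
theorem evG_eq' (l k : List ℕ)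
    (h : (l.all (fun z => Nat.blt z 10) && (k.all (fun z => Nat.blt z 10) && decide (evM l = evM k))) = true) :
    F.evG l = F.evG k := by
  simp only [Bool.and_eq_true, List.all_eq_true, Nat.blt_eq, decide_eq_true_eq] at h
  exact F.evG_eq l k h.1 h.2.1 h.2.2

end SplitFrame

end Cfsg.Agent.HSType
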