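/-
Pairs of lifts of the two generators are conjugate to the model pair by matrices congruent to the identity.
Main result: `exists_normalise`.
-/
import Cfsg.Agent.Lib.HSType.Model

set_option autoImplicit false
set_option maxRecDepth 100000
set_option Elab.async false

namespace Cfsg.Agent.HSType

/-- Powers of a linear map. -/
def lpow (L : Lin) : ℕ → Lin
  | 0 => idL
  | n + 1 => comp (lpow L n) L

/-- The vectors congruent to a given one modulo two. -/
def rowLifts (r : V3) : List V3 :=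
  [r.1, r.1 + 2].flatMap fun x => [r.2.1, r.2.1 + 2].flatMap fun y => [r.2.2, r.2.2 + 2].map fun z => (x, y, z)

/-- The linear maps congruent to a given one modulo two. -/
def lifts (L : Lin) : List Lin :=
  (rowLifts L.1).flatMap fun x => (rowLifts L.2.1).flatMap fun y => (rowLifts L.2.2).map fun z => (x, y, z)

/-- Congruence modulo two of entries. -/
def even4 (x y : ZMod 4) : Bool := (x.val + y.val) % 2 == 0

/-- Congruence modulo two of vectors. -/
def evenV (x y : V3) : Bool := even4 x.1 y.1 && (even4 x.2.1 y.2.1 && even4 x.2.2 y.2.2)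

/-- Congruence modulo two. -/
def evenL (L K : Lin) : Bool := evenV L.1 K.1 && (evenV L.2.1 K.2.1 && evenV L.2.2 K.2.2)

theorem mem_two {x y : ZMod 4} (h : even4 x y = true) : x = y ∨ x = y + 2 := by
  revert h; revert x y; decide

theorem mem_rowLifts {x r : V3} (h : evenV x r = true) : x ∈ rowLifts r := by
  simp only [evenV, Bool.and_eq_true] at h
  obtain ⟨x0, x1, x2⟩ := x
  simp only [rowLifts, List.mem_flatMap, List.mem_map, List.mem_cons, List.not_mem_nil, or_false]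
  exact ⟨x0, mem_two h.1, x1, mem_two h.2.1, x2, mem_two h.2.2, rfl⟩

theorem mem_lifts {L K : Lin} (h : evenL L K = true) : L ∈ lifts K := by
  simp only [evenL, Bool.and_eq_true] at h
  obtain ⟨x, y, z⟩ := L
  simp only [lifts, List.mem_flatMap, List.mem_map]
  exact ⟨x, mem_rowLifts h.1, y, mem_rowLifts h.2.1, z, mem_rowLifts h.2.2, rfl⟩

/-- Witnesses for the element of order three. -/
def kerB : List Lin :=
  [((1, 0, 0), (0, 1, 0), (0, 0, 1)),
  ((1, 0, 0), (0, 1, 0), (0, 0, 3)),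
  ((1, 0, 0), (0, 1, 0), (0, 2, 1)),
  ((1, 0, 0), (0, 1, 0), (0, 2, 3)),
  ((1, 0, 0), (0, 1, 0), (2, 0, 1)),
  ((1, 0, 0), (0, 1, 0), (2, 0, 3)),
  ((1, 0, 0), (0, 1, 0), (2, 2, 1)),
  ((1, 0, 0), (0, 1, 0), (2, 2, 3)),
  ((1, 0, 0), (0, 1, 2), (2, 0, 1)),
  ((1, 0, 0), (0, 1, 2), (2, 0, 3)),
  ((1, 0, 0), (0, 1, 2), (2, 2, 1)),
  ((1, 0, 0), (0, 1, 2), (2, 2, 3)),
  ((1, 0, 0), (0, 1, 2), (0, 0, 1)),
  ((1, 0, 0), (0, 1, 2), (0, 0, 3)),
  ((1, 0, 0), (0, 1, 2), (0, 2, 1)),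
  ((1, 0, 0), (0, 1, 2), (0, 2, 3)),
  ((1, 0, 0), (0, 3, 0), (0, 0, 3)),
  ((1, 0, 0), (0, 3, 0), (0, 0, 1)),
  ((1, 0, 0), (0, 3, 0), (0, 2, 3)),
  ((1, 0, 0), (0, 3, 0), (0, 2, 1)),
  ((1, 0, 0), (0, 3, 0), (2, 0, 3)),
  ((1, 0, 0), (0, 3, 0), (2, 0, 1)),
  ((1, 0, 0), (0, 3, 0), (2, 2, 3)),
  ((1, 0, 0), (0, 3, 0), (2, 2, 1)),
  ((1, 0, 0), (0, 3, 2), (2, 0, 3)),
  ((1, 0, 0), (0, 3, 2), (2, 0, 1)),
  ((1, 0, 0), (0, 3, 2), (2, 2, 3)),
  ((1, 0, 0), (0, 3, 2), (2, 2, 1)),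
  ((1, 0, 0), (0, 3, 2), (0, 0, 3)),
  ((1, 0, 0), (0, 3, 2), (0, 0, 1)),
  ((1, 0, 0), (0, 3, 2), (0, 2, 3)),
  ((1, 0, 0), (0, 3, 2), (0, 2, 1)),
  ((1, 0, 0), (2, 1, 0), (0, 2, 1)),
  ((1, 0, 0), (2, 1, 0), (0, 2, 3)),
  ((1, 0, 0), (2, 1, 0), (0, 0, 1)),
  ((1, 0, 0), (2, 1, 0), (0, 0, 3)),
  ((1, 0, 0), (2, 1, 0), (2, 2, 1)),
  ((1, 0, 0), (2, 1, 0), (2, 2, 3)),
  ((1, 0, 0), (2, 1, 0), (2, 0, 1)),
  ((1, 0, 0), (2, 1, 0), (2, 0, 3)),
  ((1, 0, 0), (2, 1, 2), (2, 2, 1)),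
  ((1, 0, 0), (2, 1, 2), (2, 2, 3)),
  ((1, 0, 0), (2, 1, 2), (2, 0, 1)),
  ((1, 0, 0), (2, 1, 2), (2, 0, 3)),
  ((1, 0, 0), (2, 1, 2), (0, 2, 1)),
  ((1, 0, 0), (2, 1, 2), (0, 2, 3)),
  ((1, 0, 0), (2, 1, 2), (0, 0, 1)),
  ((1, 0, 0), (2, 1, 2), (0, 0, 3)),
  ((1, 0, 0), (2, 3, 0), (0, 2, 3)),
  ((1, 0, 0), (2, 3, 0), (0, 2, 1)),
  ((1, 0, 0), (2, 3, 0), (0, 0, 3)),
  ((1, 0, 0), (2, 3, 0), (0, 0, 1)),
  ((1, 0, 0), (2, 3, 0), (2, 2, 3)),
  ((1, 0, 0), (2, 3, 0), (2, 2, 1)),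
  ((1, 0, 0), (2, 3, 0), (2, 0, 3)),
  ((1, 0, 0), (2, 3, 0), (2, 0, 1)),
  ((1, 0, 0), (2, 3, 2), (2, 2, 3)),
  ((1, 0, 0), (2, 3, 2), (2, 2, 1)),
  ((1, 0, 0), (2, 3, 2), (2, 0, 3)),
  ((1, 0, 0), (2, 3, 2), (2, 0, 1)),
  ((1, 0, 0), (2, 3, 2), (0, 2, 3)),
  ((1, 0, 0), (2, 3, 2), (0, 2, 1)),
  ((1, 0, 0), (2, 3, 2), (0, 0, 3)),
  ((1, 0, 0), (2, 3, 2), (0, 0, 1))]

/-- Witnesses for the involution. -/
def kerA : List Lin :=
  [((1, 0, 0), (0, 1, 0), (0, 0, 1)),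
  ((1, 2, 0), (0, 1, 2), (2, 0, 1)),
  ((1, 0, 2), (2, 1, 0), (0, 2, 1)),
  ((1, 2, 2), (2, 1, 2), (2, 2, 1))]

/-- The relations on the pair. -/
def pairOK (A B : Lin) : Bool :=
  decide (lpow A 2 = idL) && (decide (lpow (comp A B) 7 = idL) &&
    decide (lpow (comp (comp A (comp B B)) (comp A B)) 4 = idL))

theorem kerB_ok : kerB.all (fun K => decide (comp K K = idL ∧ evenL K idL = true)) = true := by decide +kernel

theorem kerA_ok : kerA.all (fun K => decide (comp K K = idL ∧ evenL K idL = true)) = true := by decide +kernel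

theorem liftB_ok : ((lifts matB).all fun B => !decide (lpow B 3 = idL) ||
    kerB.any fun K => decide (comp matB K = comp K B)) = true := by decide +kernel

theorem liftA_conj : ((lifts matA).all fun A => !decide (lpow A 2 = idL) ||
    kerB.all fun K => (lifts matA).contains (comp (comp K A) K)) = true := by decide +kernel

theorem liftA_ok : ((lifts matA).all fun A => !pairOK A matB ||
    kerA.any fun K => decide (comp matA K = comp K A ∧ comp matB K = comp K matB)) = true := by decide +kernel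

theorem lpow_conj {K X : Lin} (hK : comp K K = idL) : ∀ n, lpow (comp (comp K X) K) n = comp (comp K (lpow X n)) K
  | 0 => by simp [lpow, comp_idL, hK]
  | n + 1 => by
    show comp (lpow _ n) _ = comp (comp K (comp (lpow X n) X)) K
    rw [lpow_conj hK n]
    simp only [comp_assoc]
    rw [← comp_assoc K K, hK, idL_comp]

theorem comp_conj {K X Y : Lin} (hK : comp K K = idL) :
    comp (comp (comp K X) K) (comp (comp K Y) K) = comp (comp K (comp X Y)) K := by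
  simp only [comp_assoc]
  rw [← comp_assoc K K, hK, idL_comp]

theorem pairOK_conj {K A B : Lin} (hK : comp K K = idL) (h : pairOK A B = true) :
    pairOK (comp (comp K A) K) (comp (comp K B) K) = true := by
  simp only [pairOK, Bool.and_eq_true, decide_eq_true_eq] at h ⊢
  simp only [comp_conj hK, lpow_conj hK, h.1, h.2.1, h.2.2, comp_idL, hK, and_self]

/-- Every pair of lifts satisfying the relations is conjugate to the model pair. -/
theorem exists_normalise {A B : Lin} (hA : evenL A matA = true) (hB : evenL B matB = true)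
    (hB3 : lpow B 3 = idL) (h : pairOK A B = true) :
    ∃ K K' : Lin, comp K K' = idL ∧ comp K' K = idL ∧ app K (0, 2, 0) = (0, 2, 0) ∧
      comp matA K = comp K A ∧ comp matB K = comp K B := by
  have h1 := List.all_eq_true.1 liftB_ok B (mem_lifts hB)
  simp only [hB3, decide_true, Bool.not_true, Bool.false_or, List.any_eq_true, decide_eq_true_eq] at h1
  obtain ⟨K, hK, hKB⟩ := h1
  obtain ⟨hK2, hKe⟩ := of_decide_eq_true (List.all_eq_true.1 kerB_ok K hK)
  have hp := pairOK_conj hK2 h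
  have hB' : comp (comp K B) K = matB := by rw [← hKB, comp_assoc, hK2, comp_idL]
  rw [hB'] at hp
  have h2 := List.all_eq_true.1 liftA_conj A (mem_lifts hA)
  have hA2 : lpow A 2 = idL := by
    simp only [pairOK, Bool.and_eq_true, decide_eq_true_eq] at h
    exact h.1
  simp only [hA2, decide_true, Bool.not_true, Bool.false_or, List.all_eq_true, List.contains_iff_mem] at h2
  have h3 := List.all_eq_true.1 liftA_ok _ (h2 K hK)
  simp only [hp, Bool.not_true, Bool.false_or, List.any_eq_true, decide_eq_true_eq] at h3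
  obtain ⟨J, hJ, hJA, hJB⟩ := h3
  obtain ⟨hJ2, hJe⟩ := of_decide_eq_true (List.all_eq_true.1 kerA_ok J hJ)
  have hfix : ∀ X : Lin, evenL X idL = true → app X (0, 2, 0) = (0, 2, 0) := by
    intro X hX
    have e : ∀ x : ZMod 4, even4 x 0 = true → 2 * x = 0 := by decide
    have e' : ∀ x : ZMod 4, even4 x 1 = true → 2 * x = 2 := by decide
    simp only [evenL, evenV, idL, Bool.and_eq_true] at hX
    simp [app, e _ hX.2.1.1, e' _ hX.2.1.2.1, e _ hX.2.1.2.2]
  refine ⟨comp J K, comp K J, ?_, ?_, ?_, ?_, ?_⟩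
  · rw [comp_assoc, ← comp_assoc K, hK2, idL_comp, hJ2]
  · rw [comp_assoc, ← comp_assoc J, hJ2, idL_comp, hK2]
  · rw [app_comp, hfix J hJe, hfix K hKe]
  · rw [← comp_assoc, hJA]
    simp only [comp_assoc]
    rw [hK2, comp_idL]
  · rw [← comp_assoc, hJB, comp_assoc, hKB, ← comp_assoc]

end Cfsg.Agent.HSType
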