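/-
Coordinates on the homocyclic subgroup and the action of the normalizer.
Main definitions: `Coord`, `Coord.toFrame`.
Main results: `Setting.exists_coord`, `Coord.exists_act`, `Coord.even_iff`, `Coord.mem_R_iff`.
-/
import Cfsg.Agent.Lib.HSType.Basics
import Cfsg.Agent.Lib.HSType.Model
import Cfsg.Agent.Lib.HSType.Normalise

set_option autoImplicit false
set_option maxRecDepth 100000

namespace Cfsg.Agent.HSType

variable {G : Type*} [Group G]

/-- Coordinates on `W` with `t` at `(0, 2, 0)`. -/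
structure Coord (S : Setting G) where
  φ : V3 → G
  add : ∀ u v, φ (u + v) = φ u * φ v
  inj : Function.Injective φ
  mem : ∀ x, x ∈ S.W ↔ ∃ v, φ v = x
  ht : φ (0, 2, 0) = S.t

theorem zero_of_add {f : V3 → G} (hf : ∀ u v, f (u + v) = f u * f v) : f 0 = 1 := by
  have := hf 0 0
  rw [add_zero] at this
  exact mul_eq_left.1 this.symm

theorem nsmul_of_add {f : V3 → G} (hf : ∀ u v, f (u + v) = f u * f v) (u : V3) : ∀ n : ℕ, f (n • u) = f u ^ n
  | 0 => by rw [zero_nsmul, pow_zero, zero_of_add hf]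
  | n + 1 => by rw [succ_nsmul, hf, nsmul_of_add hf u n, pow_succ]

theorem phiOf_eq {f : V3 → G} (hf : ∀ u v, f (u + v) = f u * f v) (v : V3) :
    phiOf (f (1, 0, 0)) (f (0, 1, 0)) (f (0, 0, 1)) v = f v := by
  rw [phiOf, ← nsmul_of_add hf, ← nsmul_of_add hf, ← nsmul_of_add hf, ← hf, ← hf]
  congr 1
  obtain ⟨x, y, z⟩ := v
  simp [Prod.ext_iff, Prod.smul_mk]

theorem ext_of_add {f g : V3 → G} (hf : ∀ u v, f (u + v) = f u * f v) (hg : ∀ u v, g (u + v) = g u * g v)
    (h0 : f (1, 0, 0) = g (1, 0, 0)) (h1 : f (0, 1, 0) = g (0, 1, 0)) (h2 : f (0, 0, 1) = g (0, 0, 1)) (v : V3) :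
    f v = g v := by
  rw [← phiOf_eq hf v, h0, h1, h2, phiOf_eq hg v]

/-- A basis change sending `(0, 1, 0)` to a vector with an odd coordinate. -/
def pick (u : V3) : Lin :=
  bif u.2.1.val % 2 == 1 then ((1, 0, 0), u, (0, 0, 1))
  else bif u.1.val % 2 == 1 then ((0, 1, 0), u, (0, 0, 1))
  else ((1, 0, 0), u, (0, 1, 0))

theorem pick_ok : ∀ u : V3, 2 • u ≠ 0 → app (pick u) (0, 1, 0) = u ∧ ∀ v : V3, app (pick u) v = 0 → v = 0 := by
  decide +kernel

theorem half_of_two_eq_zero : ∀ x : V3, 2 • x = 0 → ∃ u : V3, 2 • u = x := by decide +kernel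

theorem two_mid : ((0, 2, 0) : V3) = 2 • (0, 1, 0) := by decide

theorem app_two (L : Lin) (u : V3) : app L (2 • u) = 2 • app L u := by rw [two_nsmul, two_nsmul, app_add]

theorem app_injective {L : Lin} (h : ∀ v, app L v = 0 → v = 0) : Function.Injective (app L) := by
  intro u v e
  have h2 := app_add L (u - v) v
  rw [sub_add_cancel, e] at h2
  exact sub_eq_zero.1 (h _ (by simpa using h2.symm))

theorem Setting.exists_coord [Finite G] (S : Setting G) : Nonempty (Coord S) := by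
  let f : V3 → G := fun v => ((S.eOM.symm (Multiplicative.ofAdd v) : S.M) : G)
  have hf : ∀ u v, f (u + v) = f u * f v := fun u v => by simp [f, ofAdd_add]
  have hinj : Function.Injective f := fun u v e => by
    simpa using S.eOM.symm.injective (Subtype.ext (Subtype.ext e))
  have hmem : ∀ x, x ∈ S.W ↔ ∃ v, f v = x := fun x => by
    constructor
    · rintro ⟨a, ha, rfl⟩
      exact ⟨(S.eOM ⟨a, ha⟩).toAdd, by simp [f]⟩
    · rintro ⟨v, rfl⟩
      exact ⟨_, SetLike.coe_mem _, rfl⟩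
  obtain ⟨x, hx⟩ := (hmem S.t).1 (S.V_le_W S.t_mem_V)
  have hx2 : 2 • x = 0 := hinj (by rw [nsmul_of_add hf, hx, zero_of_add hf, pow_two, S.t_sq])
  have hx0 : x ≠ 0 := fun h => S.t_ne (by rw [← hx, h, zero_of_add hf])
  obtain ⟨u, rfl⟩ := half_of_two_eq_zero x hx2
  obtain ⟨h1, h2⟩ := pick_ok u hx0
  have hi := app_injective h2
  refine ⟨⟨fun v => f (app (pick u) v), fun a b => by rw [app_add, hf], hinj.comp hi, fun y => ?_, ?_⟩⟩
  · rw [hmem]
    constructor
    · rintro ⟨v, rfl⟩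
      obtain ⟨v', rfl⟩ := Finite.surjective_of_injective hi v
      exact ⟨v', rfl⟩
    · rintro ⟨v, rfl⟩; exact ⟨_, rfl⟩
  · rw [two_mid, app_two, h1, hx]

namespace Coord

variable {S : Setting G} (C : Coord S)

theorem zero : C.φ 0 = 1 := zero_of_add C.add

theorem neg (v : V3) : C.φ (-v) = (C.φ v)⁻¹ :=
  eq_inv_of_mul_eq_one_left (by rw [← C.add, neg_add_cancel, C.zero])

theorem mem_W (v : V3) : C.φ v ∈ S.W := (C.mem _).2 ⟨v, rfl⟩

theorem sq (v : V3) : C.φ v * C.φ v = C.φ (2 • v) := by rw [two_nsmul, C.add]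

/-- The action of `x` on the coordinates. -/
def Acts (x : G) (L : Lin) : Prop := ∀ v : V3, x⁻¹ * C.φ v * x = C.φ (app L v)

theorem acts_mul {x y : G} {L K : Lin} (hx : C.Acts x L) (hy : C.Acts y K) : C.Acts (x * y) (comp L K) := by
  intro v
  rw [app_comp, ← hy, ← hx]
  group

theorem acts_one : C.Acts 1 idL := fun v => by simp [app_idL]

theorem acts_pow {x : G} {L : Lin} (hx : C.Acts x L) : ∀ n : ℕ, C.Acts (x ^ n) (lpow L n)
  | 0 => by rw [pow_zero]; exact C.acts_one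
  | n + 1 => by rw [pow_succ]; exact C.acts_mul (acts_pow hx n) hx

theorem acts_phi (u : V3) : C.Acts (C.φ u) idL := fun v => by
  rw [app_idL, ← C.neg, ← C.add, ← C.add]
  congr 1
  abel

theorem acts_unique {x : G} {L K : Lin} (h : C.Acts x L) (h' : C.Acts x K) : L = K := by
  have e : ∀ v, app L v = app K v := fun v => C.inj ((h v).symm.trans (h' v))
  have h0 := e (1, 0, 0); have h1 := e (0, 1, 0); have h2 := e (0, 0, 1)
  simp [app] at h0 h1 h2
  simp [Prod.ext_iff, h0, h1, h2]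

theorem W_conj {m x : G} (hm : m ∈ S.M) (hx : x ∈ S.W) : m⁻¹ * x * m ∈ S.W := by
  obtain ⟨a, ha, rfl⟩ := hx
  refine ⟨⟨m, hm⟩⁻¹ * a * ⟨m, hm⟩, ?_, rfl⟩
  simpa using (Cores.pCore_normal 2 S.M).conj_mem a ha (⟨m, hm⟩⁻¹)

theorem exists_act {m : G} (hm : m ∈ S.M) : ∃ L, C.Acts m L := by
  obtain ⟨a, ha⟩ := (C.mem _).1 (W_conj (S := S) hm (C.mem_W (1, 0, 0)))
  obtain ⟨b, hb⟩ := (C.mem _).1 (W_conj (S := S) hm (C.mem_W (0, 1, 0)))
  obtain ⟨c, hc⟩ := (C.mem _).1 (W_conj (S := S) hm (C.mem_W (0, 0, 1)))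
  refine ⟨(a, b, c), ext_of_add (fun u v => ?_) (fun u v => by rw [app_add, C.add]) ?_ ?_ ?_⟩
  · rw [C.add]; group
  · rw [← ha]; simp [app]
  · rw [← hb]; simp [app]
  · rw [← hc]; simp [app]

theorem acts_fix {x : G} {L : Lin} (hx : x * S.t = S.t * x) (h : C.Acts x L) : app L (0, 2, 0) = (0, 2, 0) := by
  apply C.inj
  rw [← h, C.ht, mul_assoc, ← hx, inv_mul_cancel_left]

/-- The frame of three generators. -/
def frameOf (a b : G) (ha : a * a = 1) (hb : b ^ 3 = 1) (hA : C.Acts a matA) (hB : C.Acts b matB) : Frame G where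
  w0 := C.φ (1, 0, 0)
  w1 := C.φ (0, 1, 0)
  w2 := C.φ (0, 0, 1)
  a := a
  b := b
  p0 := by rw [← nsmul_of_add C.add]; exact (congrArg C.φ (by decide)).trans C.zero
  p1 := by rw [← nsmul_of_add C.add]; exact (congrArg C.φ (by decide)).trans C.zero
  p2 := by rw [← nsmul_of_add C.add]; exact (congrArg C.φ (by decide)).trans C.zero
  c01 := by unfold Commute SemiconjBy; rw [← C.add, ← C.add, add_comm]
  c02 := by unfold Commute SemiconjBy; rw [← C.add, ← C.add, add_comm]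
  c12 := by unfold Commute SemiconjBy; rw [← C.add, ← C.add, add_comm]
  ha := ha
  hb := hb
  a0 := by rw [hA, phiOf_eq C.add]; rfl
  a1 := by rw [hA, phiOf_eq C.add]; rfl
  a2 := by rw [hA, phiOf_eq C.add]; rfl
  b0 := by rw [hB, phiOf_eq C.add]; rfl
  b1 := by rw [hB, phiOf_eq C.add]; rfl
  b2 := by rw [hB, phiOf_eq C.add]; rfl

theorem frameOf_phi (a b : G) (ha : a * a = 1) (hb : b ^ 3 = 1) (hA : C.Acts a matA) (hB : C.Acts b matB) (v : V3) :
    (C.frameOf a b ha hb hA hB).phi v = C.φ v := phiOf_eq C.add v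

/-- A change of basis. -/
def change (K K' : Lin) (h : comp K K' = idL) (h' : comp K' K = idL) (hK : app K (0, 2, 0) = (0, 2, 0)) :
    Coord S where
  φ v := C.φ (app K v)
  add u v := by rw [app_add, C.add]
  inj u v e := by
    have h2 := congrArg (app K') (C.inj e)
    rwa [← app_comp, ← app_comp, h, app_idL, app_idL] at h2
  mem x := by
    rw [C.mem]
    constructor
    · rintro ⟨v, rfl⟩; exact ⟨app K' v, by rw [← app_comp, h', app_idL]⟩
    · rintro ⟨v, rfl⟩; exact ⟨_, rfl⟩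
  ht := by rw [hK, C.ht]

theorem acts_change {K K' : Lin} {h : comp K K' = idL} {h' : comp K' K = idL} {hK : app K (0, 2, 0) = (0, 2, 0)}
    {x : G} {L M : Lin} (hx : C.Acts x L) (e : comp M K = comp K L) : (C.change K K' h h' hK).Acts x M := by
  intro v
  show x⁻¹ * C.φ (app K v) * x = C.φ (app K (app M v))
  rw [hx, ← app_comp, ← app_comp, e]

variable [Finite G]

theorem even_iff_two : ∀ r s : V3, evenV r s = decide (2 • r = 2 • s) := by decide +kernel

theorem evenL_iff {L K : Lin} : evenL L K = true ↔ ∀ v : V3, app L (2 • v) = app K (2 • v) := by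
  simp only [evenL, even_iff_two, Bool.and_eq_true, decide_eq_true_eq]
  constructor
  · rintro ⟨h0, h1, h2⟩ v
    simp only [two_nsmul, Prod.ext_iff, Prod.fst_add, Prod.snd_add] at h0 h1 h2
    simp only [app, two_nsmul, Prod.ext_iff, Prod.fst_add, Prod.snd_add]
    obtain ⟨a0, b0, c0⟩ := h0
    obtain ⟨a1, b1, c1⟩ := h1
    obtain ⟨a2, b2, c2⟩ := h2
    refine ⟨?_, ?_, ?_⟩
    · linear_combination v.1 * a0 + v.2.1 * a1 + v.2.2 * a2
    · linear_combination v.1 * b0 + v.2.1 * b1 + v.2.2 * b2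
    · linear_combination v.1 * c0 + v.2.1 * c1 + v.2.2 * c2
  · intro h
    have h0 := h (1, 0, 0); have h1 := h (0, 1, 0); have h2 := h (0, 0, 1)
    rw [app_two, app_two] at h0 h1 h2
    rw [show ∀ X : Lin, app X (1, 0, 0) = X.1 from fun X => by simp [app],
      show ∀ X : Lin, app X (1, 0, 0) = X.1 from fun X => by simp [app]] at h0
    rw [show ∀ X : Lin, app X (0, 1, 0) = X.2.1 from fun X => by simp [app],
      show ∀ X : Lin, app X (0, 1, 0) = X.2.1 from fun X => by simp [app]] at h1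
    rw [show ∀ X : Lin, app X (0, 0, 1) = X.2.2 from fun X => by simp [app],
      show ∀ X : Lin, app X (0, 0, 1) = X.2.2 from fun X => by simp [app]] at h2
    exact ⟨h0, h1, h2⟩

theorem V_eq {v : G} (hv : v ∈ S.V) : ∃ u : V3, v = C.φ (2 • u) := by
  obtain ⟨x, rfl⟩ := (C.mem v).1 (S.V_le_W hv)
  obtain ⟨u, rfl⟩ := half_of_two_eq_zero x (C.inj (by
    rw [nsmul_of_add C.add, C.zero]; exact S.hVexp _ hv))
  exact ⟨u, rfl⟩

/-- An element acting trivially modulo two lies in `W`. -/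
theorem mem_W_of_even {m : G} {L : Lin} (h : C.Acts m L) (he : evenL L idL = true) : m ∈ S.W := by
  rw [← S.centralizer_V, Subgroup.mem_centralizer_iff]
  intro v hv
  obtain ⟨u, rfl⟩ := C.V_eq hv
  have h1 : m⁻¹ * C.φ (2 • u) * m = C.φ (2 • u) := by
    rw [h, evenL_iff.1 he, app_idL]
  calc C.φ (2 • u) * m = m * (m⁻¹ * C.φ (2 • u) * m) := by group
    _ = m * C.φ (2 • u) := by rw [h1]

omit [Finite G] in
theorem acts_of_mem_W {m : G} (h : m ∈ S.W) : C.Acts m idL := by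
  obtain ⟨v, rfl⟩ := (C.mem m).1 h
  exact C.acts_phi v

omit [Finite G] in
theorem evenL_refl (L : Lin) : evenL L L = true := by
  simp [evenL, evenV, even4, ← two_mul]

/-- Membership in `R` of elements of `W`. -/
theorem mem_R_iff (v : V3) : C.φ v ∈ S.R ↔ 2 * v.1 = 0 ∧ 2 * v.2.2 = 0 := by
  classical
  have h1 : ∀ v : V3, C.φ v ∈ S.R → 2 * v.1 = 0 ∧ 2 * v.2.2 = 0 := by
    intro v hv
    have key : ∀ v : V3, (2 • v = 0 ∨ 2 • v = (0, 2, 0)) → 2 * v.1 = 0 ∧ 2 * v.2.2 = 0 := by decide +kernel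
    refine key v ((S.sq_mem hv).imp (fun h => ?_) fun h => ?_)
    · exact C.inj (by rw [← C.sq, h, C.zero])
    · exact C.inj (by rw [← C.sq, h, C.ht])
  have h2 : Nat.card {v : V3 // C.φ v ∈ S.R} = 16 := by
    rw [← S.card_RW]
    refine Nat.card_congr (Equiv.ofBijective (fun v => ⟨C.φ v.1, v.2, C.mem_W _⟩) ⟨fun u v e =>
      Subtype.ext (C.inj (congrArg Subtype.val e)), fun x => ?_⟩)
    obtain ⟨v, hv⟩ := (C.mem x.1).1 x.2.2
    exact ⟨⟨v, hv ▸ x.2.1⟩, Subtype.ext hv⟩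
  have h3 : Nat.card {v : V3 // 2 * v.1 = 0 ∧ 2 * v.2.2 = 0} = 16 := by
    rw [Nat.card_eq_fintype_card]; decide +kernel
  refine ⟨h1 v, fun hv => ?_⟩
  have hb : Function.Bijective (Subtype.impEmbedding _ _ h1) :=
    (Nat.bijective_iff_injective_and_card _).2 ⟨(Subtype.impEmbedding _ _ h1).injective, h2.trans h3.symm⟩
  obtain ⟨u, hu⟩ := hb.2 ⟨v, hv⟩
  have h4 : u.1 = v := congrArg Subtype.val hu
  exact h4 ▸ u.2

end Coord

end Cfsg.Agent.HSType
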