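/-
The nonsplit extension is excluded by the squares in `R`.
Main result: `Coord.even_of_mem_R`.
-/
import Cfsg.Agent.Lib.HSType.Coord
import Cfsg.Agent.Lib.HSType.Pres
import Cfsg.Agent.Lib.HSType.TableOdd

set_option autoImplicit false
set_option maxRecDepth 100000
set_option Elab.async false

namespace Cfsg.Agent.HSType

open Cfsg.Agent.CosetEnum Cfsg.Agent.CosetEnum.Data

/-- The relations of the nonsplit extension of the elementary group. -/
def oddRels : List (List ℕ) :=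
  [[0, 0, 0, 0], [2, 2, 2, 2], [4, 4, 4, 4], [0, 2, 1, 3], [0, 4, 1, 5], [2, 4, 3, 5], [6, 6], [8, 8, 8],
    [6, 8, 6, 8, 6, 8, 6, 8, 6, 8, 6, 8, 6, 8], [7, 9, 6, 8, 7, 9, 6, 8, 7, 9, 6, 8, 7, 9, 6, 8, 3],
    [7, 0, 6, 3, 3, 0], [9, 0, 8, 5, 5, 3, 1, 1], [7, 2, 6, 2], [9, 2, 8, 5], [7, 4, 6, 5, 3, 1, 1],
    [9, 4, 8, 5, 5, 3, 3, 1], [0, 0], [2, 2], [4, 4]]

theorem odd_table : Setup.tableOK (presSetup 5 oddRels) oddData [] [] = true := by decide +kernel

/-- The word whose square is not in the centre. -/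
def oddWord : List ℕ := [9, 9, 7, 9, 7, 9, 9, 7, 9, 6, 8, 6, 8, 8, 6, 8, 6, 8, 8, 6, 1]

theorem oddWord_tw : oddData.tw oddWord.reverse 0 = 0 := by decide +kernel

/-- The word of the conjugating element. -/
def oddConj : List ℕ := [8, 6, 8, 8, 6, 8, 6, 8, 8]

theorem oddConj_fix : app (evM oddConj).1 (0, 2, 0) = (0, 2, 0) := by decide +kernel

variable {G : Type*} [Group G] {S : Setting G} (C : Coord S)

namespace Coord

theorem two_mem_V [Finite G] (u : V3) : C.φ (2 • u) ∈ S.V := by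
  classical
  have h3 : Nat.card {v : V3 // 2 • v = 0} = 8 := by
    rw [Nat.card_eq_fintype_card]; decide +kernel
  have h : ∀ x : S.V, ∃ v : {v : V3 // 2 • v = 0}, C.φ v.1 = x := fun x => by
    obtain ⟨w, hw⟩ := C.V_eq x.2
    exact ⟨⟨2 • w, (show ∀ w : V3, 2 • 2 • w = 0 by decide +kernel) w⟩, hw.symm⟩
  choose f hf using h
  have hb : Function.Bijective f := (Nat.bijective_iff_injective_and_card _).2
    ⟨fun x y e => Subtype.ext (by rw [← hf x, ← hf y, e]), by rw [h3, S.hVcard]⟩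
  obtain ⟨x, hx⟩ := hb.2 ⟨2 • u, (show ∀ u : V3, 2 • 2 • u = 0 by decide +kernel) u⟩
  have := hf x
  rw [hx] at this
  exact this ▸ x.2

/-- With `a` in `R`, the fourth power of the commutator has even coordinate. -/
theorem even_of_mem_R [Finite G] (F : Frame G) (hφ : ∀ v, F.phi v = C.φ v) (haR : F.a ∈ S.R) (hbM : F.b ∈ S.M)
    (h7 : (F.a * F.b) ^ 7 = 1) {j : ZMod 4} (h4 : (F.a⁻¹ * F.b⁻¹ * F.a * F.b) ^ 4 = C.φ (0, j, 0)) :
    2 * j = 0 := by
  by_contra hj
  have hj' : ∀ j : ZMod 4, 2 * j ≠ 0 → ∃ u : V3, ((0, j, 0) : V3) + (0, 3, 0) = 2 • u := by decide +kernel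
  have haM : F.a ∈ S.M := S.R_le_M haR
  haveI hN : (S.V.subgroupOf S.M).Normal := by
    refine ⟨fun n hn g => ?_⟩
    have hg : (g : G) ∈ Subgroup.normalizer (S.V : Set G) := S.hM ▸ g.2
    exact (Subgroup.mem_normalizer_iff.1 hg _).1 hn
  have hφM : ∀ v, C.φ v ∈ S.M := fun v => S.W_le_M (C.mem_W v)
  have hwM : F.w0 ∈ S.M ∧ F.w1 ∈ S.M ∧ F.w2 ∈ S.M := by
    refine ⟨?_, ?_, ?_⟩
    · rw [← F.phi_e0, hφ]; exact hφM _
    · rw [← F.phi_e1, hφ]; exact hφM _
    · rw [← F.phi_e2, hφ]; exact hφM _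
  have hlet : ∀ z, F.letG z ∈ S.M := by
    intro z
    rcases z with _ | _ | _ | _ | _ | _ | _ | _ | _ | _ | _
    · exact hwM.1
    · exact inv_mem hwM.1
    · exact hwM.2.1
    · exact inv_mem hwM.2.1
    · exact hwM.2.2
    · exact inv_mem hwM.2.2
    · exact haM
    · exact inv_mem haM
    · exact hbM
    · exact inv_mem hbM
    · exact one_mem _
  have hev : ∀ l, F.evG l ∈ S.M := by
    intro l
    induction l with
    | nil => exact one_mem _
    | cons z l ih => exact mul_mem (hlet z) ih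
  let f : ℕ → S.M ⧸ S.V.subgroupOf S.M := fun z => QuotientGroup.mk ⟨F.letG z, hlet z⟩
  have hinv : ∀ i < 5, f (2 * i + 1) = (f (2 * i))⁻¹ := by
    intro i hi
    interval_cases i <;> rfl
  have hev' : ∀ l, evp f l = QuotientGroup.mk ⟨F.evG l, hev l⟩ := by
    intro l
    induction l with
    | nil => rfl
    | cons z l ih => simp only [evp, ih]; rfl
  have htr : ∀ l, abPart l = [] → F.evG l = C.φ (evM l).2 := by
    intro l hl
    rw [F.evG_split, hl, hφ]
    exact one_mul _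
  have hact : ∀ (x : G) (L : Lin) (g : G) (e : V3) (tail : List ℕ) (u : V3), C.φ e = g →
      F.Acts x L → abPart tail = [] → app L e + (evM tail).2 = 2 • u →
      x⁻¹ * g * x * F.evG tail ∈ S.V := by
    intro x L g e tail u hg hx hab hu
    rw [htr tail hab, ← hg, ← hφ e, hx, hφ, ← C.add, hu]
    exact C.two_mem_V u
  have hrel : ∀ r ∈ oddRels, F.evG r ∈ S.V := by
    have e0 : C.φ (1, 0, 0) = F.w0 := by rw [← hφ, F.phi_e0]
    have e1 : C.φ (0, 1, 0) = F.w1 := by rw [← hφ, F.phi_e1]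
    have e2 : C.φ (0, 0, 1) = F.w2 := by rw [← hφ, F.phi_e2]
    intro r hr
    simp only [oddRels, List.mem_cons, List.not_mem_nil, or_false] at hr
    rcases hr with rfl | rfl | rfl | rfl | rfl | rfl | rfl | rfl | rfl | rfl | rfl | rfl | rfl | rfl | rfl |
      rfl | rfl | rfl | rfl
    · rw [htr _ rfl, show (evM [0, 0, 0, 0]).2 = 2 • 0 by decide]; exact C.two_mem_V _
    · rw [htr _ rfl, show (evM [2, 2, 2, 2]).2 = 2 • 0 by decide]; exact C.two_mem_V _
    · rw [htr _ rfl, show (evM [4, 4, 4, 4]).2 = 2 • 0 by decide]; exact C.two_mem_V _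
    · rw [htr _ rfl, show (evM [0, 2, 1, 3]).2 = 2 • 0 by decide]; exact C.two_mem_V _
    · rw [htr _ rfl, show (evM [0, 4, 1, 5]).2 = 2 • 0 by decide]; exact C.two_mem_V _
    · rw [htr _ rfl, show (evM [2, 4, 3, 5]).2 = 2 • 0 by decide]; exact C.two_mem_V _
    · simp only [Frame.evG, Frame.letG, mul_one, F.ha]; exact one_mem _
    · simp only [Frame.evG, Frame.letG, mul_one]; rw [← mul_assoc, ← pow_three', F.hb]; exact one_mem _
    · convert one_mem S.V
      rw [← h7]; simp only [Frame.evG, Frame.letG, pow_succ, pow_zero, one_mul, mul_one, mul_assoc]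
    · obtain ⟨u, hu⟩ := hj' j hj
      have h : F.evG [7, 9, 6, 8, 7, 9, 6, 8, 7, 9, 6, 8, 7, 9, 6, 8, 3] =
          C.φ (0, j, 0) * C.φ (0, 3, 0) := by
        rw [← h4, show ((0, 3, 0) : V3) = (evM [3]).2 by decide, ← htr [3] rfl]
        simp only [Frame.evG, Frame.letG, pow_succ, pow_zero, one_mul, mul_one, mul_assoc]
      rw [h, ← C.add, hu]
      exact C.two_mem_V u
    · have h := hact F.a matA F.w0 (1, 0, 0) [3, 3, 0] 0 e0 F.acts_a rfl (by decide)
      simpa [Frame.evG, Frame.letG, mul_assoc] using h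
    · have h := hact F.b matB F.w0 (1, 0, 0) [5, 5, 3, 1, 1] 0 e0 F.acts_b rfl (by decide)
      simpa [Frame.evG, Frame.letG, mul_assoc] using h
    · have h := hact F.a matA F.w1 (0, 1, 0) [2] 0 e1 F.acts_a rfl (by decide)
      simpa [Frame.evG, Frame.letG, mul_assoc] using h
    · have h := hact F.b matB F.w1 (0, 1, 0) [5] 0 e1 F.acts_b rfl (by decide)
      simpa [Frame.evG, Frame.letG, mul_assoc] using h
    · have h := hact F.a matA F.w2 (0, 0, 1) [5, 3, 1, 1] 0 e2 F.acts_a rfl (by decide)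
      simpa [Frame.evG, Frame.letG, mul_assoc] using h
    · have h := hact F.b matB F.w2 (0, 0, 1) [5, 5, 3, 3, 1] 0 e2 F.acts_b rfl (by decide)
      simpa [Frame.evG, Frame.letG, mul_assoc] using h
    · rw [htr _ rfl, show (evM [0, 0]).2 = 2 • (1, 0, 0) by decide]; exact C.two_mem_V _
    · rw [htr _ rfl, show (evM [2, 2]).2 = 2 • (0, 1, 0) by decide]; exact C.two_mem_V _
    · rw [htr _ rfl, show (evM [4, 4]).2 = 2 • (0, 0, 1) by decide]; exact C.two_mem_V _
  obtain ⟨ψ, hψ⟩ := exists_presHom (m := 5) (rels := oddRels) f hinv (by decide) (fun r hr => by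
    rw [hev']
    exact (QuotientGroup.eq_one_iff _).2 (hrel r hr))
  have h1 := congrArg ψ (evp_eq_one_of_tw oddData_check odd_table oddWord
    (fun z hz => by revert z; decide) oddWord_tw)
  rw [map_one, presHom_evp hinv hψ _ (fun z hz => by revert z; decide), hev'] at h1
  have h2 : F.evG oddWord ∈ S.V := (QuotientGroup.eq_one_iff (N := S.V.subgroupOf S.M) ⟨_, hev oddWord⟩).1 h1
  obtain ⟨u, hu⟩ := C.V_eq h2
  set s := F.evG oddConj with hs
  have hsH : s ∈ S.H := by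
    rw [S.mem_H]
    have h := F.acts_evG oddConj (0, 2, 0)
    rw [oddConj_fix, hφ, C.ht, ← hs] at h
    calc s * S.t = s * (s⁻¹ * S.t * s) := by rw [h]
      _ = S.t * s := by group
  have hx : F.evG oddWord = s⁻¹ * F.a * s * F.a * (C.φ (1, 0, 0))⁻¹ := by
    rw [hs, ← hφ, F.phi_e0]
    simp only [oddWord, oddConj, Frame.evG, Frame.letG, mul_inv_rev, mul_one, mul_assoc, inv_one]
  have hxR : s⁻¹ * F.a * s * F.a ∈ S.R := mul_mem (S.conj_mem_R' hsH haR) haR
  have hx2 : s⁻¹ * F.a * s * F.a = C.φ (2 • u + (1, 0, 0)) := by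
    rw [C.add, ← hu, hx, inv_mul_cancel_right]
  rw [hx2] at hxR
  have h9 := ((C.mem_R_iff _).1 hxR).1
  exact (show ∀ u : V3, (2 : ZMod 4) * (2 • u + (1, 0, 0) : V3).1 ≠ 0 by decide +kernel) u h9

end Coord

end Cfsg.Agent.HSType
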