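/-
A split frame adapted to `R`.
Main definition: `Good`.
Main result: `Setting.exists_good`.
-/
import Cfsg.Agent.Lib.HSType.NonSplit
import Cfsg.Agent.Lib.HSType.Complement

set_option autoImplicit false
set_option maxRecDepth 100000
set_option Elab.async false

namespace Cfsg.Agent.HSType

variable {G : Type*} [Group G] [Finite G]

/-- A split frame inside `M` in which `a`, or `φ (1, 0, 2) a`, lies in `R`. -/
structure Good (S : Setting G) where
  C : Coord S
  F : SplitFrame G
  phi_eq : ∀ v, F.phi v = C.φ v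
  a_mem : F.a ∈ S.M
  b_mem : F.b ∈ S.M
  cases_R : F.a ∈ S.R ∨ C.φ (1, 0, 2) * F.a ∈ S.R

theorem evenL_congr {L L' K K' : Lin} (hL : evenL L L' = true) (hK : evenL K K' = true) :
    evenL (comp L K) (comp L' K') = true := by
  rw [Coord.evenL_iff] at *
  intro v
  rw [app_comp, app_comp, hL, app_two, hK]

theorem evenL_lpow {L L' : Lin} (h : evenL L L' = true) : ∀ n, evenL (lpow L n) (lpow L' n) = true
  | 0 => Coord.evenL_refl _
  | n + 1 => evenL_congr (evenL_lpow h n) h

theorem evenL_trans {L K J : Lin} (h : evenL L K = true) (h' : evenL K J = true) : evenL L J = true := by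
  rw [Coord.evenL_iff] at *
  intro v
  rw [h, h']

/-- The determinant. -/
def det4 (L : Lin) : ZMod 4 :=
  L.1.1 * (L.2.1.2.1 * L.2.2.2.2 - L.2.1.2.2 * L.2.2.2.1) -
    L.1.2.1 * (L.2.1.1 * L.2.2.2.2 - L.2.1.2.2 * L.2.2.1) +
    L.1.2.2 * (L.2.1.1 * L.2.2.2.1 - L.2.1.2.1 * L.2.2.1)

theorem det4_comp (L K : Lin) : det4 (comp L K) = det4 L * det4 K := by
  simp only [det4, comp, app]; ring

theorem det4_idL : det4 idL = 1 := by decide

/-- Triples of binary vectors. -/
abbrev P2 := (ZMod 2 × ZMod 2 × ZMod 2) × (ZMod 2 × ZMod 2 × ZMod 2) × (ZMod 2 × ZMod 2 × ZMod 2)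

/-- Reduction modulo two. -/
def parR (x : ZMod 4) : ZMod 2 := x.val

/-- Reduction of a linear map modulo two. -/
def par (L : Lin) : P2 :=
  ((parR L.1.1, parR L.1.2.1, parR L.1.2.2), (parR L.2.1.1, parR L.2.1.2.1, parR L.2.1.2.2),
    (parR L.2.2.1, parR L.2.2.2.1, parR L.2.2.2.2))

/-- The determinant modulo two. -/
def det2 (L : P2) : ZMod 2 :=
  L.1.1 * (L.2.1.2.1 * L.2.2.2.2 - L.2.1.2.2 * L.2.2.2.1) -
    L.1.2.1 * (L.2.1.1 * L.2.2.2.2 - L.2.1.2.2 * L.2.2.1) +
    L.1.2.2 * (L.2.1.1 * L.2.2.2.1 - L.2.1.2.1 * L.2.2.1)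

theorem parR_mul : ∀ x y : ZMod 4, parR (x * y) = parR x * parR y := by decide +kernel

theorem parR_add : ∀ x y : ZMod 4, parR (x + y) = parR x + parR y := by decide +kernel

theorem parR_sub : ∀ x y : ZMod 4, parR (x - y) = parR x - parR y := by decide +kernel

theorem det2_par (L : Lin) : det2 (par L) = parR (det4 L) := by
  simp only [det4, det2, par, parR_add, parR_sub, parR_mul]

theorem card_det2 : Fintype.card {L : P2 // det2 L ≠ 0} = 168 := by decide +kernel

theorem even4_of_parR : ∀ x y : ZMod 4, parR x = parR y → even4 x y = true := by decide +kernel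

theorem evenL_of_par {L K : Lin} (h : par L = par K) : evenL L K = true := by
  simp only [par, Prod.ext_iff] at h
  simp only [evenL, evenV, Bool.and_eq_true]
  exact ⟨⟨even4_of_parR _ _ h.1.1, even4_of_parR _ _ h.1.2.1, even4_of_parR _ _ h.1.2.2⟩,
    ⟨even4_of_parR _ _ h.2.1.1, even4_of_parR _ _ h.2.1.2.1, even4_of_parR _ _ h.2.1.2.2⟩,
    even4_of_parR _ _ h.2.2.1, even4_of_parR _ _ h.2.2.2.1, even4_of_parR _ _ h.2.2.2.2⟩

theorem conj_pow_self {K : Type*} [Group K] (x : K) (n : ℕ) : x⁻¹ * x ^ n * x = x ^ n := by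
  rw [mul_assoc, ← pow_succ, pow_succ', inv_mul_cancel_left]

namespace Coord

variable {S : Setting G} (C : Coord S)

theorem mem_W_of_mul {x y : G} {L K : Lin} (hx : C.Acts x L) (hy : C.Acts y K) (hxM : x ∈ S.M)
    (h : evenL L K = true) : x⁻¹ * y ∈ S.W := by
  obtain ⟨J, hJ⟩ := C.exists_act (inv_mem hxM)
  have hJL : comp J L = idL := C.acts_unique (C.acts_mul hJ hx) (by rw [inv_mul_cancel]; exact C.acts_one)
  refine C.mem_W_of_even (C.acts_mul hJ hy) ?_
  rw [← hJL, evenL_iff] at *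
  intro v
  rw [app_comp, app_comp, app_two, h]

theorem exists_near_B : ∃ b ∈ S.M, b ^ 3 = 1 ∧ ∃ L, C.Acts b L ∧ evenL L matB = true := by
  classical
  haveI := Cores.pCore_normal 2 S.M
  have hc : ∀ q : S.M ⧸ Cfsg.pCore 2 S.M, ∃ L, C.Acts ((q.out : S.M) : G) L := fun q => C.exists_act q.out.2
  choose f hf using hc
  have hdet : ∀ q, det2 (par (f q)) ≠ 0 := by
    intro q h
    obtain ⟨J, hJ⟩ := C.exists_act (inv_mem (q.out : S.M).2)
    have e : comp (f q) J = idL := C.acts_unique (C.acts_mul (hf q) hJ) (by rw [mul_inv_cancel]; exact C.acts_one)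
    have h2 := congrArg (fun X => parR (det4 X)) e
    simp only [det4_comp, det4_idL, parR_mul, ← det2_par, h, zero_mul] at h2
    exact absurd h2 (by decide)
  let g : S.M ⧸ Cfsg.pCore 2 S.M → {L : P2 // det2 L ≠ 0} := fun q => ⟨par (f q), hdet q⟩
  have hg : Function.Bijective g := by
    refine (Nat.bijective_iff_injective_and_card _).2 ⟨fun q r e => ?_, ?_⟩
    · have hm := C.mem_W_of_mul (hf q) (hf r) (q.out : S.M).2 (evenL_of_par (congrArg Subtype.val e))
      obtain ⟨z, hz, hz'⟩ := hm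
      have hz2 : z = (q.out)⁻¹ * r.out := Subtype.ext hz'
      rw [← QuotientGroup.out_eq' q, ← QuotientGroup.out_eq' r, QuotientGroup.eq]
      exact hz2 ▸ hz
    · rw [Nat.card_congr S.eM.toEquiv, natCard_gl3, Nat.card_eq_fintype_card, card_det2]
  obtain ⟨q, hq⟩ := hg.2 ⟨par matB, by decide⟩
  have hev := evenL_of_par (congrArg Subtype.val hq)
  set m : G := ((q.out : S.M) : G) with hm
  have hmM : m ∈ S.M := (q.out : S.M).2
  refine ⟨m ^ 4, pow_mem hmM 4, ?_, _, C.acts_pow (hf q) 4,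
    evenL_trans (evenL_lpow hev 4) (by decide)⟩
  have hW : m ^ 3 ∈ S.W := C.mem_W_of_even (C.acts_pow (hf q) 3) (evenL_trans (evenL_lpow hev 3) (by decide))
  obtain ⟨v, hv⟩ := (C.mem _).1 hW
  rw [← pow_mul, mul_comm, pow_mul, ← hv, ← nsmul_of_add C.add,
    (show ∀ v : V3, 4 • v = 0 by decide +kernel) v, C.zero]

theorem R_moves {r : G} (hr : r ∈ S.R) {L : Lin} (h : C.Acts r L) (e : V3) :
    app L (2 • e) = 2 • e ∨ app L (2 • e) = (0, 2, 0) + 2 • e := by
  have hv : C.φ (2 • e) ∈ S.R := S.hVR (C.two_mem_V e)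
  rcases S.comm_mem (inv_mem hr) hv with k | k
  · left; apply C.inj; rw [← h, k, inv_mul_cancel_right]
  · right; apply C.inj
    rw [← h, k, C.add, C.ht, mul_assoc S.t, inv_mul_cancel_right]

theorem exists_near_A : ∃ a ∈ S.R, a * a = 1 ∧ ∃ L, C.Acts a L ∧ evenL L matA = true := by
  classical
  have hc : ∀ q : S.R ⧸ (S.R ⊓ S.W).subgroupOf S.R, ∃ L, C.Acts ((q.out : S.R) : G) L :=
    fun q => C.exists_act (S.R_le_M q.out.2)
  choose f hf using hc
  have hmid : ∀ q, app (f q) (2 • ((0, 1, 0) : V3)) = 2 • ((0, 1, 0) : V3) := fun q => by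
    rw [← two_mid]
    exact C.acts_fix (S.mem_H.1 (S.R_le_H (q.out : S.R).2)) (hf q)
  let g : S.R ⧸ (S.R ⊓ S.W).subgroupOf S.R → Bool × Bool := fun q =>
    (decide (app (f q) (2 • ((1, 0, 0) : V3)) = 2 • ((1, 0, 0) : V3)),
      decide (app (f q) (2 • ((0, 0, 1) : V3)) = 2 • ((0, 0, 1) : V3)))
  have hev : ∀ L K : Lin, app L (2 • (1, 0, 0)) = app K (2 • (1, 0, 0)) →
      app L (2 • (0, 1, 0)) = app K (2 • (0, 1, 0)) → app L (2 • (0, 0, 1)) = app K (2 • (0, 0, 1)) →
      evenL L K = true := by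
    intro L K h0 h1 h2
    simp only [app_two] at h0 h1 h2
    simp only [evenL, even_iff_two, Bool.and_eq_true, decide_eq_true_eq]
    exact ⟨by simpa [app] using h0, by simpa [app] using h1, by simpa [app] using h2⟩
  have hne : ∀ v : V3, (0, 2, 0) + v ≠ v := by decide +kernel
  have hg : Function.Bijective g := by
    refine (Nat.bijective_iff_injective_and_card _).2 ⟨fun q r e => ?_, ?_⟩
    · have e1 := congrArg Prod.fst e
      have e2 := congrArg Prod.snd e
      have key : ∀ x : V3, (decide (app (f q) (2 • x) = 2 • x) = decide (app (f r) (2 • x) = 2 • x)) →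
          app (f q) (2 • x) = app (f r) (2 • x) := by
        intro x hx
        rcases C.R_moves (q.out : S.R).2 (hf q) x with h | h <;>
          rcases C.R_moves (r.out : S.R).2 (hf r) x with k | k <;> rw [h, k] at hx ⊢
        · simp [hne] at hx
        · simp [hne] at hx
      have hm := C.mem_W_of_mul (hf q) (hf r) (S.R_le_M (q.out : S.R).2)
        (hev _ _ (key _ e1) (by rw [hmid, hmid]) (key _ e2))
      rw [← QuotientGroup.out_eq' q, ← QuotientGroup.out_eq' r, QuotientGroup.eq]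
      exact Subgroup.mem_subgroupOf.2 ⟨S.R.mul_mem (S.R.inv_mem (q.out : S.R).2) (r.out : S.R).2, hm⟩
    · have h := Subgroup.card_eq_card_quotient_mul_card_subgroup ((S.R ⊓ S.W).subgroupOf S.R)
      rw [Nat.card_congr (Subgroup.subgroupOfEquivOfLe (inf_le_left : S.R ⊓ S.W ≤ S.R)).toEquiv, S.card_RW,
        S.card_R] at h
      rw [Nat.card_eq_fintype_card (α := Bool × Bool), show Fintype.card (Bool × Bool) = 4 from rfl]
      omega
  obtain ⟨q, hq⟩ := hg.2 (true, false)
  have hq1 : app (f q) (2 • ((1, 0, 0) : V3)) = 2 • ((1, 0, 0) : V3) := of_decide_eq_true (congrArg Prod.fst hq)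
  have hq2 : ¬ app (f q) (2 • ((0, 0, 1) : V3)) = 2 • ((0, 0, 1) : V3) := of_decide_eq_false (congrArg Prod.snd hq)
  set r : G := ((q.out : S.R) : G) with hr
  have hrR : r ∈ S.R := (q.out : S.R).2
  have he : evenL (f q) matA = true := by
    refine hev _ _ (hq1.trans (by decide)) ((hmid q).trans (by decide)) ?_
    exact (((C.R_moves hrR (hf q) _).resolve_left hq2)).trans (by decide)
  rcases S.sq_mem hrR with h | h
  · exact ⟨r, hrR, h, _, hf q, he⟩
  · obtain ⟨c, hc, -, hct, -⟩ := S.exists_gen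
    refine ⟨r * c, mul_mem hrR (S.hCyle hc).1, ?_, comp (f q) idL,
      C.acts_mul (hf q) (C.acts_of_mem_W (S.Cy_le_W hc)), by rw [comp_idL]; exact he⟩
    calc r * c * (r * c) = r * (c * r) * c := by group
      _ = r * r * (c * c) := by rw [S.R_comm hc hrR]; group
      _ = 1 := by rw [h, hct, S.t_sq]

theorem pow_seven {a b : G} (ha : C.Acts a matA) (hb : C.Acts b matB) : (a * b) ^ 7 = 1 := by
  have h := C.acts_pow (C.acts_mul ha hb) 7
  have hW := C.mem_W_of_even h (by decide +kernel)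
  obtain ⟨v, hv⟩ := (C.mem _).1 hW
  have hfix : app (comp matA matB) v = v := by
    apply C.inj
    rw [← C.acts_mul ha hb v, hv, conj_pow_self]
  rw [← hv, (show ∀ v : V3, app (comp matA matB) v = v → v = 0 by decide +kernel) v hfix, C.zero]

theorem comm_four {a b : G} (ha : C.Acts a matA) (ha2 : a * a = 1) (hb : C.Acts b matB) (hb3 : b ^ 3 = 1) :
    ∃ j : ZMod 4, (a⁻¹ * b⁻¹ * a * b) ^ 4 = C.φ (0, j, 0) := by
  have hai : a⁻¹ = a := inv_eq_of_mul_eq_one_right ha2
  have hbi : b⁻¹ = b * b := inv_eq_of_mul_eq_one_right (by rw [← mul_assoc, ← pow_three', hb3])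
  have hu := C.acts_mul (C.acts_mul (C.acts_mul ha (C.acts_mul hb hb)) ha) hb
  rw [hai, hbi]
  obtain ⟨v, hv⟩ := (C.mem _).1 (C.mem_W_of_even (C.acts_pow hu 4) (by decide +kernel))
  have hfix : app (comp (comp (comp matA (comp matB matB)) matA) matB) v = v := by
    apply C.inj
    rw [← hu v, hv, conj_pow_self]
  obtain ⟨j, rfl⟩ := (show ∀ v : V3, app (comp (comp (comp matA (comp matB matB)) matA) matB) v = v →
    ∃ j, v = (0, j, 0) by decide +kernel) v hfix
  exact ⟨j, hv.symm⟩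

end Coord

theorem Setting.exists_good (S : Setting G) : Nonempty (Good S) := by
  obtain ⟨C0⟩ := S.exists_coord
  obtain ⟨a, haR, ha2, A, hA, hAe⟩ := C0.exists_near_A
  obtain ⟨b, hbM, hb3, B, hB, hBe⟩ := C0.exists_near_B
  have hai : a⁻¹ = a := inv_eq_of_mul_eq_one_right ha2
  have hbi : b⁻¹ = b * b := inv_eq_of_mul_eq_one_right (by rw [← mul_assoc, ← pow_three', hb3])
  have one_of : ∀ (x : G) (L : Lin), C0.Acts x L → x = 1 → L = idL := fun x L h e =>
    C0.acts_unique h (e ▸ C0.acts_one)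
  have id_of : ∀ (x : G) (L : Lin), C0.Acts x L → evenL L idL = true → L = idL := fun x L h e =>
    C0.acts_unique h (C0.acts_of_mem_W (C0.mem_W_of_even h e))
  have hB3 : lpow B 3 = idL := one_of _ _ (C0.acts_pow hB 3) hb3
  have hp : pairOK A B = true := by
    simp only [pairOK, Bool.and_eq_true, decide_eq_true_eq]
    refine ⟨one_of _ _ (C0.acts_pow hA 2) (by rw [pow_two, ha2]), id_of _ _ (C0.acts_pow (C0.acts_mul hA hB) 7) ?_,
      id_of _ _ (C0.acts_pow (C0.acts_mul (C0.acts_mul hA (C0.acts_mul hB hB)) (C0.acts_mul hA hB)) 4) ?_⟩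
    · exact evenL_trans (evenL_lpow (evenL_congr hAe hBe) 7) (by decide +kernel)
    · exact evenL_trans (evenL_lpow (evenL_congr (evenL_congr hAe (evenL_congr hBe hBe))
        (evenL_congr hAe hBe)) 4) (by decide +kernel)
  obtain ⟨K, K', h1, h2, hK, eA, eB⟩ := exists_normalise hAe hBe hB3 hp
  let C := C0.change K K' h1 h2 hK
  have hA' : C.Acts a matA := C0.acts_change hA eA
  have hB' : C.Acts b matB := C0.acts_change hB eB
  have h7 := C.pow_seven hA' hB'
  obtain ⟨j, hj⟩ := C.comm_four hA' ha2 hB' hb3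
  have heven := C.even_of_mem_R (C.frameOf a b ha2 hb3 hA' hB') (C.frameOf_phi a b ha2 hb3 hA' hB') haR hbM h7 hj
  rcases (show ∀ j : ZMod 4, 2 * j = 0 → j = 0 ∨ j = 2 by decide) j heven with rfl | rfl
  · refine ⟨⟨C, ⟨C.frameOf a b ha2 hb3 hA' hB', h7, ?_⟩, C.frameOf_phi a b ha2 hb3 hA' hB', S.R_le_M haR, hbM,
      Or.inl haR⟩⟩
    exact hj.trans C.zero
  · set p : V3 := (3, 0, 2) with hp'
    set a' : G := C.φ p * a with ha'
    have hA'' : C.Acts a' matA := by
      have h := C.acts_mul (C.acts_phi p) hA'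
      rwa [idL_comp] at h
    have ha'2 : a' * a' = 1 := by
      have h := hA' p
      rw [hai] at h
      calc a' * a' = C.φ p * (a * C.φ p * a) := by rw [ha']; group
        _ = 1 := by rw [h, ← C.add, show p + app matA p = 0 by decide, C.zero]
    have h4 : (a'⁻¹ * b⁻¹ * a' * b) ^ 4 = 1 := by
      set u := a⁻¹ * b⁻¹ * a * b with hu
      set U := comp (comp (comp matA (comp matB matB)) matA) matB with hU
      have hUact : C.Acts u U := by
        rw [hu, hai, hbi]
        exact C.acts_mul (C.acts_mul (C.acts_mul hA' (C.acts_mul hB' hB')) hA') hB'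
      have hmove : ∀ (x : G) (L : Lin) (v : V3), C.Acts x L → C.φ v * x = x * C.φ (app L v) := by
        intro x L v h; rw [← h]; group
      set d := app (comp (comp (comp matB matB) matA) matB) (-p) + app (comp matA matB) p with hd
      have e : a'⁻¹ * b⁻¹ * a' * b = u * C.φ d := by
        have hx : C.Acts (b⁻¹ * a * b) (comp (comp (comp matB matB) matA) matB) := by
          rw [hbi]; exact C.acts_mul (C.acts_mul (C.acts_mul hB' hB') hA') hB'
        calc a'⁻¹ * b⁻¹ * a' * b = a⁻¹ * C.φ (-p) * b⁻¹ * (C.φ p * (a * b)) := by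
              rw [ha', C.neg]; group
          _ = a⁻¹ * (C.φ (-p) * (b⁻¹ * a * b)) * C.φ (app (comp matA matB) p) := by
              rw [hmove _ _ p (C.acts_mul hA' hB')]; group
          _ = u * C.φ d := by rw [hmove _ _ _ hx, hd, C.add, hu]; group
      have hsq : ∀ (x : G) (L : Lin) (v : V3), C.Acts x L →
          (x * C.φ v) * (x * C.φ v) = x * x * C.φ (app L v + v) := fun x L v h => by
        calc x * C.φ v * (x * C.φ v) = x * (C.φ v * x) * C.φ v := by group
          _ = _ := by rw [hmove x L v h, C.add]; group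
      have e2 : (u * C.φ d) ^ 4 = u ^ 4 * C.φ (app (comp U U) (app U d + d) + (app U d + d)) := by
        calc (u * C.φ d) ^ 4 = (u * C.φ d) * (u * C.φ d) * ((u * C.φ d) * (u * C.φ d)) := by
              simp only [pow_succ, pow_zero, one_mul, mul_assoc]
          _ = _ := by rw [hsq u U d hUact, hsq _ _ _ (C.acts_mul hUact hUact)]; simp only [pow_succ, pow_zero, one_mul, mul_assoc]
      rw [e, e2, hj, ← C.add]
      exact (congrArg C.φ (show ((0, 2, 0) : V3) +
        (app (comp U U) (app U d + d) + (app U d + d)) = 0 by rw [hd, hU]; decide +kernel)).trans C.zero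
    refine ⟨⟨C, ⟨C.frameOf a' b ha'2 hb3 hA'' hB', C.pow_seven hA'' hB', h4⟩,
      C.frameOf_phi a' b ha'2 hb3 hA'' hB', mul_mem (S.W_le_M (C.mem_W p)) (S.R_le_M haR), hbM, Or.inr ?_⟩⟩
    show C.φ (1, 0, 2) * (C.φ p * a) ∈ S.R
    rw [← mul_assoc, ← C.add, show ((1, 0, 2) : V3) + p = 0 by decide, C.zero, one_mul]
    exact haR

end Cfsg.Agent.HSType
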