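/-
Images of the letters of the amalgam in the Higman-Sims group on a hundred points.
Main definitions: `imgW`, `genW`.
-/
import Cfsg.Agent.Lib.HSType.AmalgamRels

set_option autoImplicit false

namespace Cfsg.Agent.HSType

/-- The letters as words in the generators. -/
def imgTab : List (List ℕ) :=
  [
    [6, 5, 0, 6, 2, 5, 3, 5, 4, 6, 8, 8],
    [0, 3, 0, 6, 3, 8, 6, 4, 8, 7, 6, 6, 8, 8],
    [4, 5, 0, 6, 5, 3, 4, 5, 7, 6],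
    [1, 4, 1, 2, 5, 3, 5, 4, 6, 4, 8, 7, 6, 8],
    [0, 4, 1, 6, 5, 3, 4, 5, 7, 4, 4, 7, 6, 8],
    [3, 1, 0, 8, 4, 2, 2, 6, 4, 4, 8, 7, 6, 7, 6, 8, 8],
    [6, 2, 1, 3, 5, 5, 4, 8, 7, 6, 6],
    [6, 2, 1, 3, 5, 5, 4, 8, 7, 6, 6],
    [4, 1, 5, 2, 3, 6, 7, 4, 4, 8, 7, 6, 7, 6, 8, 8],
    [7, 1, 0, 7, 8, 5, 2, 4, 6, 6, 4, 8, 7, 6, 8],
    [5, 4, 2, 0, 5, 4, 2, 7, 8, 4, 7, 6, 7, 8, 7, 8],
    [5, 4, 2, 0, 5, 4, 2, 7, 8, 4, 7, 6, 7, 8, 7, 8]]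

/-- The word of a letter. -/
def imgW (z : ℕ) : List ℕ :=
  imgTab.getD z []

/-- The two generators as words in the letters. -/
def genW : List (List ℕ) :=
  [
    [0, 4, 10, 8, 10, 4, 8, 4, 10, 9, 4, 10, 4, 0],
    [10, 8, 10, 9, 10, 5, 10, 8, 0, 10, 6, 8, 10, 3]]

end Cfsg.Agent.HSType
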