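/-
The radical of the centralizer in coordinates.
Main definitions: `RTable.OK`, `RTable.el`.
Main results: `Good.evM_eq`, `RTable.el_surj`, `Good.mem_R_table`.
-/
import Cfsg.Agent.Lib.HSType.FrameExists
import Cfsg.Agent.Lib.HSType.RData

set_option autoImplicit false
set_option maxRecDepth 100000
set_option Elab.async false

namespace Cfsg.Agent.HSType

namespace RTable

variable (T : RTable)

/-- The word of an element. -/
def word (i : ℕ) : List ℕ := (T.ws.getD i []).flatMap fun g => T.gens.getD g []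

/-- The value of an element. -/
def m (i : ℕ) : Mo := T.mo.getD i mone

/-- Products. -/
def mu (i j : ℕ) : ℕ := (T.mul.getD i []).getD j 0

/-- Inverses. -/
def iv (i : ℕ) : ℕ := T.inv.getD i 0

/-- Conjugation by the element of order three. -/
def sr (i : ℕ) : ℕ := T.srho.getD i 0

/-- Conjugation by the involution modulo the radical. -/
def sx (i : ℕ) : ℕ := T.ss.getD i 0

/-- The generators by number. -/
def g (k : ℕ) : ℕ := T.gi.getD k 0

/-- The image of an element given by the images of the generators. -/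
def fold (im : List ℕ) (i : ℕ) : ℕ := (T.ws.getD i []).foldl (fun r k => T.mu r (im.getD k 0)) T.one

/-- The checks on a table. -/
def ok : Bool :=
  decide (T.gens.length = 5) && (T.gens.all (fun w => w.all fun z => Nat.blt z 10) &&
    ((Nat.blt T.one 64 && (decide (T.m T.one = mone) && (Nat.blt T.t 64 && decide (T.m T.t = ((idL, (0, 2, 0)) : Mo))))) &&
      ((List.range 5).all (fun k => Nat.blt (T.g k) 64 && decide (evM (T.gens.getD k []) = T.m (T.g k))) &&
        (List.range 64).all fun i =>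
          decide (evM (T.word i) = T.m i) && (Nat.blt (T.iv i) 64 && (decide (T.mu i (T.iv i) = T.one) &&
          ((T.ws.getD i []).all (fun k => Nat.blt k 5) &&
          (Nat.blt (T.sr i) 64 && (decide (mmul (mmul (evM (winv rhoW)) (T.m i)) (evM rhoW) = T.m (T.sr i)) &&
          (Nat.blt (T.sx i) 64 && (decide (mmul (mmul (evM (winv sW)) (T.m i)) (evM sW) = T.m (T.sx i)) &&
            (List.range 64).all fun j =>
              Nat.blt (T.mu i j) 64 && (decide (mmul (T.m i) (T.m j) = T.m (T.mu i j)) &&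
                (i == j || decide (T.m i ≠ T.m j)))))))))))))

/-- The data of a checked table. -/
structure OK : Prop where
  len : T.gens.length = 5
  lt10 : ∀ w ∈ T.gens, ∀ z ∈ w, z < 10
  one : T.one < 64 ∧ T.m T.one = mone
  t : T.t < 64 ∧ T.m T.t = (idL, (0, 2, 0))
  gen : ∀ k < 5, T.g k < 64 ∧ evM (T.gens.getD k []) = T.m (T.g k)
  val : ∀ i < 64, evM (T.word i) = T.m i
  iv : ∀ i < 64, T.iv i < 64 ∧ T.mu i (T.iv i) = T.one
  ws : ∀ i < 64, ∀ k ∈ T.ws.getD i [], k < 5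
  sr : ∀ i < 64, T.sr i < 64 ∧ mmul (mmul (evM (winv rhoW)) (T.m i)) (evM rhoW) = T.m (T.sr i)
  sx : ∀ i < 64, T.sx i < 64 ∧ mmul (mmul (evM (winv sW)) (T.m i)) (evM sW) = T.m (T.sx i)
  mu : ∀ i < 64, ∀ j < 64, T.mu i j < 64 ∧ mmul (T.m i) (T.m j) = T.m (T.mu i j)
  ne : ∀ i < 64, ∀ j < 64, T.m i = T.m j → i = j

theorem OK.of_ok {T : RTable} (h : T.ok = true) : T.OK := by
  simp only [RTable.ok, Bool.and_eq_true, List.all_eq_true, List.mem_range, Nat.blt_eq, decide_eq_true_eq,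
    Bool.or_eq_true, beq_iff_eq] at h
  obtain ⟨h1, h2, ⟨h3, h4, h5, h6⟩, h7, h8⟩ := h
  exact
    { len := h1, lt10 := h2, one := ⟨h3, h4⟩, t := ⟨h5, h6⟩, gen := h7
      val := fun i hi => (h8 i hi).1
      iv := fun i hi => ⟨(h8 i hi).2.1, (h8 i hi).2.2.1⟩
      ws := fun i hi => (h8 i hi).2.2.2.1
      sr := fun i hi => ⟨(h8 i hi).2.2.2.2.1, (h8 i hi).2.2.2.2.2.1⟩
      sx := fun i hi => ⟨(h8 i hi).2.2.2.2.2.2.1, (h8 i hi).2.2.2.2.2.2.2.1⟩
      mu := fun i hi j hj => ⟨((h8 i hi).2.2.2.2.2.2.2.2 j hj).1, ((h8 i hi).2.2.2.2.2.2.2.2 j hj).2.1⟩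
      ne := fun i hi j hj e => ((h8 i hi).2.2.2.2.2.2.2.2 j hj).2.2.resolve_right (not_not.2 e) }

end RTable

theorem tabA_ok : tabA.OK := RTable.OK.of_ok (by decide +kernel)

theorem tabB_ok : tabB.OK := RTable.OK.of_ok (by decide +kernel)

theorem lt10_append {l k : List ℕ} (hl : ∀ z ∈ l, z < 10) (hk : ∀ z ∈ k, z < 10) : ∀ z ∈ l ++ k, z < 10 :=
  fun z hz => (List.mem_append.1 hz).elim (hl z) (hk z)

theorem rhoW_lt : ∀ z ∈ rhoW, z < 10 := by decide

theorem sW_lt : ∀ z ∈ sW, z < 10 := by decide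

theorem uW_lt : ∀ z ∈ uW, z < 10 := by decide

variable {G : Type*} [Group G] [Finite G] {S : Setting G}

namespace Good

variable (D : Good S)

theorem acts (x : G) (L : Lin) (h : D.F.Acts x L) : D.C.Acts x L := fun v => by
  rw [← D.phi_eq, h, D.phi_eq]

theorem evM_eq {l k : List ℕ} (hl : ∀ z ∈ l, z < 10) (hk : ∀ z ∈ k, z < 10) (h : D.F.evG l = D.F.evG k) :
    evM l = evM k := by
  have h1 : (evM l).1 = (evM k).1 :=
    D.C.acts_unique (D.acts _ _ (D.F.acts_evG l)) (h ▸ D.acts _ _ (D.F.acts_evG k))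
  refine Prod.ext h1 (D.C.inj ?_)
  have hab : D.F.evG (abPart l) = D.F.evG (abPart k) := by
    refine D.F.evG_eq _ _ (fun z hz => (SplitFrame.abPart_range hl z hz).2)
      (fun z hz => (SplitFrame.abPart_range hk z hz).2) (Prod.ext ?_ ?_)
    · rw [(Frame.linear_abPart l).1, (Frame.linear_abPart k).1, h1]
    · rw [(Frame.linear_abPart l).2, (Frame.linear_abPart k).2]
  rw [D.F.evG_split l, D.F.evG_split k, hab, mul_left_cancel_iff] at h
  rwa [D.phi_eq, D.phi_eq] at h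

theorem evG_mem (l : List ℕ) : D.F.evG l ∈ S.M := by
  have hlet : ∀ z, D.F.letG z ∈ S.M := by
    have hw : ∀ v, D.F.phi v ∈ S.M := fun v => by rw [D.phi_eq]; exact S.W_le_M (D.C.mem_W v)
    intro z
    rcases z with _ | _ | _ | _ | _ | _ | _ | _ | _ | _ | _
    · show D.F.w0 ∈ S.M
      rw [← D.F.phi_e0]; exact hw _
    · show D.F.w0⁻¹ ∈ S.M
      rw [← D.F.phi_e0]; exact inv_mem (hw _)
    · show D.F.w1 ∈ S.M
      rw [← D.F.phi_e1]; exact hw _
    · show D.F.w1⁻¹ ∈ S.M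
      rw [← D.F.phi_e1]; exact inv_mem (hw _)
    · show D.F.w2 ∈ S.M
      rw [← D.F.phi_e2]; exact hw _
    · show D.F.w2⁻¹ ∈ S.M
      rw [← D.F.phi_e2]; exact inv_mem (hw _)
    · exact D.a_mem
    · exact inv_mem D.a_mem
    · exact D.b_mem
    · exact inv_mem D.b_mem
    · exact one_mem _
  induction l with
  | nil => exact one_mem _
  | cons z l ih => exact mul_mem (hlet z) ih

theorem evG_mem_H {l : List ℕ} (h : app (evM l).1 (0, 2, 0) = (0, 2, 0)) : D.F.evG l ∈ S.H := by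
  rw [S.mem_H]
  have h1 := D.acts _ _ (D.F.acts_evG l) (0, 2, 0)
  rw [h, D.C.ht] at h1
  calc D.F.evG l * S.t = D.F.evG l * ((D.F.evG l)⁻¹ * S.t * D.F.evG l) := by rw [h1]
    _ = S.t * D.F.evG l := by group

theorem evG_winv {l : List ℕ} (hl : ∀ z ∈ l, z < 10) : D.F.evG (winv l) = (D.F.evG l)⁻¹ :=
  (D.F.evG_winv l).resolve_right (not_not.2 hl)

end Good

namespace RTable

variable (D : Good S) {T : RTable}

/-- The element of a given number. -/
def el (T : RTable) (i : ℕ) : G := D.F.evG (T.word i)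

theorem OK.word_lt (h : T.OK) (i : ℕ) : ∀ z ∈ T.word i, z < 10 := by
  intro z hz
  obtain ⟨k, -, hz⟩ := List.mem_flatMap.1 hz
  rw [List.getD_eq_getElem?_getD] at hz
  cases hk : T.gens[k]? with
  | none => simp [hk] at hz
  | some w => exact h.lt10 w (List.mem_of_getElem? hk) z (by simpa [hk] using hz)

theorem OK.el_inj (h : T.OK) {i j : ℕ} (hi : i < 64) (hj : j < 64) (e : T.el D i = T.el D j) : i = j :=
  h.ne i hi j hj (by rw [← h.val i hi, ← h.val j hj]; exact D.evM_eq (h.word_lt i) (h.word_lt j) e)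

theorem OK.el_mul (h : T.OK) {i j : ℕ} (hi : i < 64) (hj : j < 64) : T.el D i * T.el D j = T.el D (T.mu i j) := by
  rw [el, el, el, ← Frame.evG_append]
  refine D.F.evG_eq _ _ (lt10_append (h.word_lt i) (h.word_lt j)) (h.word_lt _) ?_
  rw [evM_append, h.val i hi, h.val j hj, h.val _ (h.mu i hi j hj).1, (h.mu i hi j hj).2]

theorem OK.el_one (h : T.OK) : T.el D T.one = 1 :=
  D.F.evG_eq _ [] (h.word_lt _) (by simp) (by rw [h.val _ h.one.1, h.one.2]; rfl)

theorem OK.el_t (h : T.OK) : T.el D T.t = S.t := by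
  rw [← D.C.ht, ← D.phi_eq, el, D.F.evG_eq _ [2, 2] (h.word_lt _) (by decide) (by
    rw [h.val _ h.t.1, h.t.2]; decide), D.F.evG_split [2, 2]]
  exact one_mul _

theorem OK.el_iv (h : T.OK) {i : ℕ} (hi : i < 64) : T.el D (T.iv i) = (T.el D i)⁻¹ := by
  refine eq_inv_of_mul_eq_one_right ?_
  rw [h.el_mul D hi (h.iv i hi).1, (h.iv i hi).2, h.el_one]

theorem OK.el_sr (h : T.OK) {i : ℕ} (hi : i < 64) :
    T.el D (T.sr i) = (D.F.evG rhoW)⁻¹ * T.el D i * D.F.evG rhoW := by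
  rw [← D.evG_winv rhoW_lt, el, el, ← Frame.evG_append, ← Frame.evG_append]
  refine D.F.evG_eq _ _ (h.word_lt _) (lt10_append (lt10_append (winv_lt rhoW_lt) (h.word_lt i)) rhoW_lt) ?_
  rw [evM_append, evM_append, h.val i hi, h.val _ (h.sr i hi).1, (h.sr i hi).2]

theorem OK.el_sx (h : T.OK) {i : ℕ} (hi : i < 64) :
    T.el D (T.sx i) = (D.F.evG sW)⁻¹ * T.el D i * D.F.evG sW := by
  rw [← D.evG_winv sW_lt, el, el, ← Frame.evG_append, ← Frame.evG_append]
  refine D.F.evG_eq _ _ (h.word_lt _) (lt10_append (lt10_append (winv_lt sW_lt) (h.word_lt i)) sW_lt) ?_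
  rw [evM_append, evM_append, h.val i hi, h.val _ (h.sx i hi).1, (h.sx i hi).2]

theorem OK.el_gen (h : T.OK) {k : ℕ} (hk : k < 5) : T.el D (T.g k) = D.F.evG (T.gens.getD k []) := by
  refine D.F.evG_eq _ _ (h.word_lt _) ?_ (by rw [h.val _ (h.gen k hk).1, (h.gen k hk).2])
  intro z hz
  rw [List.getD_eq_getElem _ _ (by rw [h.len]; exact hk)] at hz
  exact h.lt10 _ (List.getElem_mem _) z hz

theorem el_mem {T : RTable} (hg : ∀ w ∈ T.gens, D.F.evG w ∈ S.R) (i : ℕ) : T.el D i ∈ S.R := by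
  show D.F.evG ((T.ws.getD i []).flatMap fun g => T.gens.getD g []) ∈ S.R
  induction T.ws.getD i [] with
  | nil => exact one_mem _
  | cons k l ih =>
    rw [List.flatMap_cons, Frame.evG_append]
    refine mul_mem ?_ ih
    rw [List.getD_eq_getElem?_getD]
    cases hk : T.gens[k]? with
    | none => exact one_mem _
    | some w => exact hg w (List.mem_of_getElem? hk)

theorem OK.el_surj (h : T.OK) (hg : ∀ w ∈ T.gens, D.F.evG w ∈ S.R) {x : G} (hx : x ∈ S.R) :
    ∃ i < 64, T.el D i = x := by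
  have hb : Function.Bijective (fun i : Fin 64 => (⟨T.el D i, el_mem D hg i⟩ : S.R)) :=
    (Nat.bijective_iff_injective_and_card _).2
      ⟨fun i j e => Fin.ext (h.el_inj D i.2 j.2 (congrArg Subtype.val e)), by rw [Nat.card_fin, S.card_R]⟩
  obtain ⟨i, hi⟩ := hb.2 ⟨x, hx⟩
  exact ⟨i, i.2, congrArg Subtype.val hi⟩

end RTable

/-- The generators of one of the two candidates lie in `R`. -/
theorem Good.mem_R_table (D : Good S) :
    (∀ w ∈ tabA.gens, D.F.evG w ∈ S.R) ∨ (∀ w ∈ tabB.gens, D.F.evG w ∈ S.R) := by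
  have hphi : ∀ l : List ℕ, abPart l = [] → 2 * (evM l).2.1 = 0 → 2 * (evM l).2.2.2 = 0 → D.F.evG l ∈ S.R := by
    intro l h1 h2 h3
    rw [D.F.evG_split l, h1, D.phi_eq]
    exact mul_mem (one_mem _) ((D.C.mem_R_iff _).2 ⟨h2, h3⟩)
  have hρ : D.F.evG rhoW ∈ S.H := D.evG_mem_H (by decide +kernel)
  have hconj : ∀ l : List ℕ, D.F.evG l ∈ S.R → D.F.evG (winv rhoW ++ l ++ rhoW) ∈ S.R := by
    intro l hl
    rw [Frame.evG_append, Frame.evG_append, D.evG_winv rhoW_lt]
    exact S.conj_mem_R' hρ hl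
  have key : ∀ T : RTable, ∀ g0 g1 g3 : List ℕ,
      T.gens = [g0, g1, winv rhoW ++ g1 ++ rhoW, g3, winv rhoW ++ g3 ++ rhoW] →
      D.F.evG g0 ∈ S.R → D.F.evG g1 ∈ S.R → D.F.evG g3 ∈ S.R → ∀ w ∈ T.gens, D.F.evG w ∈ S.R := by
    intro T g0 g1 g3 e m0 m1 m3 w hw
    rw [e] at hw
    simp only [List.mem_cons, List.not_mem_nil, or_false] at hw
    rcases hw with rfl | rfl | rfl | rfl | rfl
    exacts [m0, m1, hconj _ m1, m3, hconj _ m3]
  have hc : D.F.evG [2, 4, 4] ∈ S.R := hphi _ rfl (by decide) (by decide)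
  have hv : D.F.evG [4, 4] ∈ S.R := hphi _ rfl (by decide) (by decide)
  rcases D.cases_R with h | h
  · exact Or.inl (key tabA [2, 4, 4] [6] [4, 4] (by decide +kernel) hc (by simpa [Frame.evG, Frame.letG] using h) hv)
  · refine Or.inr (key tabB [2, 4, 4] [0, 4, 4, 6] [4, 4] (by decide +kernel) hc ?_ hv)
    have e : D.F.evG [0, 4, 4, 6] = D.C.φ (1, 0, 2) * D.F.a := by
      rw [← D.phi_eq]
      simp [Frame.evG, Frame.letG, Frame.phi, phiOf, ZMod.val_one_eq_one_mod, pow_two, mul_assoc,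
        show (2 : ZMod 4).val = 2 from rfl]
    rw [e]; exact h

end Cfsg.Agent.HSType
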