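/-
Elements of orders three and two generating a point stabilizer of the symmetric group on five letters.
Main results: `exists_standard`, `eq_top_of_standard`.
-/
import Cfsg.Agent.EqLemmas

set_option autoImplicit false
set_option maxRecDepth 100000
set_option Elab.async false

namespace Cfsg.Agent.HSType

open Equiv

/-- The standard three-cycle. -/
def r0 : Perm (Fin 5) := swap 1 2 * swap 2 3

/-- The standard transposition. -/
def s0 : Perm (Fin 5) := swap 0 1

/-- The transposition completing the generation. -/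
def x0 : Perm (Fin 5) := swap 0 4

/-- The property of `exists_standard` as a boolean. -/
def standardB (r s : Perm (Fin 5)) : Bool :=
  !decide (r ^ 3 = 1) || (decide (r = 1) || (!decide (s ^ 2 = 1) || (!decide ((r * s) ^ 4 = 1) ||
    (decide ((r * s) ^ 2 = 1) || decide (∃ g : Perm (Fin 5), g * r * g⁻¹ = r0 ∧ g * s * g⁻¹ = s0)))))

theorem standardB_all : ∀ r s : Perm (Fin 5), standardB r s = true := by decide +kernel

theorem exists_standard (r s : Perm (Fin 5)) (h1 : r ^ 3 = 1) (h2 : r ≠ 1) (h3 : s ^ 2 = 1)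
    (h4 : (r * s) ^ 4 = 1) (h5 : (r * s) ^ 2 ≠ 1) :
    ∃ g : Perm (Fin 5), g * r * g⁻¹ = r0 ∧ g * s * g⁻¹ = s0 := by
  have h := standardB_all r s
  simp only [standardB, h1, h3, h4, h2, h5, decide_true, decide_false, Bool.not_true, Bool.false_or,
    decide_eq_true_eq] at h
  exact h

theorem eq_top_of_standard {K : Subgroup (Perm (Fin 5))} (hr : r0 ∈ K) (hs : s0 ∈ K) (hx : x0 ∈ K) : K = ⊤ := by
  have ho : orderOf (r0 * s0 * x0) = 5 :=
    haveI := Fact.mk (by norm_num : Nat.Prime 5)
    orderOf_eq_prime (by decide +kernel) (by decide +kernel)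
  have hσ : (r0 * s0 * x0).IsCycle :=
    Equiv.Perm.isCycle_of_prime_order' (by rw [ho]; norm_num) (by rw [ho]; simp)
  have hsup : (r0 * s0 * x0).support = Finset.univ := by decide +kernel
  have h := Equiv.Perm.closure_prime_cycle_swap (by norm_num : (Fintype.card (Fin 5)).Prime) hσ hsup
    (⟨0, 4, by decide, rfl⟩ : x0.IsSwap)
  rw [eq_top_iff, ← h, Subgroup.closure_le]
  rintro g (rfl | rfl)
  · exact mul_mem (mul_mem hr hs) hx
  · exact hx

theorem q0_spec : ∃ q : Perm (Fin 5), q * r0 * q⁻¹ = x0 * s0 := by decide +kernel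

theorem x0_spec : x0 * x0 = 1 ∧ x0 * r0 = r0 * x0 ∧ (x0 * s0) ^ 3 = 1 := by decide +kernel

theorem centralizer_swap : ∀ g : Perm (Fin 5), g * swap 2 3 = swap 2 3 * g →
    ∃ e : Bool, g = (bif e then swap 2 3 else 1) * 1 ∨ g = (bif e then swap 2 3 else 1) * s0 ∨
      g = (bif e then swap 2 3 else 1) * x0 ∨ g = (bif e then swap 2 3 else 1) * (s0 * x0) ∨
      g = (bif e then swap 2 3 else 1) * (x0 * s0) ∨ g = (bif e then swap 2 3 else 1) * (s0 * x0 * s0) := by
  decide +kernel

end Cfsg.Agent.HSType
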