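/-
The element of `H` outside `M` and its action on `R`.
Main definitions: `Proj`, `HFrame`.
Main result: `Setting.exists_hframe`.
-/
import Cfsg.Agent.Lib.HSType.Radical
import Cfsg.Agent.Lib.HSType.Sym5

set_option autoImplicit false
set_option maxRecDepth 100000
set_option Elab.async false
set_option synthInstance.maxSize 4096

namespace Cfsg.Agent.HSType

namespace RTable

/-- The images of the generators from those of the second and fourth. -/
def imOf (T : RTable) (A V : ℕ) : List ℕ := [T.mu (T.mu (T.g 0) (T.g 0)) (T.g 0), A, T.sr A, V, T.sr V]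

/-- Conjugation by the product with the involution modulo the radical. -/
def tw3 (T : RTable) (im : List ℕ) (i : ℕ) : ℕ := T.sx (T.fold im i)

/-- Conditions on the images of two generators. -/
def cond (T : RTable) (A V : ℕ) : Bool :=
  let im := T.imOf A V
  ([1, 3].all fun k => T.fold im (T.mu (T.g k) (T.g k)) == T.mu (im.getD k 0) (im.getD k 0)) &&
  (((List.range 5).all fun j => (List.range 5).all fun k =>
      T.fold im (T.mu (T.g j) (T.g k)) == T.mu (im.getD j 0) (im.getD k 0)) &&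
  (([1, 3].all fun k => T.fold im (T.fold im (T.g k)) == T.g k) &&
  (([1, 3].all fun k => T.tw3 im (T.tw3 im (T.tw3 im (T.g k))) == T.g k) &&
  ([2, 4].all fun k => T.fold im (T.sr (T.g k)) == T.sr (T.fold im (T.g k))))))

/-- A word is the value of some element of the table. -/
def inB (T : RTable) (l : List ℕ) : Bool :=
  l.all (fun z => Nat.blt z 10) && (List.range 64).any fun k => decide (evM l = T.m k)

/-- A word is the value of no element of the table. -/
def outB (T : RTable) (l : List ℕ) : Bool :=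
  l.all (fun z => Nat.blt z 10) && (List.range 64).all fun k => decide (evM l ≠ T.m k)

/-- The properties used in lifting the outer element. -/
def liftOK (T : RTable) : Bool :=
  T.inB (sW ++ sW) && (T.outB rhoW && (T.inB (rhoW ++ rhoW ++ rhoW) &&
    (T.inB (rhoW ++ sW ++ rhoW ++ sW ++ rhoW ++ sW ++ rhoW ++ sW) && (T.outB (rhoW ++ sW ++ rhoW ++ sW) &&
    (decide (evM (rhoW ++ rhoW ++ rhoW) = mone) && (decide (T.sx (T.g 0) = T.iv (T.g 0)) &&
    (Nat.beq (T.mu (T.g 0) (T.g 0)) T.t && ((List.range 5).all (fun k => T.mu (T.g 0) (T.g k) == T.mu (T.g k) (T.g 0)) &&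
    ((T.sr (T.g 0) == T.g 0) &&
    ((List.range 64).all (fun k =>
      let y := mmul (evM rhoW) (T.m k)
      (decide (mmul y (mmul y y) ≠ mone) ||
        (List.range 64).any fun j => decide (mmul (T.m j) y = mmul (evM rhoW) (T.m j))) &&
      (List.range 64).all fun i => decide (mmul (T.m i) y ≠ mmul y (T.m i)) ||
        [T.one, T.g 0, T.t, T.mu T.t (T.g 0)].contains i)))))))))))

end RTable

/-- The other candidate for the action, transported by the change of frame. -/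
def alPsiOK : Bool :=
  (List.range 64).all fun i => Nat.blt (psiR.getD i 0) 64 &&
    (alOther.getD (psiR.getD i 0) 0 == psiR.getD (alTrue.getD i 0) 0)

theorem tabA_lift : tabA.liftOK = true := by decide +kernel

theorem tabB_lift : tabB.liftOK = true := by decide +kernel

theorem tabA_cond : ((List.range 64).all fun A => (List.range 64).all fun V =>
    !tabA.cond A V || ((A == 4 && V == 18) || (A == 2 && V == 17))) = true := by decide +kernel

theorem tabB_cond : ((List.range 64).all fun A => (List.range 64).all fun V => !tabB.cond A V) = true := by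
  decide +kernel

theorem tabA_true : ((List.range 64).all fun i => Nat.blt (alTrue.getD i 0) 64 &&
    (tabA.fold (tabA.imOf 4 18) i == alTrue.getD i 0)) = true := by decide +kernel

theorem tabA_other : ((List.range 64).all fun i => tabA.fold (tabA.imOf 2 17) i == alOther.getD i 0) = true := by
  decide +kernel

variable {G : Type*} [Group G] [Finite G] {S : Setting G}

/-- The projection of `H` onto the symmetric group in standard position. -/
structure Proj (D : Good S) where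
  f : S.H →* Equiv.Perm (Fin 5)
  surj : Function.Surjective f
  ker : ∀ x : S.H, f x = 1 ↔ (x : G) ∈ S.R
  rho : ∀ x : S.H, (x : G) = D.F.evG rhoW → f x = r0
  s : ∀ x : S.H, (x : G) = D.F.evG sW → f x = s0

theorem rho_fix : app (evM rhoW).1 (0, 2, 0) = (0, 2, 0) := by decide +kernel

theorem s_fix : app (evM sW).1 (0, 2, 0) = (0, 2, 0) := by decide +kernel

namespace Setting

omit [Finite G]
variable (S)

theorem mem_Cy_of_central {x : G} (hx : x ∈ S.R) (hc : ∀ r ∈ S.R, x * r = r * x) : x ∈ S.Cy := by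
  obtain ⟨y, hy, e, he, rfl⟩ := S.exists_mul_eq hx
  refine mul_mem hy (S.mem_center_E.1 (Subgroup.mem_center_iff.2 fun g => Subtype.ext ?_) :
    (((⟨e, he⟩ : S.E) : G)) ∈ S.Cy)
  show (g : G) * e = e * g
  have h1 := hc g (S.hEle g.2)
  rw [mul_assoc] at h1
  have h2 : (g : G) * (y * e) = y * (g * e) := by rw [← mul_assoc, ← S.R_comm hy (S.hEle g.2), mul_assoc]
  rw [h2] at h1
  exact (mul_left_cancel h1).symm

theorem conj_Cy {x h : G} (hx : x ∈ S.Cy) (hh : h ∈ S.H) : h * x * h⁻¹ ∈ S.Cy := by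
  refine S.mem_Cy_of_central (S.conj_mem_R hh (S.hCyle hx).1) fun r hr => ?_
  have h1 := S.R_comm hx (S.conj_mem_R' hh hr)
  calc h * x * h⁻¹ * r = h * (x * (h⁻¹ * r * h)) * h⁻¹ := by group
    _ = h * (h⁻¹ * r * h * x) * h⁻¹ := by rw [h1]
    _ = r * (h * x * h⁻¹) := by group

theorem mem_powers_Cy [Finite G] {c x : G} (hc : c ∈ S.Cy) (ho : orderOf c = 4) (hx : x ∈ S.Cy) :
    ∃ k : ℕ, x = c ^ k := by
  have hle : Subgroup.zpowers c ≤ S.Cy := Subgroup.zpowers_le.2 hc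
  have heq : Subgroup.zpowers c = S.Cy :=
    Subgroup.eq_of_le_of_card_ge hle (by rw [Nat.card_zpowers, ho, S.hCycard])
  rw [← heq] at hx
  obtain ⟨k, hk⟩ := mem_powers_iff_mem_zpowers.2 hx
  exact ⟨k, hk.symm⟩

end Setting

namespace Good

variable (D : Good S) {T : RTable}

theorem mem_of_inB (h : T.OK) (hg : ∀ w ∈ T.gens, D.F.evG w ∈ S.R) {l : List ℕ} (hl : T.inB l = true) :
    D.F.evG l ∈ S.R := by
  simp only [RTable.inB, Bool.and_eq_true, List.all_eq_true, Nat.blt_eq, List.any_eq_true, List.mem_range,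
    decide_eq_true_eq] at hl
  obtain ⟨hl, k, hk, e⟩ := hl
  rw [D.F.evG_eq l (T.word k) hl (h.word_lt k) (e.trans (h.val k hk).symm)]
  exact RTable.el_mem D hg k

theorem not_mem_of_outB (h : T.OK) (hg : ∀ w ∈ T.gens, D.F.evG w ∈ S.R) {l : List ℕ} (hl : T.outB l = true) :
    D.F.evG l ∉ S.R := by
  simp only [RTable.outB, Bool.and_eq_true, List.all_eq_true, Nat.blt_eq, List.mem_range, decide_eq_true_eq] at hl
  intro hm
  obtain ⟨k, hk, e⟩ := h.el_surj D hg hm
  exact hl.2 k hk ((D.evM_eq hl.1 (h.word_lt k) e.symm).trans (h.val k hk))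

theorem exists_proj (h : T.OK) (hg : ∀ w ∈ T.gens, D.F.evG w ∈ S.R) (hl : T.liftOK = true) :
    Nonempty (Proj D) := by
  simp only [RTable.liftOK, Bool.and_eq_true] at hl
  obtain ⟨e1, e2, e3, e4, e5, -⟩ := hl
  haveI := Cores.pCore_normal 2 S.H
  let π : S.H →* Equiv.Perm (Fin 5) := S.eH.toMonoidHom.comp (QuotientGroup.mk' (Cfsg.pCore 2 S.H))
  have hker : ∀ x : S.H, π x = 1 ↔ (x : G) ∈ S.R := by
    intro x
    have : π x = 1 ↔ x ∈ Cfsg.pCore 2 S.H := by
      simp only [π, MonoidHom.comp_apply, MulEquiv.coe_toMonoidHom, MulEquiv.map_eq_one_iff,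
        QuotientGroup.mk'_apply, QuotientGroup.eq_one_iff]
    rw [this, S.hR]
    exact ⟨fun hx => ⟨x, hx, rfl⟩, fun ⟨y, hy, e⟩ => Subtype.ext e ▸ hy⟩
  have hρ := D.evG_mem_H rho_fix
  have hs := D.evG_mem_H s_fix
  set r : Equiv.Perm (Fin 5) := π ⟨_, hρ⟩ with hr
  set s : Equiv.Perm (Fin 5) := π ⟨_, hs⟩ with hs'
  have h1 : r ^ 3 = 1 := by
    rw [hr, ← map_pow, hker]
    have := D.mem_of_inB h hg e3
    simpa [Frame.evG_append, pow_succ, pow_zero, mul_assoc] using this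
  have h2 : r ≠ 1 := fun e => D.not_mem_of_outB h hg e2 ((hker _).1 e)
  have h3 : s ^ 2 = 1 := by
    rw [hs', ← map_pow, hker]
    have := D.mem_of_inB h hg e1
    simpa [Frame.evG_append, pow_two] using this
  have h4 : (r * s) ^ 4 = 1 := by
    rw [hr, hs', ← map_mul, ← map_pow, hker]
    have := D.mem_of_inB h hg e4
    simpa [Frame.evG_append, pow_succ, pow_zero, mul_assoc] using this
  have h5 : (r * s) ^ 2 ≠ 1 := by
    rw [hr, hs', ← map_mul, ← map_pow]
    intro e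
    refine D.not_mem_of_outB h hg e5 ?_
    have := (hker _).1 e
    simpa [Frame.evG_append, pow_two, mul_assoc] using this
  obtain ⟨g, g1, g2⟩ := exists_standard r s h1 h2 h3 h4 h5
  refine ⟨⟨(MulAut.conj g).toMonoidHom.comp π, (MulAut.conj g).surjective.comp
    (S.eH.surjective.comp (QuotientGroup.mk'_surjective _)), fun x => ?_, fun x hx => ?_, fun x hx => ?_⟩⟩
  · rw [← hker x]
    exact (map_eq_one_iff _ (MulAut.conj g).injective)
  · rw [← g1, hr, show x = ⟨_, hρ⟩ from Subtype.ext hx]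
    simp
  · rw [← g2, hs', show x = ⟨_, hs⟩ from Subtype.ext hx]
    simp

theorem mul_eq_map (h : T.OK) {f : ℕ → ℕ}
    (hf : ∀ i < 64, f i < 64) {x : G} (hx : ∀ i < 64, x⁻¹ * T.el D i * x = T.el D (f i)) {im : List ℕ}
    (him : ∀ k < 5, im.getD k 0 = f (T.g k)) {i : ℕ} (hi : i < 64) : T.fold im i = f i := by
  have key : ∀ (l : List ℕ) (acc : ℕ), acc < 64 → (∀ k ∈ l, k < 5) →
      ∃ j < 64, l.foldl (fun r k => T.mu r (im.getD k 0)) acc = j ∧
        T.el D j = T.el D acc * (x⁻¹ * D.F.evG (l.flatMap fun g => T.gens.getD g []) * x) := by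
    intro l
    induction l with
    | nil => intro acc ha _; exact ⟨acc, ha, rfl, by simp [Frame.evG]⟩
    | cons k l ih =>
      intro acc ha hk
      have hk5 := hk k List.mem_cons_self
      have hfk := hf _ (h.gen k hk5).1
      obtain ⟨j, hj, e1, e2⟩ := ih (T.mu acc (im.getD k 0))
        (by rw [him k hk5]; exact (h.mu acc ha _ hfk).1) (fun y hy => hk y (List.mem_cons_of_mem k hy))
      refine ⟨j, hj, e1, ?_⟩
      rw [e2, him k hk5, ← h.el_mul D ha hfk, ← hx _ (h.gen k hk5).1, h.el_gen D hk5, List.flatMap_cons,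
        Frame.evG_append]
      group
  obtain ⟨j, hj, e1, e2⟩ := key _ _ h.one.1 (h.ws i hi)
  show (T.ws.getD i []).foldl _ _ = _
  rw [e1]
  refine h.el_inj D hj (hf i hi) ?_
  rw [e2, h.el_one, one_mul, ← hx i hi]
  rfl

end Good

/-- The raw outer element: everything but the choice between the two actions. -/
structure PreOuter (D : Good S) (T : RTable) where
  P : Proj D
  h : G
  hH : h ∈ S.H
  ph : ∀ x : S.H, (x : G) = h → P.f x = x0
  sq : h * h = 1 ∨ h * h = S.t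
  hρ : h⁻¹ * D.F.evG rhoW * h = D.F.evG rhoW
  hs : (h * D.F.evG sW) ^ 3 = 1
  al : ℕ → ℕ
  al_lt : ∀ i < 64, al i < 64
  al_spec : ∀ i < 64, h⁻¹ * T.el D i * h = T.el D (al i)
  al_gen : al (T.g 0) = T.mu (T.mu (T.g 0) (T.g 0)) (T.g 0)

theorem Good.exists_preOuter (D : Good S) {T : RTable} (h : T.OK) (hg : ∀ w ∈ T.gens, D.F.evG w ∈ S.R)
    (hl : T.liftOK = true) : Nonempty (PreOuter D T) := by
  obtain ⟨P⟩ := D.exists_proj h hg hl
  simp only [RTable.liftOK, Bool.and_eq_true] at hl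
  obtain ⟨-, -, -, -, -, hρ3, hsc, hct, hcen, hfix, htab⟩ := hl
  simp only [List.all_eq_true, List.mem_range, Bool.and_eq_true, Bool.or_eq_true, List.any_eq_true,
    List.contains_iff_mem, beq_iff_eq, decide_eq_true_eq] at hcen hfix htab
  replace hρ3 := of_decide_eq_true hρ3
  replace hsc := of_decide_eq_true hsc
  replace hct := Nat.eq_of_beq_eq_true hct
  set ρ := D.F.evG rhoW with hρdef
  set s := D.F.evG sW with hsdef
  have hρH : ρ ∈ S.H := D.evG_mem_H rho_fix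
  have hsH : s ∈ S.H := D.evG_mem_H s_fix
  have hρ3' : ρ * (ρ * ρ) = 1 := by
    rw [hρdef, ← mul_assoc, ← Frame.evG_append, ← Frame.evG_append]
    exact D.F.evG_eq_one _ (lt10_append (lt10_append rhoW_lt rhoW_lt) rhoW_lt) hρ3
  have hg0 : T.g 0 < 64 := (h.gen 0 (by norm_num)).1
  set c := T.el D (T.g 0) with hcdef
  have hcR : c ∈ S.R := RTable.el_mem D hg _
  have hcC : c ∈ S.Cy := by
    refine S.mem_Cy_of_central hcR fun r hr => ?_
    obtain ⟨i, hi, rfl⟩ := h.el_surj D hg hr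
    have hgk : ∀ k < 5, c * T.el D (T.g k) = T.el D (T.g k) * c := fun k hk => by
      rw [hcdef, h.el_mul D hg0 (h.gen k hk).1, h.el_mul D (h.gen k hk).1 hg0, hcen k hk]
    show c * D.F.evG ((T.ws.getD i []).flatMap fun g => T.gens.getD g []) = _
    change _ = D.F.evG ((T.ws.getD i []).flatMap fun g => T.gens.getD g []) * c
    have hws := h.ws i hi
    revert hws
    generalize T.ws.getD i [] = l
    intro hws
    induction l with
    | nil => simp [Frame.evG]
    | cons k l ih =>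
      rw [List.flatMap_cons, Frame.evG_append, ← h.el_gen D (hws k List.mem_cons_self)]
      rw [← mul_assoc, hgk k (hws k List.mem_cons_self), mul_assoc,
        ih fun y hy => hws y (List.mem_cons_of_mem k hy), mul_assoc]
  have hc2 : c * c = S.t := by rw [hcdef, h.el_mul D hg0 hg0, hct, h.el_t]
  have hc4 : c ^ 4 = 1 := by
    rw [show (4 : ℕ) = 2 * 2 from rfl, pow_mul, pow_two c, hc2, pow_two, S.t_sq]
  have four : ∀ i < 64, [T.one, T.g 0, T.t, T.mu T.t (T.g 0)].contains i = true → ∃ k : ℕ, T.el D i = c ^ k := by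
    intro i _ hi
    simp only [List.contains_iff_mem, List.mem_cons, List.not_mem_nil, or_false] at hi
    rcases hi with rfl | rfl | rfl | rfl
    · exact ⟨0, by rw [h.el_one, pow_zero]⟩
    · exact ⟨1, by rw [pow_one]⟩
    · exact ⟨2, by rw [h.el_t, pow_two, hc2]⟩
    · exact ⟨3, by rw [← h.el_mul D h.t.1 hg0, h.el_t, ← hc2, ← pow_two, ← pow_succ]⟩
  have hco : orderOf c = 4 := orderOf_eq_prime_pow (p := 2) (n := 1) (by
    rw [pow_one, pow_two, hc2]; exact S.t_ne) hc4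
  simp only [List.contains_iff_mem] at four
  -- the lift of the transposition
  obtain ⟨⟨h0, h0H⟩, hP0⟩ := P.surj x0
  have hkey : h0⁻¹ * ρ * h0 * ρ⁻¹ ∈ S.R ∧ ρ⁻¹ * (h0⁻¹ * ρ * h0) ∈ S.R := by
    constructor
    · refine (P.ker ⟨_, mul_mem (mul_mem (mul_mem (inv_mem h0H) hρH) h0H) (inv_mem hρH)⟩).1 ?_
      show P.f (⟨h0, h0H⟩⁻¹ * ⟨ρ, hρH⟩ * ⟨h0, h0H⟩ * ⟨ρ, hρH⟩⁻¹) = 1
      rw [map_mul, map_mul, map_mul, map_inv, map_inv, hP0, P.rho ⟨ρ, hρH⟩ rfl]
      decide +kernel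
    · refine (P.ker ⟨_, mul_mem (inv_mem hρH) (mul_mem (mul_mem (inv_mem h0H) hρH) h0H)⟩).1 ?_
      show P.f (⟨ρ, hρH⟩⁻¹ * (⟨h0, h0H⟩⁻¹ * ⟨ρ, hρH⟩ * ⟨h0, h0H⟩)) = 1
      rw [map_mul, map_mul, map_mul, map_inv, map_inv, hP0, P.rho ⟨ρ, hρH⟩ rfl]
      decide +kernel
  obtain ⟨k, hk, hk'⟩ := h.el_surj D hg hkey.2
  have hyw : h0⁻¹ * ρ * h0 = D.F.evG (rhoW ++ T.word k) := by
    rw [Frame.evG_append]; show _ = ρ * T.el D k; rw [hk']; group
  have hy3 : (h0⁻¹ * ρ * h0) * ((h0⁻¹ * ρ * h0) * (h0⁻¹ * ρ * h0)) = 1 := by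
    calc (h0⁻¹ * ρ * h0) * ((h0⁻¹ * ρ * h0) * (h0⁻¹ * ρ * h0)) = h0⁻¹ * (ρ * (ρ * ρ)) * h0 := by group
      _ = 1 := by rw [hρ3']; group
  have hlk := lt10_append rhoW_lt (h.word_lt k)
  have hyM : evM (rhoW ++ T.word k) = mmul (evM rhoW) (T.m k) := by rw [evM_append, h.val k hk]
  obtain ⟨j, hj, hj'⟩ : ∃ j < 64, mmul (T.m j) (mmul (evM rhoW) (T.m k)) = mmul (evM rhoW) (T.m j) := by
    rcases (htab k hk).1 with e | e
    · refine absurd ?_ e
      rw [← hyM, ← evM_append, ← evM_append]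
      have hlt : ∀ z ∈ (rhoW ++ T.word k) ++ ((rhoW ++ T.word k) ++ (rhoW ++ T.word k)), z < 10 :=
        lt10_append hlk (lt10_append hlk hlk)
      refine (D.evM_eq hlt (k := []) (by simp) ?_).trans rfl
      rw [Frame.evG_append D.F.toFrame (rhoW ++ T.word k), Frame.evG_append D.F.toFrame (rhoW ++ T.word k), ← hyw, hy3]
      rfl
    · exact e
  have hj2 : T.el D j * (h0⁻¹ * ρ * h0) = ρ * T.el D j := by
    rw [hyw, hρdef, RTable.el, ← Frame.evG_append, ← Frame.evG_append]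
    refine D.F.evG_eq _ _ (lt10_append (h.word_lt j) hlk) (lt10_append rhoW_lt (h.word_lt j)) ?_
    rw [evM_append, evM_append rhoW (T.word j), hyM, h.val j hj, hj']
  set h1 := h0 * (T.el D j)⁻¹ with hh1
  have hjR : T.el D j ∈ S.R := RTable.el_mem D hg j
  have h1H : h1 ∈ S.H := mul_mem h0H (inv_mem (S.R_le_H hjR))
  have h1ρ : h1⁻¹ * ρ * h1 = ρ := by
    calc h1⁻¹ * ρ * h1 = T.el D j * (h0⁻¹ * ρ * h0) * (T.el D j)⁻¹ := by rw [hh1]; group
      _ = ρ := by rw [hj2, mul_inv_cancel_right]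
  have hP1 : P.f ⟨h1, h1H⟩ = x0 := by
    have : (⟨h1, h1H⟩ : S.H) = ⟨h0, h0H⟩ * ⟨T.el D j, S.R_le_H hjR⟩⁻¹ := Subtype.ext rfl
    rw [this, map_mul, map_inv, hP0, (P.ker ⟨_, S.R_le_H hjR⟩).2 hjR, inv_one, mul_one]
  -- the third power of the product
  set x := h1 * s with hx
  have hxH : x ∈ S.H := mul_mem h1H hsH
  have hPx : P.f ⟨x, hxH⟩ = x0 * s0 := by
    rw [show (⟨x, hxH⟩ : S.H) = ⟨h1, h1H⟩ * ⟨s, hsH⟩ from Subtype.ext rfl, map_mul, hP1, P.s ⟨s, hsH⟩ rfl]
  have hx3R : x ^ 3 ∈ S.R := by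
    refine (P.ker (⟨x, hxH⟩ ^ 3)).1 ?_
    rw [map_pow, hPx]; exact x0_spec.2.2
  have hcommR : ∀ (y : G), y ∈ S.R → ∀ m < 64, T.el D m * (ρ * y) = ρ * y * T.el D m → ∃ n : ℕ, T.el D m = c ^ n := by
    intro y hy m hm e
    obtain ⟨k', hk', rfl⟩ := h.el_surj D hg hy
    refine four m hm (((htab k' hk').2 m hm).resolve_left (not_not.2 ?_))
    have h2 : evM (T.word m ++ (rhoW ++ T.word k')) = evM ((rhoW ++ T.word k') ++ T.word m) := by
      refine D.evM_eq (lt10_append (h.word_lt m) (lt10_append rhoW_lt (h.word_lt k')))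
        (lt10_append (lt10_append rhoW_lt (h.word_lt k')) (h.word_lt m)) ?_
      simp only [Frame.evG_append]
      exact e
    simpa only [evM_append, h.val m hm, h.val k' hk'] using h2
  obtain ⟨q, hq⟩ := q0_spec
  obtain ⟨⟨qq, hqH⟩, hPq⟩ := P.surj q
  obtain ⟨n, hn⟩ : ∃ n : ℕ, x ^ 3 = c ^ n := by
    have hr1 : ρ⁻¹ * (qq⁻¹ * x * qq) ∈ S.R := by
      refine (P.ker (⟨ρ, hρH⟩⁻¹ * (⟨qq, hqH⟩⁻¹ * ⟨x, hxH⟩ * ⟨qq, hqH⟩))).1 ?_
      rw [map_mul, map_mul, map_mul, map_inv, map_inv, hPq, hPx, ← hq, P.rho ⟨ρ, hρH⟩ rfl]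
      group
    have hy' : qq⁻¹ * x ^ 3 * qq ∈ S.R := S.conj_mem_R' hqH hx3R
    obtain ⟨m, hm, hm'⟩ := h.el_surj D hg hy'
    obtain ⟨n, hn⟩ := hcommR _ hr1 m hm (by
      rw [hm', mul_inv_cancel_left]; simp only [pow_succ, pow_zero, one_mul]; group)
    have hin : x ^ 3 ∈ S.Cy := by
      have : x ^ 3 = qq * c ^ n * qq⁻¹ := by rw [← hn, hm']; group
      rw [this]; exact S.conj_Cy (pow_mem hcC n) hqH
    exact S.mem_powers_Cy hcC hco hin
  -- the action on the cyclic centre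
  have hsc' : s⁻¹ * c * s = c⁻¹ := by rw [hcdef, hsdef, ← h.el_sx D hg0, hsc, h.el_iv D hg0]
  obtain ⟨m, hm'⟩ : ∃ m : ℕ, h1⁻¹ * c * h1 = c ^ m := by
    exact S.mem_powers_Cy hcC hco (by simpa using S.conj_Cy hcC (inv_mem h1H))
  have hinvC : h1⁻¹ * c * h1 = c⁻¹ := by
    have hxp : ∀ i, x⁻¹ * c ^ i * x = (c⁻¹) ^ (m * i) := by
      intro i
      calc x⁻¹ * c ^ i * x = s⁻¹ * (h1⁻¹ * c * h1) ^ i * s := by
            rw [hx]
            have e := conj_pow (i := i) (a := h1⁻¹) (b := c)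
            rw [inv_inv] at e
            rw [e]; group
        _ = (s⁻¹ * c * s) ^ (m * i) := by
            rw [hm', ← pow_mul]
            have e := conj_pow (i := m * i) (a := s⁻¹) (b := c)
            rw [inv_inv] at e
            rw [e]
        _ = _ := by rw [hsc']
    have h3 : (x ^ 3)⁻¹ * c * x ^ 3 = c := by
      rw [hn, mul_assoc, ← pow_succ', pow_succ, inv_mul_cancel_left]
    have hci : c⁻¹ = c ^ 3 := inv_eq_of_mul_eq_one_right (by rw [← pow_succ', hc4])
    have e : c ^ (27 * m * m * m) = c ^ 1 := by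
      rw [pow_one]
      calc c ^ (27 * m * m * m) = (x ^ 3)⁻¹ * c ^ 1 * x ^ 3 := by
            symm
            calc (x ^ 3)⁻¹ * c ^ 1 * x ^ 3 = x⁻¹ * (x⁻¹ * (x⁻¹ * c ^ 1 * x) * x) * x := by
                  simp only [pow_succ, pow_zero, one_mul]; group
              _ = c ^ (27 * m * m * m) := by
                  simp only [hxp, hci, ← pow_mul]
                  congr 1; ring
        _ = c := by rw [pow_one, h3]
    rw [pow_eq_pow_iff_modEq, hco] at e
    rw [hm', hci]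
    apply pow_eq_pow_iff_modEq.2
    rw [hco]
    have h4 : (27 * m * m * m) % 4 = 1 := e
    have h5 : (27 * (m % 4) * (m % 4) * (m % 4)) % 4 = 1 := by
      rw [← h4]; simp [Nat.mul_mod, Nat.mod_mod]
    have := Nat.mod_lt m (show 4 > 0 by norm_num)
    show m % 4 = 3 % 4
    interval_cases hm4 : m % 4 <;> simp_all
  -- the square
  obtain ⟨n2, hn2⟩ : ∃ n2 : ℕ, h1 * h1 = c ^ n2 := by
    have hR2 : h1 * h1 ∈ S.R := by
      refine (P.ker (⟨h1, h1H⟩ * ⟨h1, h1H⟩)).1 ?_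
      rw [map_mul, hP1]; exact x0_spec.1
    obtain ⟨m, hm, hm'⟩ := h.el_surj D hg hR2
    obtain ⟨n2, hn2⟩ := hcommR 1 (one_mem _) m hm (by
      rw [mul_one, hm']
      have e : ρ * h1 = h1 * ρ := by
        calc ρ * h1 = h1 * (h1⁻¹ * ρ * h1) := by group
          _ = h1 * ρ := by rw [h1ρ]
      rw [mul_assoc, ← e, ← mul_assoc, ← e, mul_assoc])
    exact ⟨n2, hm' ▸ hn2⟩
  have hn2even : h1 * h1 = 1 ∨ h1 * h1 = S.t := by
    have h2 : (c⁻¹) ^ n2 = c ^ n2 := by
      rw [← hinvC]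
      have e := conj_pow (i := n2) (a := h1⁻¹) (b := c)
      rw [inv_inv] at e
      rw [e, ← hn2]; group
    rw [inv_pow, inv_eq_iff_mul_eq_one, ← pow_add] at h2
    have hd := orderOf_dvd_of_pow_eq_one h2
    rw [hco] at hd
    rw [hn2, pow_eq_pow_mod n2 hc4]
    have hh : n2 % 4 = 0 ∨ n2 % 4 = 2 := by omega
    rcases hh with e | e <;> rw [e]
    · exact Or.inl (pow_zero c)
    · exact Or.inr (by rw [pow_two, hc2])
  -- the gauge
  set hh := h1 * c ^ (3 * n) with hhh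
  have hpc : ∀ i, h1⁻¹ * c ^ i * h1 = (c⁻¹) ^ i := fun i => by
    rw [← hinvC]
    have e := conj_pow (i := i) (a := h1⁻¹) (b := c)
    rw [inv_inv] at e
    rw [e]
  have hps : ∀ i, s⁻¹ * c ^ i * s = (c⁻¹) ^ i := fun i => by
    rw [← hsc']
    have e := conj_pow (i := i) (a := s⁻¹) (b := c)
    rw [inv_inv] at e
    rw [e]
  have hhH : hh ∈ S.H := mul_mem h1H (pow_mem (S.R_le_H hcR) _)
  have hsq : hh * hh = h1 * h1 := by
    calc hh * hh = h1 * h1 * (h1⁻¹ * c ^ (3 * n) * h1) * c ^ (3 * n) := by rw [hhh]; group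
      _ = h1 * h1 := by rw [hpc, inv_pow, inv_mul_cancel_right]
  have hcρ : c * ρ = ρ * c := by
    have e : T.sr (T.g 0) = T.g 0 := hfix
    have e2 := h.el_sr D hg0
    rw [e, ← hρdef, ← hcdef] at e2
    calc c * ρ = ρ * (ρ⁻¹ * c * ρ) := by group
      _ = ρ * c := by rw [← e2]
  have hhρ : hh⁻¹ * ρ * hh = ρ := by
    have hc' : Commute (c ^ (3 * n)) ρ := (show Commute c ρ from hcρ).pow_left _
    calc hh⁻¹ * ρ * hh = (c ^ (3 * n))⁻¹ * (h1⁻¹ * ρ * h1) * c ^ (3 * n) := by rw [hhh]; group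
      _ = ρ := by rw [h1ρ, mul_assoc, ← hc'.eq, inv_mul_cancel_left]
  have hhs : (hh * s) ^ 3 = 1 := by
    have e1 : hh * s = x * (c⁻¹) ^ (3 * n) := by
      rw [← hps, hhh, hx]; group
    have hxc : Commute x c := by
      have h' : x⁻¹ * c * x = c := by
        calc x⁻¹ * c * x = s⁻¹ * (h1⁻¹ * c * h1) * s := by rw [hx]; group
          _ = (s⁻¹ * c * s)⁻¹ := by rw [hinvC]; group
          _ = c := by rw [hsc', inv_inv]
      calc x * c = x * (x⁻¹ * c * x) := by rw [h']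
        _ = c * x := by group
    have hxc' : Commute x ((c⁻¹) ^ (3 * n)) := (hxc.inv_right).pow_right _
    rw [e1, hxc'.mul_pow, hn, ← pow_mul, inv_pow, mul_inv_eq_one, pow_eq_pow_mod n hc4,
      pow_eq_pow_mod (3 * n * 3) hc4]
    congr 1; omega
  have hchoose : ∀ i : ℕ, ∃ i', i' < 64 ∧ hh⁻¹ * T.el D i * hh = T.el D i' := fun i => by
    obtain ⟨j, hj, e⟩ := h.el_surj D hg (S.conj_mem_R' hhH (RTable.el_mem D hg i))
    exact ⟨j, hj, e.symm⟩
  choose al hal1 hal2 using hchoose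
  refine ⟨⟨P, hh, hhH, fun y hy => ?_, hsq ▸ hn2even, hhρ, hhs, al, fun i _ => hal1 i, fun i _ => hal2 i, ?_⟩⟩
  · have : y = ⟨h1, h1H⟩ * ⟨c, S.R_le_H hcR⟩ ^ (3 * n) := Subtype.ext hy
    rw [this, map_mul, map_pow, hP1, (P.ker ⟨c, S.R_le_H hcR⟩).2 hcR, one_pow, mul_one]
  · have hgg := h.mu _ hg0 _ hg0
    refine h.el_inj D (hal1 _) (h.mu _ hgg.1 _ hg0).1 ?_
    rw [← hal2, ← hcdef, ← h.el_mul D hgg.1 hg0, ← h.el_mul D hg0 hg0, ← hcdef]
    calc hh⁻¹ * c * hh = (c ^ (3 * n))⁻¹ * (h1⁻¹ * c * h1) * c ^ (3 * n) := by rw [hhh]; group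
      _ = c⁻¹ := by rw [hinvC]; group
      _ = c * c * c := by
        refine inv_eq_of_mul_eq_one_right ?_
        rw [← hc4]; simp only [pow_succ, pow_zero, one_mul, mul_assoc]

/-- The data on the outer element. -/
structure HFrame (S : Setting G) where
  D : Good S
  mem : ∀ w ∈ tabA.gens, D.F.evG w ∈ S.R
  P : Proj D
  h : G
  hH : h ∈ S.H
  ph : ∀ x : S.H, (x : G) = h → P.f x = x0
  sq : h * h = 1 ∨ h * h = S.t
  hρ : h⁻¹ * D.F.evG rhoW * h = D.F.evG rhoW
  hs : (h * D.F.evG sW) ^ 3 = 1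
  hal : ∀ i < 64, h⁻¹ * tabA.el D i * h = tabA.el D (alTrue.getD i 0)

theorem Good.cond_of_outer (D : Good S) {T : RTable} (h : T.OK) (hg : ∀ w ∈ T.gens, D.F.evG w ∈ S.R)
    (O : PreOuter D T) (e2 : T.g 2 = T.sr (T.g 1)) (e4 : T.g 4 = T.sr (T.g 3)) :
    T.cond (O.al (T.g 1)) (O.al (T.g 3)) = true ∧
      ∀ i < 64, T.fold (T.imOf (O.al (T.g 1)) (O.al (T.g 3))) i = O.al i := by
  have hgk : ∀ k, k < 5 → T.g k < 64 := fun k hk => (h.gen k hk).1
  have hsr : ∀ i < 64, O.al (T.sr i) = T.sr (O.al i) := fun i hi => by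
    refine h.el_inj D (O.al_lt _ (h.sr i hi).1) (h.sr _ (O.al_lt i hi)).1 ?_
    rw [← O.al_spec _ (h.sr i hi).1, h.el_sr D hi, h.el_sr D (O.al_lt i hi), ← O.al_spec i hi]
    have e : D.F.evG rhoW * O.h = O.h * D.F.evG rhoW := by
      calc D.F.evG rhoW * O.h = O.h * (O.h⁻¹ * D.F.evG rhoW * O.h) := by group
        _ = O.h * D.F.evG rhoW := by rw [O.hρ]
    calc O.h⁻¹ * ((D.F.evG rhoW)⁻¹ * T.el D i * D.F.evG rhoW) * O.h
        = (D.F.evG rhoW * O.h)⁻¹ * T.el D i * (D.F.evG rhoW * O.h) := by group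
      _ = (D.F.evG rhoW)⁻¹ * (O.h⁻¹ * T.el D i * O.h) * D.F.evG rhoW := by rw [e]; group
  set im := T.imOf (O.al (T.g 1)) (O.al (T.g 3)) with him'
  have him : ∀ k < 5, im.getD k 0 = O.al (T.g k) := by
    intro k hk
    interval_cases k
    · exact O.al_gen.symm
    · rfl
    · rw [e2, hsr _ (hgk 1 (by norm_num))]; rfl
    · rfl
    · rw [e4, hsr _ (hgk 3 (by norm_num))]; rfl
  have hfold : ∀ i < 64, T.fold im i = O.al i := fun i hi => D.mul_eq_map h O.al_lt O.al_spec him hi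
  have hmul : ∀ i < 64, ∀ j < 64, O.al (T.mu i j) = T.mu (O.al i) (O.al j) := fun i hi j hj => by
    refine h.el_inj D (O.al_lt _ (h.mu i hi j hj).1) (h.mu _ (O.al_lt i hi) _ (O.al_lt j hj)).1 ?_
    rw [← O.al_spec _ (h.mu i hi j hj).1, ← h.el_mul D hi hj, ← h.el_mul D (O.al_lt i hi) (O.al_lt j hj),
      ← O.al_spec i hi, ← O.al_spec j hj]
    group
  have hsq : ∀ i < 64, O.al (O.al i) = i := fun i hi => by
    refine h.el_inj D (O.al_lt _ (O.al_lt i hi)) hi ?_
    rw [← O.al_spec _ (O.al_lt i hi), ← O.al_spec i hi]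
    have hc : T.el D i * (O.h * O.h) = O.h * O.h * T.el D i := by
      rcases O.sq with e | e <;> rw [e]
      · simp
      · exact S.mem_H.1 (S.R_le_H (RTable.el_mem D hg i))
    calc O.h⁻¹ * (O.h⁻¹ * T.el D i * O.h) * O.h = (O.h * O.h)⁻¹ * (T.el D i * (O.h * O.h)) := by group
      _ = T.el D i := by rw [hc, inv_mul_cancel_left]
  have htw : ∀ i < 64, T.tw3 im i < 64 ∧
      (O.h * D.F.evG sW)⁻¹ * T.el D i * (O.h * D.F.evG sW) = T.el D (T.tw3 im i) := fun i hi => by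
    show T.sx (T.fold im i) < 64 ∧ _ = T.el D (T.sx (T.fold im i))
    rw [hfold i hi, h.el_sx D (O.al_lt i hi), ← O.al_spec i hi]
    exact ⟨(h.sx _ (O.al_lt i hi)).1, by group⟩
  refine ⟨?_, hfold⟩
  have hk13 : ∀ k ∈ [1, 3], k < 5 := by decide
  have hk24 : ∀ k ∈ [2, 4], k < 5 := by decide
  simp only [RTable.cond, ← him', Bool.and_eq_true, List.all_eq_true, List.mem_range, beq_iff_eq]
  refine ⟨fun k hk => ?_, fun j hj k hk => ?_, fun k hk => ?_, fun k hk => ?_, fun k hk => ?_⟩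
  · rw [hfold _ (h.mu _ (hgk k (hk13 k hk)) _ (hgk k (hk13 k hk))).1, him k (hk13 k hk),
      hmul _ (hgk k (hk13 k hk)) _ (hgk k (hk13 k hk))]
  · rw [hfold _ (h.mu _ (hgk j hj) _ (hgk k hk)).1, him k hk, him j hj, hmul _ (hgk j hj) _ (hgk k hk)]
  · have := hgk k (hk13 k hk)
    rw [hfold _ this, hfold _ (O.al_lt _ this), hsq _ this]
  · have h0 := hgk k (hk13 k hk)
    obtain ⟨a1, b1⟩ := htw _ h0
    obtain ⟨a2, b2⟩ := htw _ a1
    obtain ⟨a3, b3⟩ := htw _ a2
    refine h.el_inj D a3 h0 ?_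
    rw [← b3, ← b2, ← b1]
    calc (O.h * D.F.evG sW)⁻¹ * ((O.h * D.F.evG sW)⁻¹ * ((O.h * D.F.evG sW)⁻¹ * T.el D (T.g k) *
          (O.h * D.F.evG sW)) * (O.h * D.F.evG sW)) * (O.h * D.F.evG sW)
        = ((O.h * D.F.evG sW) ^ 3)⁻¹ * T.el D (T.g k) * (O.h * D.F.evG sW) ^ 3 := by
          simp only [pow_succ, pow_zero, one_mul, mul_inv_rev, mul_assoc]
      _ = T.el D (T.g k) := by rw [O.hs]; group
  · have := hgk k (hk24 k hk)
    rw [hfold _ (h.sr _ this).1, hfold _ this, hsr _ this]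

/-- The value of a letter after the change of frame. -/
def psiW (l : List ℕ) : List ℕ := l.flatMap fun z => psiLet.getD z []

theorem psi_ok : (decide (evM (psiW [6, 6]) = mone ∧ evM (psiW [8, 8, 8]) = mone) &&
    (decide (evM (psiW [6, 8, 6, 8, 6, 8, 6, 8, 6, 8, 6, 8, 6, 8]) = mone) &&
    (decide (evM (psiW [7, 9, 6, 8, 7, 9, 6, 8, 7, 9, 6, 8, 7, 9, 6, 8]) = mone) &&
    (decide ((evM (psiLet.getD 6 [])).1 = matA ∧ (evM (psiLet.getD 8 [])).1 = matB) &&
    (decide (evM (psiW rhoW) = evM rhoW ∧ evM (psiW sW) = evM sW) &&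
    ((List.range 64).all (fun i => decide (evM (psiW (tabA.word i)) = tabA.m (psiR.getD i 0))) &&
    (List.range 10).all (fun z => decide (evM (psiLet.getD z []) = evM (psiLet.getD z []) ∧
      (z < 6 → psiLet.getD z [] = [z]) ∧ (z % 2 = 1 → psiLet.getD z [] = winv (psiLet.getD (z - 1) [])) ∧
      (psiLet.getD z []).all (fun y => Nat.blt y 10) = true)))))))) = true := by decide +kernel

theorem alPsi_ok : alPsiOK = true := by decide +kernel

theorem exists_changed (D : Good S) (hg : ∀ w ∈ tabA.gens, D.F.evG w ∈ S.R) :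
    ∃ D' : Good S, (∀ l : List ℕ, (∀ z ∈ l, z < 10) → D'.F.evG l = D.F.evG (psiW l)) ∧ D'.F.a ∈ S.R := by
  have hok := psi_ok
  simp only [Bool.and_eq_true, decide_eq_true_eq, List.all_eq_true, List.mem_range, Nat.blt_eq] at hok
  obtain ⟨⟨k1, k2⟩, k3, k4, ⟨k5, k6⟩, -, -, k8⟩ := hok
  have hlt : ∀ l : List ℕ, (∀ z ∈ l, z < 10) → ∀ z ∈ psiW l, z < 10 := by
    intro l hl z hz
    obtain ⟨y, hy, hz⟩ := List.mem_flatMap.1 hz
    exact (k8 y (hl y hy)).2.2.2 z hz
  have happ : ∀ l k : List ℕ, psiW (l ++ k) = psiW l ++ psiW k := fun l k => List.flatMap_append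
  set a' := D.F.evG (psiW [6]) with ha'
  set b' := D.F.evG (psiW [8]) with hb'
  have hA : D.C.Acts a' matA := by
    have e : (evM (psiW [6])).1 = matA := by rw [psiW, List.flatMap_singleton]; exact k5
    rw [← e]; exact D.acts _ _ (D.F.acts_evG _)
  have hB : D.C.Acts b' matB := by
    have e : (evM (psiW [8])).1 = matB := by rw [psiW, List.flatMap_singleton]; exact k6
    rw [← e]; exact D.acts _ _ (D.F.acts_evG _)
  have one_of : ∀ l : List ℕ, (∀ z ∈ l, z < 10) → evM (psiW l) = mone → D.F.evG (psiW l) = 1 :=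
    fun l hl e => D.F.evG_eq_one _ (hlt l hl) e
  have ha2 : a' * a' = 1 := by rw [ha', ← Frame.evG_append, ← happ]; exact one_of _ (by decide) k1
  have hb3 : b' ^ 3 = 1 := by
    rw [pow_three', hb', ← Frame.evG_append, ← Frame.evG_append, ← happ, ← happ]
    exact one_of _ (by decide) k2
  let F0 := D.C.frameOf a' b' ha2 hb3 hA hB
  have hlet : ∀ z < 10, F0.letG z = D.F.evG (psiLet.getD z []) := by
    have hw : ∀ z < 6, F0.letG z = D.F.letG z := by
      intro z hz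
      have e0 : F0.w0 = D.F.w0 := by show D.C.φ _ = _; rw [← D.phi_eq, D.F.phi_e0]
      have e1 : F0.w1 = D.F.w1 := by show D.C.φ _ = _; rw [← D.phi_eq, D.F.phi_e1]
      have e2 : F0.w2 = D.F.w2 := by show D.C.φ _ = _; rw [← D.phi_eq, D.F.phi_e2]
      interval_cases z <;> simp only [Frame.letG, e0, e1, e2]
    intro z hz
    rcases Nat.lt_or_ge z 6 with h6 | h6
    · rw [(k8 z hz).2.1 h6, hw z h6]; simp [Frame.evG]
    have hinv : ∀ y, z = y + 1 → y % 2 = 0 → D.F.evG (psiLet.getD z []) = (D.F.evG (psiLet.getD y []))⁻¹ := by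
      intro y hy hy2
      rw [(k8 z hz).2.2.1 (by omega), show z - 1 = y by omega]
      exact D.evG_winv (fun x hx => (k8 y (by omega)).2.2.2 x hx)
    have h6' : D.F.evG (psiLet.getD 6 []) = a' := by rw [ha', psiW, List.flatMap_singleton]
    have h8' : D.F.evG (psiLet.getD 8 []) = b' := by rw [hb', psiW, List.flatMap_singleton]
    interval_cases z
    · exact h6'.symm
    · rw [hinv 6 rfl rfl, h6']; rfl
    · exact h8'.symm
    · rw [hinv 8 rfl rfl, h8']; rfl
  have hev : ∀ l : List ℕ, (∀ z ∈ l, z < 10) → F0.evG l = D.F.evG (psiW l) := by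
    intro l hl
    induction l with
    | nil => rfl
    | cons z l ih =>
      show F0.letG z * F0.evG l = _
      rw [ih fun y hy => hl y (List.mem_cons_of_mem z hy), hlet z (hl z List.mem_cons_self), ← Frame.evG_append]
      rfl
  have haR : a' ∈ S.R := by
    have hk : D.F.evG [6] ∈ S.R := hg [6] (by decide +kernel)
    have e : psiW [6] = [6, 0, 0] := by decide
    rw [ha', e, show ([6, 0, 0] : List ℕ) = [6] ++ [0, 0] from rfl, Frame.evG_append]
    refine mul_mem hk ?_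
    rw [D.F.evG_split [0, 0], D.phi_eq]
    exact mul_mem (one_mem _) ((D.C.mem_R_iff _).2 (by decide))
  refine ⟨⟨D.C, ⟨F0, ?_, ?_⟩, D.C.frameOf_phi a' b' ha2 hb3 hA hB, S.R_le_M haR,
    D.evG_mem _, Or.inl haR⟩, hev, haR⟩
  · rw [← one_of [6, 8, 6, 8, 6, 8, 6, 8, 6, 8, 6, 8, 6, 8] (by decide) k3, ← hev _ (by decide)]
    simp only [Frame.evG, Frame.letG, pow_succ, pow_zero, one_mul, mul_one, mul_assoc]
  · rw [← one_of [7, 9, 6, 8, 7, 9, 6, 8, 7, 9, 6, 8, 7, 9, 6, 8] (by decide) k4, ← hev _ (by decide)]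
    simp only [Frame.evG, Frame.letG, pow_succ, pow_zero, one_mul, mul_one, mul_assoc]

theorem Setting.exists_hframe (S : Setting G) : Nonempty (HFrame S) := by
  obtain ⟨D⟩ := S.exists_good
  rcases D.mem_R_table with hg | hg
  swap
  · exfalso
    obtain ⟨O⟩ := D.exists_preOuter tabB_ok hg tabB_lift
    have hc := (D.cond_of_outer tabB_ok hg O (by decide +kernel) (by decide +kernel)).1
    have hall := tabB_cond
    simp only [List.all_eq_true, List.mem_range, Bool.not_eq_true'] at hall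
    have h2 := hall _ (O.al_lt _ (tabB_ok.gen 1 (by norm_num)).1) _ (O.al_lt _ (tabB_ok.gen 3 (by norm_num)).1)
    rw [hc] at h2
    exact Bool.noConfusion h2
  obtain ⟨O⟩ := D.exists_preOuter tabA_ok hg tabA_lift
  obtain ⟨hc, hfold⟩ := D.cond_of_outer tabA_ok hg O (by decide +kernel) (by decide +kernel)
  have hall := tabA_cond
  simp only [List.all_eq_true, List.mem_range, Bool.or_eq_true, Bool.and_eq_true, Bool.not_eq_true',
    beq_iff_eq] at hall
  rcases (hall _ (O.al_lt _ (tabA_ok.gen 1 (by norm_num)).1) _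
      (O.al_lt _ (tabA_ok.gen 3 (by norm_num)).1)).resolve_left (by rw [hc]; exact Bool.noConfusion) with
    ⟨eA, eV⟩ | ⟨eA, eV⟩ <;> rw [eA, eV] at hfold
  · have ht := tabA_true
    simp only [List.all_eq_true, List.mem_range, Bool.and_eq_true, Nat.blt_eq, beq_iff_eq] at ht
    exact ⟨⟨D, hg, O.P, O.h, O.hH, O.ph, O.sq, O.hρ, O.hs,
      fun i hi => by rw [O.al_spec i hi, ← hfold i hi, (ht i hi).2]⟩⟩
  · obtain ⟨D', hev, haR⟩ := exists_changed D hg
    have hok := psi_ok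
    simp only [Bool.and_eq_true, decide_eq_true_eq, List.all_eq_true, List.mem_range, Nat.blt_eq] at hok
    obtain ⟨-, -, -, -, ⟨k9, k10⟩, k7, k8⟩ := hok
    have hlt : ∀ l : List ℕ, (∀ z ∈ l, z < 10) → ∀ z ∈ psiW l, z < 10 := by
      intro l hl z hz
      obtain ⟨y, hy, hz⟩ := List.mem_flatMap.1 hz
      exact (k8 y (hl y hy)).2.2.2 z hz
    have hρ : D'.F.evG rhoW = D.F.evG rhoW := by
      rw [hev _ rhoW_lt]; exact D.F.evG_eq _ _ (hlt _ rhoW_lt) rhoW_lt k9
    have hs : D'.F.evG sW = D.F.evG sW := by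
      rw [hev _ sW_lt]; exact D.F.evG_eq _ _ (hlt _ sW_lt) sW_lt k10
    have hel : ∀ i < 64, tabA.el D' i = tabA.el D (psiR.getD i 0) := by
      intro i hi
      have hp := alPsi_ok
      simp only [alPsiOK, List.all_eq_true, List.mem_range, Bool.and_eq_true, Nat.blt_eq] at hp
      rw [RTable.el, hev _ (tabA_ok.word_lt i), RTable.el]
      exact D.F.evG_eq _ _ (hlt _ (tabA_ok.word_lt i)) (tabA_ok.word_lt _)
        ((k7 i hi).trans (tabA_ok.val _ (hp i hi).1).symm)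
    have ht := tabA_other
    have htt := tabA_true
    have hp := alPsi_ok
    simp only [List.all_eq_true, List.mem_range, beq_iff_eq] at ht
    simp only [List.all_eq_true, List.mem_range, Bool.and_eq_true, Nat.blt_eq] at htt
    simp only [alPsiOK, List.all_eq_true, List.mem_range, Bool.and_eq_true, Nat.blt_eq, beq_iff_eq] at hp
    refine ⟨⟨D', ?_, ⟨O.P.f, O.P.surj, O.P.ker, fun x hx => O.P.rho x (hx.trans hρ),
      fun x hx => O.P.s x (hx.trans hs)⟩, O.h, O.hH, O.ph, O.sq, by rw [hρ]; exact O.hρ,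
      by rw [hs]; exact O.hs, fun i hi => ?_⟩⟩
    · intro w hw
      obtain ⟨k, hk, rfl⟩ := List.getElem_of_mem hw
      have hk5 : k < 5 := by rwa [tabA_ok.len] at hk
      rw [← List.getD_eq_getElem _ [] hk, ← tabA_ok.el_gen D' hk5, hel _ (tabA_ok.gen k hk5).1]
      exact RTable.el_mem D hg _
    · rw [hel i hi, hel _ (htt i hi).1, O.al_spec _ (hp i hi).1, ← hfold _ (hp i hi).1, ht _ (hp i hi).1,
        (hp i hi).2]

end Cfsg.Agent.HSType
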