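/-
An elementary subgroup of order sixteen of `M` normalised by the outer element.
Main definitions: `uEl`, `hP`, `mP`.
Main results: `HFrame.h_sq`, `HFrame.conj_u`, `HFrame.eq_uEl_of_centralizes`, `HFrame.pow_five_eq_one`.
-/
import Cfsg.Agent.Lib.HSType.Outer

set_option autoImplicit false
set_option maxRecDepth 100000
set_option Elab.async false
set_option synthInstance.maxSize 4096
set_option linter.unusedSectionVars false

namespace Cfsg.Agent.HSType

open Equiv

/-- A word with the image of `uW` modulo the radical. -/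
def uRep : List ℕ :=
  rhoW ++ sW ++ rhoW ++ rhoW ++ sW ++ rhoW ++ sW

/-- Conjugation by the involution `uW` on the radical. -/
def uA (i : ℕ) : ℕ :=
  (List.range 64).findIdx fun j => decide (mmul (mmul (evM (winv uW)) (tabA.m i)) (evM uW) = tabA.m j)

theorem uA_ok : ((List.range 64).all fun i => Nat.blt (uA i) 64 &&
    decide (mmul (mmul (evM (winv uW)) (tabA.m i)) (evM uW) = tabA.m (uA i))) = true := by decide +kernel

/-- The equations forced on the commutator of `uW` with the outer element. -/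
def forcedB (r : ℕ) : Bool :=
  let al := fun i => alTrue.getD i 0
  ((List.range 64).all fun i =>
      tabA.mu (tabA.mu (tabA.iv r) (uA (al i))) r == al (uA i)) &&
    (tabA.mu (tabA.mu r (al 27)) (al (tabA.sx r)) == tabA.mu (tabA.mu 27 (tabA.sx r)) (tabA.sx (al 27)))

theorem forcedB_only : ((List.range 64).all fun r => !forcedB r || Nat.beq r tabA.t) = true := by decide +kernel

theorem u_facts : tabA.inB (winv uRep ++ uW) = true ∧ evM (sW ++ sW) = mone ∧ evM (uW ++ uW) = mone ∧
    evM (winv sW ++ uW ++ sW) = evM (uW ++ tabA.word 27) ∧ app (evM uRep).1 (0, 2, 0) = (0, 2, 0) ∧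
    app (evM uW).1 (0, 2, 0) = (0, 2, 0) ∧ (∀ z ∈ uRep, z < 10) := by decide +kernel

theorem swap_facts : r0 * s0 * r0 * r0 * s0 * r0 * s0 = swap 2 3 ∧
    (swap 2 3)⁻¹ * (x0⁻¹ * swap (2 : Fin 5) 3 * x0) = 1 := by decide +kernel

/-- The words of the subgroup of order sixteen. -/
def uWord (j : ℕ) : List ℕ :=
  (bif (uList.getD j (0, 0)).1 == 1 then uW else []) ++ tabA.word (uList.getD j (0, 0)).2

/-- The action of the outer element on the sixteen elements. -/
def hP (j : ℕ) : ℕ :=
  let e := (uList.getD j (0, 0)).1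
  let k := alTrue.getD (uList.getD j (0, 0)).2 0
  uList.idxOf (e, bif e == 1 then tabA.mu tabA.t k else k)

theorem uWord_ok : ((List.range 16).all fun j =>
    Nat.blt (uList.getD j (0, 0)).2 64 && ((uList.getD j (0, 0)).1 == 0 || (uList.getD j (0, 0)).1 == 1) &&
    ((uWord j).all (fun z => Nat.blt z 10) && (Nat.blt (hP j) 16 &&
    ((uList.getD (hP j) (0, 0)) == ((uList.getD j (0, 0)).1,
      bif (uList.getD j (0, 0)).1 == 1 then tabA.mu tabA.t (alTrue.getD (uList.getD j (0, 0)).2 0)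
      else alTrue.getD (uList.getD j (0, 0)).2 0) &&
    ((List.range 16).all fun i => i == j || decide (evM (uWord i) ≠ evM (uWord j))))))) = true := by
  decide +kernel

/-- The action of a word of `M` on the sixteen elements. -/
def mP (m : List ℕ) (j : ℕ) : ℕ :=
  (List.range 16).findIdx fun i => decide (evM (winv m ++ uWord j ++ m) = evM (uWord i))

/-- A word of `M` normalises the sixteen elements. -/
def mOK (m : List ℕ) : Bool :=
  m.all (fun z => Nat.blt z 10) && (List.range 16).all fun j =>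
    Nat.blt (mP m j) 16 && decide (evM (winv m ++ uWord j ++ m) = evM (uWord (mP m j)))

/-- The coset representatives of the centralizer of a transposition. -/
def dList : List (List Bool) :=
  [[], [false], [true], [false, true], [true, false], [false, true, false]]

/-- Conjugation by a representative on the radical. -/
def dA (l : List Bool) (i : ℕ) : ℕ :=
  l.foldl (fun r b => bif b then alTrue.getD r 0 else tabA.sx r) i

/-- Only the sixteen elements centralise them. -/
def centOK : Bool :=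
  [false, true].all fun e => dList.all fun l => (List.range 64).all fun k =>
    !([0, 3, 17, 18, 21, 23, 25, 27].all fun i =>
        tabA.mu (tabA.mu (tabA.iv k) (dA l (bif e then uA i else i))) k == i) ||
      (l.isEmpty && (!decide (evM (uW ++ ((bif e then uW else []) ++ tabA.word k)) =
          evM ((bif e then uW else []) ++ tabA.word k ++ uW)) ||
        uList.contains (bif e then 1 else 0, k)))

theorem cent_ok : centOK = true := by decide +kernel

theorem uList_facts : uList.length = 16 ∧ uWord 0 = [] ∧ tabA.t < 64 ∧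
    (uList.getD (uList.idxOf (1, 0)) (0, 0) = (1, 0) ∧ uList.idxOf (1, 0) < 16) ∧
    evM (uWord (uList.idxOf (1, 0))) = evM uW ∧
    ∀ i ∈ [0, 3, 17, 18, 21, 23, 25, 27], i < 64 ∧ uList.idxOf (0, i) < 16 ∧
      uList.getD (uList.idxOf (0, i)) (0, 0) = (0, i) := by decide +kernel

theorem al_lt : ((List.range 64).all fun i => Nat.blt (alTrue.getD i 0) 64) = true := by decide +kernel

variable {G : Type*} [Group G] [Finite G] {S : Setting G}

namespace HFrame

variable (E : HFrame S)

theorem al_lt' {i : ℕ} (hi : i < 64) : alTrue.getD i 0 < 64 := by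
  have h := al_lt
  simp only [List.all_eq_true, List.mem_range, Nat.blt_eq] at h
  exact h i hi

theorem evG_eq {l k : List ℕ} (hl : ∀ z ∈ l, z < 10) (hk : ∀ z ∈ k, z < 10) (h : evM l = evM k) :
    E.D.F.evG l = E.D.F.evG k :=
  E.D.F.evG_eq l k hl hk h

/-- The image of a word of `M ∩ H`. -/
theorem s_mem : E.D.F.evG sW ∈ S.H := E.D.evG_mem_H s_fix

theorem rho_mem : E.D.F.evG rhoW ∈ S.H := E.D.evG_mem_H rho_fix

theorem u_mem : E.D.F.evG uW ∈ S.H := E.D.evG_mem_H u_facts.2.2.2.2.2.1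

theorem uW_lt' : ∀ z ∈ uW, z < 10 := uW_lt

theorem s_sq : E.D.F.evG sW * E.D.F.evG sW = 1 := by
  rw [← Frame.evG_append]
  exact E.D.F.evG_eq_one _ (lt10_append sW_lt sW_lt) u_facts.2.1

/-- The outer element is an involution. -/
theorem h_sq : E.h * E.h = 1 := by
  refine E.sq.resolve_right fun e => S.t_ne ?_
  set s := E.D.F.evG sW with hsd
  have hss : s * s = 1 := E.s_sq
  have hts : s * S.t = S.t * s := S.mem_H.1 E.s_mem
  have hth : E.h * S.t = S.t * E.h := S.mem_H.1 E.hH
  have h3 := E.hs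
  rw [pow_three'] at h3
  set x := E.h * s * E.h * (E.h * s)⁻¹ with hx
  have h2 : x * x = S.t := by
    have : x * x = E.h * s * (E.h * E.h) * (E.h * s)⁻¹ := by rw [hx]; group
    rw [this, e, mul_assoc E.h, hts, ← mul_assoc, hth]
    group
  have hsi : s⁻¹ = s := inv_eq_of_mul_eq_one_right hss
  have h4 : x = s * S.t := by
    have h5 : E.h * s * E.h * s = (E.h * s)⁻¹ := eq_inv_of_mul_eq_one_left (by rw [← h3, hsd]; group)
    calc x = E.h * s * E.h * s⁻¹ * E.h⁻¹ := by rw [hx]; group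
      _ = (E.h * s)⁻¹ * E.h⁻¹ := by rw [hsi, h5]
      _ = s⁻¹ * (E.h * E.h)⁻¹ := by group
      _ = s * S.t := by rw [hsi, e, inv_eq_of_mul_eq_one_right S.t_sq]
  rw [h4] at h2
  calc S.t = s * S.t * (s * S.t) := h2.symm
    _ = s * (S.t * s) * S.t := by group
    _ = s * s * (S.t * S.t) := by rw [← hts]; group
    _ = 1 := by rw [hss, S.t_sq, mul_one]

theorem f_u : ∀ x : S.H, (x : G) = E.D.F.evG uW → E.P.f x = swap 2 3 := by
  intro x hx
  obtain ⟨k1, -, -, -, k5, -, k7⟩ := u_facts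
  let r : S.H := ⟨_, E.rho_mem⟩
  let s : S.H := ⟨_, E.s_mem⟩
  let w : S.H := r * s * r * r * s * r * s
  have hw : (w : G) = E.D.F.evG uRep := by
    simp only [w, r, s, uRep, Frame.evG_append, Subgroup.coe_mul]
  have hk : E.P.f (w⁻¹ * x) = 1 := by
    refine (E.P.ker _).2 ?_
    have := E.D.mem_of_inB tabA_ok E.mem k1
    rwa [Frame.evG_append, E.D.evG_winv k7, ← hw, ← hx, ← Subgroup.coe_inv, ← Subgroup.coe_mul] at this
  rw [map_mul, map_inv, inv_mul_eq_one] at hk
  rw [← hk, ← swap_facts.1]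
  simp only [w, map_mul, E.P.rho r rfl, E.P.s s rfl]

theorem conj_uA {i : ℕ} (hi : i < 64) : uA i < 64 ∧
    (E.D.F.evG uW)⁻¹ * tabA.el E.D i * E.D.F.evG uW = tabA.el E.D (uA i) := by
  have h := uA_ok
  simp only [List.all_eq_true, List.mem_range, Bool.and_eq_true, Nat.blt_eq, decide_eq_true_eq] at h
  obtain ⟨h1, h2⟩ := h i hi
  refine ⟨h1, ?_⟩
  rw [← E.D.evG_winv uW_lt, RTable.el, RTable.el, ← Frame.evG_append, ← Frame.evG_append]
  refine E.evG_eq (lt10_append (lt10_append (winv_lt uW_lt) (tabA_ok.word_lt i)) uW_lt) (tabA_ok.word_lt _) ?_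
  rw [evM_append, evM_append, tabA_ok.val i hi, tabA_ok.val _ h1, h2]

/-- The outer element multiplies the involution by `t`. -/
theorem conj_u : E.h⁻¹ * E.D.F.evG uW * E.h = E.D.F.evG uW * S.t := by
  set u := E.D.F.evG uW with hu
  set s := E.D.F.evG sW with hsd
  let uH : S.H := ⟨u, E.u_mem⟩
  let hH : S.H := ⟨E.h, E.hH⟩
  have hfu := E.f_u uH rfl
  have hfh := E.ph hH rfl
  have hR : u⁻¹ * (E.h⁻¹ * u * E.h) ∈ S.R := by
    have := (E.P.ker (uH⁻¹ * (hH⁻¹ * uH * hH))).1 (by
      simp only [map_mul, map_inv, hfu, hfh, swap_facts.2])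
    simpa using this
  obtain ⟨r, hr, he⟩ := RTable.OK.el_surj E.D tabA_ok E.mem hR
  have hK : E.h⁻¹ * u * E.h = u * tabA.el E.D r := by rw [he, mul_inv_cancel_left]
  have k := E.hal
  have ok := tabA_ok
  set al := fun i => alTrue.getD i 0 with hald
  have hi : E.h⁻¹ = E.h := inv_eq_of_mul_eq_one_right E.h_sq
  have hsi : s⁻¹ = s := inv_eq_of_mul_eq_one_right E.s_sq
  have hb : forcedB r = true := by
    simp only [forcedB, Bool.and_eq_true, List.all_eq_true, List.mem_range, beq_iff_eq]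
    refine ⟨fun i hi' => ?_, ?_⟩
    · obtain ⟨a1, a2⟩ := E.conj_uA hi'
      obtain ⟨b1, b2⟩ := E.conj_uA (al_lt' hi')
      have c1 := (ok.iv r hr).1
      refine ok.el_inj E.D (ok.mu _ (ok.mu _ c1 _ b1).1 _ hr).1 (al_lt' a1) ?_
      rw [← ok.el_mul E.D (ok.mu _ c1 _ b1).1 hr, ← ok.el_mul E.D c1 b1, ok.el_iv E.D hr, ← b2,
        ← k i hi', ← k _ a1, ← a2]
      calc (tabA.el E.D r)⁻¹ * (u⁻¹ * (E.h⁻¹ * tabA.el E.D i * E.h) * u) * tabA.el E.D r
          = (u * tabA.el E.D r)⁻¹ * (E.h⁻¹ * tabA.el E.D i * E.h) * (u * tabA.el E.D r) := by group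
        _ = E.h⁻¹ * (u⁻¹ * tabA.el E.D i * u) * E.h := by rw [← hK]; group
    · have hp : (27 : ℕ) < 64 := by norm_num
      have hp' : alTrue.getD 27 0 < 64 := al_lt' hp
      have d1 := (ok.sx r hr).1
      have d2 := al_lt' d1
      have d3 := (ok.sx _ hp').1
      refine ok.el_inj E.D (ok.mu _ (ok.mu _ hr _ hp').1 _ d2).1 (ok.mu _ (ok.mu _ hp _ d1).1 _ d3).1 ?_
      rw [← ok.el_mul E.D (ok.mu _ hr _ hp').1 d2, ← ok.el_mul E.D hr hp',
        ← ok.el_mul E.D (ok.mu _ hp _ d1).1 d3, ← ok.el_mul E.D hp d1, ok.el_sx E.D hp', ← k _ hp, ← k _ d1,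
        ok.el_sx E.D hr]
      have hus : s⁻¹ * u * s = u * tabA.el E.D 27 := by
        rw [hu, hsd, RTable.el, ← E.D.evG_winv sW_lt, ← Frame.evG_append, ← Frame.evG_append, ← Frame.evG_append]
        exact E.evG_eq (lt10_append (lt10_append (winv_lt sW_lt) uW_lt) sW_lt)
          (lt10_append uW_lt (ok.word_lt _)) u_facts.2.2.2.1
      set p := tabA.el E.D 27
      set q := tabA.el E.D r
      have h3 := E.hs
      rw [pow_three'] at h3
      have hbr : E.h * s * E.h = s * E.h * s := by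
        calc E.h * s * E.h = (E.h * s * (E.h * s) * (E.h * s)) * (s⁻¹ * E.h⁻¹ * s⁻¹) := by group
          _ = s * E.h * s := by rw [h3, one_mul, hi, hsi]
      have key : u * (q * (E.h⁻¹ * p * E.h) * (E.h⁻¹ * (s⁻¹ * q * s) * E.h)) =
          u * (p * (s⁻¹ * q * s) * (s⁻¹ * (E.h⁻¹ * p * E.h) * s)) := by
        calc u * (q * (E.h⁻¹ * p * E.h) * (E.h⁻¹ * (s⁻¹ * q * s) * E.h))
            = (u * q) * E.h⁻¹ * (p * (s⁻¹ * q * s)) * E.h := by group
          _ = E.h⁻¹ * (u * p) * (s⁻¹ * q * s) * E.h := by rw [← hK]; group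
          _ = E.h⁻¹ * s⁻¹ * (u * q) * s * E.h := by rw [← hus]; group
          _ = (E.h * s * E.h)⁻¹ * u * (E.h * s * E.h) := by rw [← hK]; group
          _ = (s * E.h * s)⁻¹ * u * (s * E.h * s) := by rw [hbr]
          _ = s⁻¹ * E.h⁻¹ * (u * p) * E.h * s := by rw [← hus]; group
          _ = s⁻¹ * (u * q * (E.h⁻¹ * p * E.h)) * s := by rw [← hK]; group
          _ = (u * p) * (s⁻¹ * q * s) * (s⁻¹ * (E.h⁻¹ * p * E.h) * s) := by rw [← hus]; group
          _ = _ := by group
      exact mul_left_cancel key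
  have hall := forcedB_only
  simp only [List.all_eq_true, List.mem_range, Bool.or_eq_true, Bool.not_eq_true', Nat.beq_eq] at hall
  rcases hall r hr with h0 | h0
  · rw [hb] at h0; exact Bool.noConfusion h0
  · rw [hK, h0, ok.el_t]

end HFrame

/-- The sixteen elements. -/
def uEl (D : Good S) (j : ℕ) : G := D.F.evG (uWord j)

theorem uWord_lt {j : ℕ} (hj : j < 16) : ∀ z ∈ uWord j, z < 10 := by
  have h := uWord_ok
  simp only [List.all_eq_true, List.mem_range, Bool.and_eq_true, Nat.blt_eq] at h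
  exact (h j hj).2.1

theorem uEl_inj (D : Good S) {i j : ℕ} (hi : i < 16) (hj : j < 16) (e : uEl D i = uEl D j) : i = j := by
  have h := uWord_ok
  simp only [List.all_eq_true, List.mem_range, Bool.and_eq_true, Bool.or_eq_true, decide_eq_true_eq,
    beq_iff_eq] at h
  exact ((h j hj).2.2.2.2 i hi).resolve_right fun hne => hne (D.evM_eq (uWord_lt hi) (uWord_lt hj) e)

theorem uEl_zero (D : Good S) {i : ℕ} (hi : uList.getD i (0, 0) = (0, (uList.getD i (0, 0)).2)) :
    uEl D i = tabA.el D (uList.getD i (0, 0)).2 := by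
  rw [uEl, uWord, hi]; rfl

theorem conj_mP (D : Good S) {m : List ℕ} (hm : mOK m = true) {j : ℕ} (hj : j < 16) :
    mP m j < 16 ∧ (D.F.evG m)⁻¹ * uEl D j * D.F.evG m = uEl D (mP m j) := by
  simp only [mOK, Bool.and_eq_true, List.all_eq_true, List.mem_range, Nat.blt_eq, decide_eq_true_eq] at hm
  obtain ⟨hl, hm⟩ := hm
  refine ⟨(hm j hj).1, ?_⟩
  rw [← D.evG_winv hl, uEl, uEl, ← Frame.evG_append, ← Frame.evG_append]
  exact D.F.evG_eq _ _ (lt10_append (lt10_append (winv_lt hl) (uWord_lt hj)) hl)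
    (uWord_lt (hm j hj).1) (hm j hj).2

namespace HFrame

variable (E : HFrame S)

theorem conj_hP {j : ℕ} (hj : j < 16) :
    hP j < 16 ∧ E.h⁻¹ * uEl E.D j * E.h = uEl E.D (hP j) := by
  have h := uWord_ok
  simp only [List.all_eq_true, List.mem_range, Bool.and_eq_true, Bool.or_eq_true, Nat.blt_eq, beq_iff_eq] at h
  obtain ⟨⟨h1, h2⟩, -, h4, h5, -⟩ := h j hj
  refine ⟨h4, ?_⟩
  rw [uEl, uEl, uWord, uWord, h5]
  set k := (uList.getD j (0, 0)).2
  rcases h2 with e | e <;> rw [e]
  · simpa [RTable.el] using E.hal k h1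
  · simp only [beq_self_eq_true, cond_true, Frame.evG_append]
    rw [show E.D.F.evG (tabA.word k) = tabA.el E.D k from rfl,
      show E.D.F.evG (tabA.word _) = tabA.el E.D _ from rfl,
      ← tabA_ok.el_mul E.D uList_facts.2.2.1 (al_lt' h1), tabA_ok.el_t, ← mul_assoc (E.D.F.evG uW),
      ← E.conj_u, ← E.hal k h1]
    group

/-- A representative. -/
def dEl (l : List Bool) : G := (l.map fun b => bif b then E.h else E.D.F.evG sW).prod

theorem dA_spec : ∀ (l : List Bool) {i : ℕ}, i < 64 →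
    dA l i < 64 ∧ (E.dEl l)⁻¹ * tabA.el E.D i * E.dEl l = tabA.el E.D (dA l i)
  | [], i, hi => ⟨hi, by simp [dEl, dA]⟩
  | b :: l, i, hi => by
    have hstep : dA [b] i < 64 ∧ (bif b then E.h else E.D.F.evG sW)⁻¹ * tabA.el E.D i *
        (bif b then E.h else E.D.F.evG sW) = tabA.el E.D (dA [b] i) := by
      cases b
      · exact ⟨(tabA_ok.sx i hi).1, (tabA_ok.el_sx E.D hi).symm⟩
      · exact ⟨al_lt' hi, E.hal i hi⟩
    obtain ⟨a1, a2⟩ := hstep
    obtain ⟨b1, b2⟩ := dA_spec l a1
    refine ⟨b1, ?_⟩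
    show _ = tabA.el E.D (dA l (dA [b] i))
    rw [← b2, ← a2, dEl, List.map_cons, List.prod_cons]
    simp only [dEl]
    group

theorem exists_rep {x : S.H} (hc : E.P.f x * swap 2 3 = swap 2 3 * E.P.f x) :
    ∃ e : Bool, ∃ l ∈ dList, ∃ k < 64, (x : G) = (bif e then E.D.F.evG uW else 1) * E.dEl l * tabA.el E.D k := by
  obtain ⟨e, he⟩ := centralizer_swap _ hc
  let dH : Bool → S.H := fun b => bif b then ⟨E.h, E.hH⟩ else ⟨_, E.s_mem⟩
  have hf : ∀ b, E.P.f (dH b) = bif b then x0 else s0 := by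
    rintro (_ | _)
    · exact E.P.s _ rfl
    · exact E.ph _ rfl
  have hl : ∃ l ∈ dList, E.P.f x = (bif e then swap 2 3 else 1) * (l.map fun b => E.P.f (dH b)).prod := by
    rcases he with h | h | h | h | h | h
    · exact ⟨[], by decide, by simpa using h⟩
    · exact ⟨[false], by decide, by simpa [hf] using h⟩
    · exact ⟨[true], by decide, by simpa [hf] using h⟩
    · exact ⟨[false, true], by decide, by simpa [hf, mul_assoc] using h⟩
    · exact ⟨[true, false], by decide, by simpa [hf, mul_assoc] using h⟩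
    · exact ⟨[false, true, false], by decide, by simpa [hf, mul_assoc] using h⟩
  obtain ⟨l, hl, hx⟩ := hl
  let c : S.H := bif e then ⟨_, E.u_mem⟩ else 1
  let d : S.H := (l.map dH).prod
  have hfc : E.P.f c = bif e then swap 2 3 else 1 := by
    cases e
    · exact map_one _
    · exact E.f_u _ rfl
  have hcd : E.P.f (c * d) = E.P.f x := by
    rw [hx, map_mul, hfc, map_list_prod, List.map_map]
    rfl
  have hR := (E.P.ker ((c * d)⁻¹ * x)).1 (by rw [map_mul, map_inv, hcd, inv_mul_cancel])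
  obtain ⟨k, hk, hek⟩ := RTable.OK.el_surj E.D tabA_ok E.mem hR
  refine ⟨e, l, hl, k, hk, ?_⟩
  have hd : (d : G) = E.dEl l := by
    rw [← Subgroup.coe_subtype, map_list_prod, List.map_map, dEl]
    congr 1
    exact List.map_congr_left fun b _ => by cases b <;> rfl
  have hcv : (c : G) = bif e then E.D.F.evG uW else 1 := by cases e <;> rfl
  rw [hek, ← hd, ← hcv]
  push_cast
  group

/-- The centralizer of the sixteen elements consists of them. -/
theorem eq_uEl_of_centralizes {x : G} (hx : ∀ j < 16, x * uEl E.D j = uEl E.D j * x) :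
    ∃ j < 16, x = uEl E.D j := by
  obtain ⟨hlen, -, htlt, ⟨hu10, hu10'⟩, hu, hUR⟩ := uList_facts
  have hel : ∀ i ∈ [0, 3, 17, 18, 21, 23, 25, 27], x * tabA.el E.D i = tabA.el E.D i * x := by
    intro i hi
    obtain ⟨-, h2, h3⟩ := hUR i hi
    have := hx _ h2
    rwa [uEl_zero E.D (by rw [h3]), h3] at this
  have hxu : x * E.D.F.evG uW = E.D.F.evG uW * x := by
    have := hx _ hu10'
    rwa [uEl, E.evG_eq (uWord_lt hu10') uW_lt hu] at this
  have hxH : x ∈ S.H := by
    have := hel 25 (by decide)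
    rw [show (25 : ℕ) = tabA.t from rfl, tabA_ok.el_t] at this
    exact S.mem_H.2 this
  obtain ⟨e, l, hl, k, hk, he⟩ := E.exists_rep (x := ⟨x, hxH⟩) (by
    have := congrArg E.P.f (Subtype.ext hxu : (⟨x, hxH⟩ : S.H) * ⟨_, E.u_mem⟩ = ⟨_, E.u_mem⟩ * ⟨x, hxH⟩)
    rwa [map_mul, map_mul, E.f_u ⟨_, E.u_mem⟩ rfl] at this)
  dsimp only at he
  have hc := cent_ok
  simp only [centOK, List.all_eq_true, Bool.or_eq_true, Bool.not_eq_true', Bool.and_eq_true,
    List.mem_range, decide_eq_false_iff_not] at hc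
  have hfix : ([0, 3, 17, 18, 21, 23, 25, 27].all fun i =>
      tabA.mu (tabA.mu (tabA.iv k) (dA l (bif e then uA i else i))) k == i) = true := by
    simp only [List.all_eq_true, beq_iff_eq]
    intro i hi
    have hi64 := (hUR i hi).1
    set i' := bif e then uA i else i with hi'
    have hd : i' < 64 ∧ (bif e then E.D.F.evG uW else 1)⁻¹ * tabA.el E.D i * (bif e then E.D.F.evG uW else 1) =
        tabA.el E.D i' := by
      rw [hi']
      cases e
      · exact ⟨hi64, by simp⟩
      · exact E.conj_uA hi64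
    obtain ⟨d1, d2⟩ := E.dA_spec l hd.1
    have c1 := (tabA_ok.iv k hk).1
    refine tabA_ok.el_inj E.D (tabA_ok.mu _ (tabA_ok.mu _ c1 _ d1).1 _ hk).1 hi64 ?_
    rw [← tabA_ok.el_mul E.D (tabA_ok.mu _ c1 _ d1).1 hk, ← tabA_ok.el_mul E.D c1 d1, tabA_ok.el_iv E.D hk,
      ← d2, ← hd.2]
    have := hel i hi
    rw [he] at this
    set c := (bif e then E.D.F.evG uW else 1)
    calc (tabA.el E.D k)⁻¹ * ((E.dEl l)⁻¹ * (c⁻¹ * tabA.el E.D i * c) * E.dEl l) * tabA.el E.D k
        = (c * E.dEl l * tabA.el E.D k)⁻¹ * (tabA.el E.D i * (c * E.dEl l * tabA.el E.D k)) := by group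
      _ = tabA.el E.D i := by rw [← this]; group
  rcases hc e (by cases e <;> simp) l hl k hk with h0 | ⟨h0, h1⟩
  · rw [hfix] at h0; exact Bool.noConfusion h0
  rw [List.isEmpty_iff] at h0
  subst h0
  have hxw : x = E.D.F.evG ((bif e then uW else []) ++ tabA.word k) := by
    rw [he, Frame.evG_append]
    cases e <;> simp [dEl, Frame.evG, RTable.el]
  have hcl : ∀ z ∈ (bif e then uW else []) ++ tabA.word k, z < 10 := by
    refine lt10_append ?_ (tabA_ok.word_lt k)
    cases e
    · simp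
    · exact uW_lt
  rcases h1 with h1 | h1
  · exfalso
    refine h1 (E.D.evM_eq (lt10_append uW_lt hcl) (lt10_append hcl uW_lt) ?_)
    rw [Frame.evG_append, ← hxw, ← hxu, hxw, ← Frame.evG_append]
  · rw [List.contains_iff_mem] at h1
    have hidx : uList.idxOf (bif e then 1 else 0, k) < uList.length := List.idxOf_lt_length_iff.2 h1
    have hget : uList.getD (uList.idxOf (bif e then 1 else 0, k)) (0, 0) = (bif e then 1 else 0, k) := by
      rw [List.getD_eq_getElem _ _ hidx, List.getElem_idxOf hidx]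
    refine ⟨_, hlen ▸ hidx, ?_⟩
    rw [hxw, uEl, uWord, hget]
    cases e <;> rfl

/-- An element acting on the sixteen elements with order five and one fixed point has order five. -/
theorem pow_five_eq_one {w : G} (P : ℕ → ℕ)
    (hw : ∀ j < 16, P j < 16 ∧ w⁻¹ * uEl E.D j * w = uEl E.D (P j))
    (h5 : ((List.range 16).all fun j => P (P (P (P (P j)))) == j && (!(P j == j) || j == 0)) = true) :
    w ^ 5 = 1 := by
  simp only [List.all_eq_true, List.mem_range, Bool.and_eq_true, Bool.or_eq_true, Bool.not_eq_true',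
    beq_iff_eq, beq_eq_false_iff_ne] at h5
  obtain ⟨j, hj, he⟩ := E.eq_uEl_of_centralizes (x := w ^ 5) fun j hj => by
    obtain ⟨a1, b1⟩ := hw j hj
    obtain ⟨a2, b2⟩ := hw _ a1
    obtain ⟨a3, b3⟩ := hw _ a2
    obtain ⟨a4, b4⟩ := hw _ a3
    obtain ⟨a5, b5⟩ := hw _ a4
    rw [(h5 j hj).1, ← b4, ← b3, ← b2, ← b1] at b5
    conv_lhs => rw [← b5]
    simp only [pow_succ, pow_zero, one_mul]
    group
  obtain ⟨a1, b1⟩ := hw j hj
  have e : w⁻¹ * w ^ 5 * w = w ^ 5 := by group
  rw [he, b1] at e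
  have hj0 := ((h5 j hj).2.resolve_left fun hne => hne (uEl_inj E.D a1 hj e))
  rw [he, hj0, uEl, uList_facts.2.1]
  rfl

end HFrame

end Cfsg.Agent.HSType
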