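/-
The relations of the amalgam hold in the recognised group.
Main definition: `HFrame.fHS`.
Main result: `HFrame.rels_hold`.
-/
import Cfsg.Agent.Lib.HSType.UNorm
import Cfsg.Agent.Lib.HSType.AmalgamRels

set_option autoImplicit false
set_option maxRecDepth 100000
set_option Elab.async false
set_option synthInstance.maxSize 4096
set_option linter.unusedSectionVars false

namespace Cfsg.Agent.HSType

/-- The normalising words of the two long relations. -/
def m0W : List ℕ := [8, 6, 8, 6, 8, 8, 6, 8, 8]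

/-- See `m0W`. -/
def m1W : List ℕ := [6, 4, 8, 6, 8, 6, 8, 8, 6, 8, 6, 8]

/-- See `m0W`. -/
def m2W : List ℕ := [6, 8, 6, 8, 6, 8, 8, 6, 8, 0, 6, 8, 6]

/-- The five repeats of a word. -/
def five (l : List ℕ) : List ℕ := l ++ l ++ l ++ l ++ l

theorem five_eq : relsHS.getD 22 [] = five ([10] ++ m0W) ∧
    relsHS.getD 23 [] = five ([10] ++ m1W ++ [10] ++ m2W) := by decide +kernel

theorem five_ok : mOK m0W = true ∧ mOK m1W = true ∧ mOK m2W = true := by decide +kernel

theorem five_perm : ((List.range 16).all fun j =>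
      let P := fun j => mP m0W (hP j)
      P (P (P (P (P j)))) == j && (!(P j == j) || j == 0)) = true ∧
    ((List.range 16).all fun j =>
      let P := fun j => mP m2W (hP (mP m1W (hP j)))
      P (P (P (P (P j)))) == j && (!(P j == j) || j == 0)) = true := by decide +kernel

theorem relsHS_length : relsHS.length = 24 := by decide +kernel

theorem frame_rels : ((relsHS.take 16).all fun r =>
    r.all (fun z => Nat.blt z 10) && decide (evM r = mone)) = true := by decide +kernel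

theorem outer_rels :
    evM ([2, 4, 4] : List ℕ) = evM (tabA.word (tabA.g 0)) ∧ evM ([6] : List ℕ) = evM (tabA.word (tabA.g 1)) ∧
    evM (tabA.word (alTrue.getD (tabA.g 0) 0) ++ [5, 5, 3, 5, 5, 3, 5, 5, 3]) = mone ∧
    evM (tabA.word (alTrue.getD (tabA.g 1) 0) ++ [7]) = mone ∧
    evM (rhoW ++ [9, 7, 9, 7, 9, 7, 9, 9, 7, 9]) = mone ∧
    evM (uW ++ tabA.word tabA.t ++ [5, 5, 3, 5, 5, 3, 9, 7, 9, 9]) = mone ∧ tabA.g 0 < 64 ∧ tabA.g 1 < 64 := by
  decide +kernel

variable {G : Type*} [Group G] [Finite G] {S : Setting G}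

namespace HFrame

variable (E : HFrame S)

/-- The values of the letters. -/
def fHS (z : ℕ) : G := if z < 10 then E.D.F.letG z else if z = 10 then E.h else E.h⁻¹

theorem fHS_inv : ∀ i < 6, E.fHS (2 * i + 1) = (E.fHS (2 * i))⁻¹ := by
  intro i hi
  interval_cases i <;> rfl

theorem evp_fHS {l : List ℕ} (hl : ∀ z ∈ l, z < 10) : evp E.fHS l = E.D.F.evG l := by
  rw [Frame.evG_eq_evp]
  exact evp_congr l fun z hz => if_pos (hl z hz)

theorem evp_ten : evp E.fHS [10] = E.h := mul_one _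

theorem evp_conj {l k : List ℕ} (hl : ∀ z ∈ l, z < 10) (hk : ∀ z ∈ k, z < 10) :
    evp E.fHS (11 :: (l ++ 10 :: k)) = E.h⁻¹ * E.D.F.evG l * E.h * E.D.F.evG k := by
  show E.h⁻¹ * evp E.fHS (l ++ 10 :: k) = _
  rw [evp_append, E.evp_fHS hl]
  show E.h⁻¹ * (E.D.F.evG l * (E.h * evp E.fHS k)) = _
  rw [E.evp_fHS hk]
  group

theorem conj_table_rel {g a : ℕ} {l k : List ℕ} (hg : g < 64) (hl : ∀ z ∈ l, z < 10) (hk : ∀ z ∈ k, z < 10)
    (h1 : evM l = evM (tabA.word g)) (ha : alTrue.getD g 0 = a) (h2 : evM (tabA.word a ++ k) = mone) :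
    evp E.fHS (11 :: (l ++ 10 :: k)) = 1 := by
  rw [E.evp_conj hl hk, E.evG_eq hl (tabA_ok.word_lt g) h1,
    show E.D.F.evG (tabA.word g) = tabA.el E.D g from rfl, E.hal g hg, ha, RTable.el, ← Frame.evG_append]
  exact E.D.F.evG_eq_one _ (lt10_append (tabA_ok.word_lt a) hk) h2

theorem step (m : List ℕ) (hm : mOK m = true) {j : ℕ} (hj : j < 16) :
    mP m (hP j) < 16 ∧
      (E.h * E.D.F.evG m)⁻¹ * uEl E.D j * (E.h * E.D.F.evG m) = uEl E.D (mP m (hP j)) := by
  obtain ⟨a1, b1⟩ := E.conj_hP hj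
  obtain ⟨a2, b2⟩ := conj_mP E.D hm a1
  refine ⟨a2, ?_⟩
  rw [← b2, ← b1]
  group

theorem rels_hold : ∀ r ∈ relsHS, evp E.fHS r = 1 := by
  intro r hr
  obtain ⟨i, hi, rfl⟩ := List.getElem_of_mem hr
  rw [relsHS_length] at hi
  rw [← List.getD_eq_getElem relsHS [] (by rw [relsHS_length]; exact hi)]
  rcases Nat.lt_or_ge i 16 with h16 | h16
  · have h := frame_rels
    simp only [List.all_eq_true, Bool.and_eq_true, Nat.blt_eq, decide_eq_true_eq] at h
    have hmem : relsHS.getD i [] ∈ relsHS.take 16 := by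
      rw [List.getD_eq_getElem relsHS [] (by rw [relsHS_length]; exact hi)]
      exact List.mem_take_iff_getElem.2 ⟨i, by rw [relsHS_length]; omega, rfl⟩
    obtain ⟨h1, h2⟩ := h _ hmem
    rw [E.evp_fHS h1]
    exact E.D.F.evG_eq_one _ h1 h2
  obtain ⟨o1, o2, o3, o4, o5, o6, g0, g1⟩ := outer_rels
  obtain ⟨f22, f23⟩ := five_eq
  obtain ⟨k0, k1, k2⟩ := five_ok
  have hlt : ∀ {m : List ℕ}, mOK m = true → ∀ z ∈ m, z < 10 := by
    intro m hm
    simp only [mOK, Bool.and_eq_true, List.all_eq_true, Nat.blt_eq] at hm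
    exact hm.1
  have h5 : ∀ l : List ℕ, evp E.fHS (five l) = evp E.fHS l ^ 5 := by
    intro l
    simp only [five, evp_append, pow_succ, pow_zero, one_mul]
  interval_cases i
  · exact E.conj_table_rel (l := [2, 4, 4]) g0 (by decide) (by decide) o1 rfl o3
  · exact E.conj_table_rel (l := [6]) g1 (by decide) (by decide) o2 rfl o4
  · show evp E.fHS (11 :: (rhoW ++ 10 :: [9, 7, 9, 7, 9, 7, 9, 9, 7, 9])) = 1
    rw [E.evp_conj rhoW_lt (by decide), E.hρ, ← Frame.evG_append]
    exact E.D.F.evG_eq_one _ (by decide) o5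
  · show evp E.fHS (([10] ++ sW) ++ ([10] ++ sW) ++ ([10] ++ sW)) = 1
    simp only [evp_append, E.evp_ten, E.evp_fHS sW_lt]
    rw [← E.hs, pow_three']
  · show E.h * (E.h * 1) = 1
    rw [mul_one, E.h_sq]
  · show evp E.fHS (11 :: (uW ++ 10 :: [5, 5, 3, 5, 5, 3, 9, 7, 9, 9])) = 1
    rw [E.evp_conj uW_lt (by decide), E.conj_u, ← tabA_ok.el_t E.D, RTable.el, ← Frame.evG_append,
      ← Frame.evG_append]
    exact E.D.F.evG_eq_one _ (lt10_append (lt10_append uW_lt (tabA_ok.word_lt _)) (by decide)) o6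
  · rw [f22, h5, evp_append, E.evp_ten, E.evp_fHS (hlt k0)]
    exact E.pow_five_eq_one (fun j => mP m0W (hP j)) (fun j hj => E.step m0W k0 hj) five_perm.1
  · rw [f23, h5]
    simp only [evp_append, E.evp_ten, E.evp_fHS (hlt k1), E.evp_fHS (hlt k2)]
    refine E.pow_five_eq_one (fun j => mP m2W (hP (mP m1W (hP j)))) (fun j hj => ?_) five_perm.2
    obtain ⟨a1, b1⟩ := E.step m1W k1 hj
    obtain ⟨a2, b2⟩ := E.step m2W k2 a1
    refine ⟨a2, ?_⟩
    rw [← b2, ← b1]
    group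

end HFrame

end Cfsg.Agent.HSType
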